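import Cfsg.Agent.Fisch.F24.X
import Cfsg.Agent.Fisch.St.SubT
import Cfsg.Agent.Fisch.F24.Tu

set_option autoImplicit false
set_option maxRecDepth 1000000
set_option maxHeartbeats 0
set_option Elab.async false

namespace CF.Fisch.F24.L2

open CF.Comp CF.Fisch CF.Fisch.F24 Subgroup
open scoped Pointwise

noncomputable def a_gs : List (List Nat) := [[(nat_lit 23), (nat_lit 33), (nat_lit 37), (nat_lit 43), (nat_lit 45), (nat_lit 39), (nat_lit 15), (nat_lit 33), (nat_lit 38), (nat_lit 42), (nat_lit 17), (nat_lit 7), (nat_lit 37), (nat_lit 33), (nat_lit 37)],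
  [(nat_lit 23), (nat_lit 29), (nat_lit 23), (nat_lit 30), (nat_lit 15), (nat_lit 29), (nat_lit 23), (nat_lit 42), (nat_lit 38), (nat_lit 17), (nat_lit 15), (nat_lit 40), (nat_lit 37), (nat_lit 40), (nat_lit 9), (nat_lit 38), (nat_lit 38)],
  [(nat_lit 44), (nat_lit 17), (nat_lit 37), (nat_lit 19), (nat_lit 30), (nat_lit 19), (nat_lit 39), (nat_lit 5), (nat_lit 21), (nat_lit 39), (nat_lit 21), (nat_lit 23), (nat_lit 37), (nat_lit 23), (nat_lit 19), (nat_lit 35), (nat_lit 38), (nat_lit 39)],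
  [(nat_lit 5), (nat_lit 15), (nat_lit 27), (nat_lit 30), (nat_lit 5), (nat_lit 42), (nat_lit 45), (nat_lit 1), (nat_lit 11), (nat_lit 13), (nat_lit 17), (nat_lit 15), (nat_lit 38), (nat_lit 17), (nat_lit 11), (nat_lit 36), (nat_lit 21), (nat_lit 35)],
  [(nat_lit 29), (nat_lit 25), (nat_lit 33), (nat_lit 36), (nat_lit 30), (nat_lit 13), (nat_lit 43), (nat_lit 36), (nat_lit 39), (nat_lit 9), (nat_lit 42), (nat_lit 15), (nat_lit 13), (nat_lit 39), (nat_lit 35), (nat_lit 41), (nat_lit 40), (nat_lit 38)],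
  [(nat_lit 44), (nat_lit 40), (nat_lit 46), (nat_lit 21), (nat_lit 11), (nat_lit 41), (nat_lit 38), (nat_lit 7), (nat_lit 23), (nat_lit 19), (nat_lit 36), (nat_lit 17), (nat_lit 36), (nat_lit 9), (nat_lit 7)],
  [(nat_lit 28), (nat_lit 3), (nat_lit 27), (nat_lit 27), (nat_lit 26), (nat_lit 11), (nat_lit 38), (nat_lit 9), (nat_lit 39), (nat_lit 7), (nat_lit 37), (nat_lit 40), (nat_lit 38), (nat_lit 9), (nat_lit 39), (nat_lit 19), (nat_lit 36)],
  [(nat_lit 25), (nat_lit 30), (nat_lit 30), (nat_lit 13), (nat_lit 36), (nat_lit 44), (nat_lit 42), (nat_lit 40), (nat_lit 11), (nat_lit 13), (nat_lit 38), (nat_lit 40), (nat_lit 37), (nat_lit 21), (nat_lit 39), (nat_lit 39), (nat_lit 7)],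
  [(nat_lit 26), (nat_lit 30), (nat_lit 27), (nat_lit 37), (nat_lit 15), (nat_lit 28), (nat_lit 9), (nat_lit 33), (nat_lit 41), (nat_lit 9), (nat_lit 33), (nat_lit 39), (nat_lit 33), (nat_lit 42), (nat_lit 36), (nat_lit 33), (nat_lit 11)],
  [(nat_lit 30), (nat_lit 7), (nat_lit 38), (nat_lit 7), (nat_lit 38), (nat_lit 21), (nat_lit 5), (nat_lit 32), (nat_lit 9), (nat_lit 39), (nat_lit 41), (nat_lit 19), (nat_lit 42), (nat_lit 19), (nat_lit 33), (nat_lit 9), (nat_lit 40), (nat_lit 17), (nat_lit 39)],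
  [(nat_lit 11), (nat_lit 45), (nat_lit 11), (nat_lit 46), (nat_lit 5), (nat_lit 11), (nat_lit 21)],
  [(nat_lit 46), (nat_lit 15), (nat_lit 42), (nat_lit 43), (nat_lit 11), (nat_lit 9), (nat_lit 42), (nat_lit 40), (nat_lit 11), (nat_lit 42), (nat_lit 21), (nat_lit 7), (nat_lit 33), (nat_lit 19), (nat_lit 15), (nat_lit 9)],
  [(nat_lit 42), (nat_lit 40), (nat_lit 38), (nat_lit 33), (nat_lit 5), (nat_lit 33), (nat_lit 37), (nat_lit 39), (nat_lit 41), (nat_lit 13)],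
  [(nat_lit 1), (nat_lit 13)],
  [(nat_lit 11), (nat_lit 45), (nat_lit 11), (nat_lit 46), (nat_lit 5), (nat_lit 11), (nat_lit 36), (nat_lit 42), (nat_lit 17), (nat_lit 41), (nat_lit 35), (nat_lit 13)],
  [(nat_lit 5), (nat_lit 36), (nat_lit 42), (nat_lit 17), (nat_lit 41), (nat_lit 35)],
  [(nat_lit 39), (nat_lit 21), (nat_lit 39), (nat_lit 35), (nat_lit 5), (nat_lit 7), (nat_lit 33), (nat_lit 9), (nat_lit 37), (nat_lit 42), (nat_lit 42), (nat_lit 11), (nat_lit 38), (nat_lit 19), (nat_lit 13), (nat_lit 41)],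
  [(nat_lit 33), (nat_lit 23), (nat_lit 39), (nat_lit 5), (nat_lit 40), (nat_lit 23), (nat_lit 33), (nat_lit 21), (nat_lit 13), (nat_lit 9)],
  [(nat_lit 11), (nat_lit 45), (nat_lit 11), (nat_lit 46), (nat_lit 1), (nat_lit 11), (nat_lit 13), (nat_lit 33), (nat_lit 13), (nat_lit 39), (nat_lit 7), (nat_lit 40), (nat_lit 13), (nat_lit 33)],
  [(nat_lit 39), (nat_lit 21), (nat_lit 17), (nat_lit 40), (nat_lit 5), (nat_lit 17), (nat_lit 39), (nat_lit 21), (nat_lit 17), (nat_lit 40)],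
  [(nat_lit 11), (nat_lit 45), (nat_lit 11), (nat_lit 46), (nat_lit 11), (nat_lit 9), (nat_lit 21), (nat_lit 33), (nat_lit 13), (nat_lit 39), (nat_lit 7), (nat_lit 40), (nat_lit 13), (nat_lit 33)],
  [(nat_lit 38), (nat_lit 7), (nat_lit 33), (nat_lit 43), (nat_lit 15), (nat_lit 39), (nat_lit 9), (nat_lit 33), (nat_lit 11), (nat_lit 9), (nat_lit 39), (nat_lit 35), (nat_lit 42), (nat_lit 17), (nat_lit 42)]]
noncomputable def a_zs : List (List Nat) := []
noncomputable def a_pc : List PcS := [⟨(nat_lit 2), [(nat_lit 9), (nat_lit 11), (nat_lit 19), (nat_lit 21), (nat_lit 27), (nat_lit 31)], []⟩,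
  ⟨(nat_lit 2), [(nat_lit 15), (nat_lit 21), (nat_lit 23), (nat_lit 25), (nat_lit 29), (nat_lit 33), (nat_lit 35), (nat_lit 37), (nat_lit 39)], [[(nat_lit 5), (nat_lit 9), (nat_lit 13), (nat_lit 15), (nat_lit 17), (nat_lit 19), (nat_lit 21), (nat_lit 23), (nat_lit 25), (nat_lit 27), (nat_lit 29), (nat_lit 31), (nat_lit 33), (nat_lit 39)]]⟩,
  ⟨(nat_lit 2), [(nat_lit 3), (nat_lit 5), (nat_lit 7), (nat_lit 11), (nat_lit 13), (nat_lit 15), (nat_lit 17), (nat_lit 23), (nat_lit 25), (nat_lit 29), (nat_lit 31)], [[(nat_lit 3), (nat_lit 11), (nat_lit 13), (nat_lit 25), (nat_lit 29), (nat_lit 33), (nat_lit 37)],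
  [(nat_lit 3), (nat_lit 5), (nat_lit 7), (nat_lit 9), (nat_lit 13), (nat_lit 19), (nat_lit 21), (nat_lit 23), (nat_lit 29), (nat_lit 33), (nat_lit 35), (nat_lit 37)]]⟩,
  ⟨(nat_lit 2), [(nat_lit 5), (nat_lit 9), (nat_lit 13), (nat_lit 15), (nat_lit 19), (nat_lit 21), (nat_lit 25), (nat_lit 29), (nat_lit 33)], [[(nat_lit 3), (nat_lit 7), (nat_lit 13), (nat_lit 15), (nat_lit 23), (nat_lit 25), (nat_lit 27), (nat_lit 31)],
  [(nat_lit 1), (nat_lit 3), (nat_lit 5), (nat_lit 7), (nat_lit 17), (nat_lit 21), (nat_lit 23), (nat_lit 25), (nat_lit 29), (nat_lit 31)],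
  [(nat_lit 1), (nat_lit 3), (nat_lit 17), (nat_lit 27), (nat_lit 29), (nat_lit 35)]]⟩,
  ⟨(nat_lit 2), [(nat_lit 9), (nat_lit 23), (nat_lit 29), (nat_lit 33)], [[(nat_lit 7), (nat_lit 9), (nat_lit 15), (nat_lit 19), (nat_lit 21), (nat_lit 25), (nat_lit 33)],
  [(nat_lit 5), (nat_lit 9), (nat_lit 11), (nat_lit 13), (nat_lit 15), (nat_lit 27)],
  [(nat_lit 7), (nat_lit 9), (nat_lit 15), (nat_lit 21), (nat_lit 23), (nat_lit 27), (nat_lit 31)],
  [(nat_lit 7), (nat_lit 9), (nat_lit 15), (nat_lit 17), (nat_lit 19), (nat_lit 25), (nat_lit 27), (nat_lit 29), (nat_lit 31)]]⟩,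
  ⟨(nat_lit 2), [(nat_lit 31)], [[(nat_lit 3), (nat_lit 5), (nat_lit 9), (nat_lit 11), (nat_lit 15), (nat_lit 25), (nat_lit 27)],
  [(nat_lit 23), (nat_lit 27), (nat_lit 29), (nat_lit 31)],
  [(nat_lit 3), (nat_lit 5), (nat_lit 7), (nat_lit 9), (nat_lit 11), (nat_lit 15), (nat_lit 17), (nat_lit 19), (nat_lit 23), (nat_lit 25), (nat_lit 29)],
  [(nat_lit 3), (nat_lit 5), (nat_lit 7), (nat_lit 9), (nat_lit 11), (nat_lit 15), (nat_lit 23), (nat_lit 25), (nat_lit 29)],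
  [(nat_lit 7), (nat_lit 21), (nat_lit 25), (nat_lit 27), (nat_lit 29), (nat_lit 31)]]⟩,
  ⟨(nat_lit 2), [(nat_lit 15), (nat_lit 17), (nat_lit 23), (nat_lit 27), (nat_lit 29)], [[(nat_lit 1), (nat_lit 3), (nat_lit 7), (nat_lit 9), (nat_lit 13), (nat_lit 15), (nat_lit 17), (nat_lit 23), (nat_lit 25), (nat_lit 27)],
  [(nat_lit 1), (nat_lit 5), (nat_lit 7), (nat_lit 9), (nat_lit 17), (nat_lit 19), (nat_lit 27)],
  [(nat_lit 1), (nat_lit 5), (nat_lit 7), (nat_lit 9), (nat_lit 13), (nat_lit 23), (nat_lit 25)],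
  [(nat_lit 17), (nat_lit 25), (nat_lit 27), (nat_lit 29)],
  [(nat_lit 13), (nat_lit 17), (nat_lit 19), (nat_lit 25), (nat_lit 27)],
  [(nat_lit 15), (nat_lit 17), (nat_lit 21), (nat_lit 27)]]⟩,
  ⟨(nat_lit 2), [(nat_lit 13), (nat_lit 15), (nat_lit 17), (nat_lit 19), (nat_lit 21), (nat_lit 23)], [[(nat_lit 3), (nat_lit 11), (nat_lit 17), (nat_lit 19), (nat_lit 21), (nat_lit 23), (nat_lit 25)],
  [(nat_lit 9), (nat_lit 11), (nat_lit 13), (nat_lit 17), (nat_lit 21), (nat_lit 23), (nat_lit 25)],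
  [(nat_lit 9), (nat_lit 13), (nat_lit 15), (nat_lit 19), (nat_lit 21), (nat_lit 27)],
  [(nat_lit 13), (nat_lit 19), (nat_lit 23), (nat_lit 25)],
  [(nat_lit 11), (nat_lit 13), (nat_lit 17), (nat_lit 21)],
  [(nat_lit 19), (nat_lit 23), (nat_lit 25)],
  [(nat_lit 17), (nat_lit 19), (nat_lit 23), (nat_lit 25), (nat_lit 27)]]⟩,
  ⟨(nat_lit 2), [(nat_lit 15), (nat_lit 17), (nat_lit 23)], [[(nat_lit 1), (nat_lit 9), (nat_lit 11), (nat_lit 13), (nat_lit 15), (nat_lit 23)],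
  [(nat_lit 1), (nat_lit 11), (nat_lit 15), (nat_lit 17), (nat_lit 19), (nat_lit 25)],
  [(nat_lit 1), (nat_lit 9), (nat_lit 13), (nat_lit 17), (nat_lit 19), (nat_lit 21), (nat_lit 23)],
  [(nat_lit 9), (nat_lit 15), (nat_lit 21), (nat_lit 25)],
  [(nat_lit 13), (nat_lit 17), (nat_lit 21), (nat_lit 23)],
  [(nat_lit 15), (nat_lit 17), (nat_lit 23)],
  [(nat_lit 19), (nat_lit 21)],
  [(nat_lit 11), (nat_lit 13), (nat_lit 19)]]⟩,
  ⟨(nat_lit 2), [], [[(nat_lit 13), (nat_lit 19), (nat_lit 21), (nat_lit 23)],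
  [(nat_lit 13), (nat_lit 15)],
  [(nat_lit 13), (nat_lit 17), (nat_lit 19), (nat_lit 23)],
  [(nat_lit 13), (nat_lit 15), (nat_lit 17), (nat_lit 19), (nat_lit 23)],
  [],
  [(nat_lit 23)],
  [(nat_lit 15), (nat_lit 17), (nat_lit 19)],
  [(nat_lit 15), (nat_lit 19), (nat_lit 23)],
  [(nat_lit 17), (nat_lit 19), (nat_lit 21), (nat_lit 23)]]⟩,
  ⟨(nat_lit 2), [], [[(nat_lit 21)],
  [(nat_lit 11), (nat_lit 17), (nat_lit 19)],
  [(nat_lit 9), (nat_lit 15), (nat_lit 17)],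
  [(nat_lit 9), (nat_lit 11)],
  [(nat_lit 11), (nat_lit 15)],
  [(nat_lit 11), (nat_lit 15), (nat_lit 19), (nat_lit 21)],
  [(nat_lit 11), (nat_lit 15), (nat_lit 19), (nat_lit 21)],
  [(nat_lit 21)],
  [(nat_lit 17), (nat_lit 19), (nat_lit 21)],
  []]⟩,
  ⟨(nat_lit 2), [], [[(nat_lit 5), (nat_lit 7), (nat_lit 9), (nat_lit 17)],
  [(nat_lit 1), (nat_lit 3), (nat_lit 7), (nat_lit 17), (nat_lit 19)],
  [(nat_lit 1), (nat_lit 3), (nat_lit 5), (nat_lit 9), (nat_lit 15), (nat_lit 19)],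
  [(nat_lit 3), (nat_lit 5), (nat_lit 7), (nat_lit 9), (nat_lit 11), (nat_lit 15), (nat_lit 17), (nat_lit 19)],
  [(nat_lit 3), (nat_lit 5), (nat_lit 7), (nat_lit 13), (nat_lit 15)],
  [(nat_lit 11), (nat_lit 15), (nat_lit 19)],
  [(nat_lit 13)],
  [(nat_lit 5), (nat_lit 7), (nat_lit 11), (nat_lit 13)],
  [(nat_lit 5), (nat_lit 7), (nat_lit 11), (nat_lit 13), (nat_lit 17), (nat_lit 19)],
  [(nat_lit 11), (nat_lit 13), (nat_lit 19)],
  []]⟩,
  ⟨(nat_lit 2), [], [[(nat_lit 1), (nat_lit 5), (nat_lit 7), (nat_lit 9)],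
  [(nat_lit 3), (nat_lit 9), (nat_lit 15)],
  [(nat_lit 1), (nat_lit 3), (nat_lit 7), (nat_lit 11), (nat_lit 17)],
  [(nat_lit 1), (nat_lit 7), (nat_lit 13), (nat_lit 17)],
  [(nat_lit 5), (nat_lit 7), (nat_lit 9), (nat_lit 13), (nat_lit 17)],
  [(nat_lit 9), (nat_lit 11)],
  [(nat_lit 3), (nat_lit 5), (nat_lit 7)],
  [(nat_lit 7), (nat_lit 11), (nat_lit 13), (nat_lit 15), (nat_lit 17)],
  [(nat_lit 7), (nat_lit 9), (nat_lit 11), (nat_lit 17)],
  [(nat_lit 11), (nat_lit 13), (nat_lit 15), (nat_lit 17)],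
  [],
  []]⟩,
  ⟨(nat_lit 2), [], [[(nat_lit 1), (nat_lit 3), (nat_lit 7), (nat_lit 9), (nat_lit 15)],
  [(nat_lit 1), (nat_lit 5), (nat_lit 15)],
  [(nat_lit 1), (nat_lit 5), (nat_lit 7), (nat_lit 9), (nat_lit 11), (nat_lit 13)],
  [(nat_lit 1), (nat_lit 3), (nat_lit 7), (nat_lit 13), (nat_lit 15)],
  [(nat_lit 7), (nat_lit 15)],
  [(nat_lit 7), (nat_lit 9)],
  [],
  [(nat_lit 9), (nat_lit 13)],
  [(nat_lit 9), (nat_lit 13)],
  [(nat_lit 13)],
  [],
  [],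
  []]⟩,
  ⟨(nat_lit 2), [], [[(nat_lit 3), (nat_lit 5), (nat_lit 7), (nat_lit 9), (nat_lit 11), (nat_lit 13)],
  [(nat_lit 11), (nat_lit 13)],
  [(nat_lit 9)],
  [(nat_lit 3), (nat_lit 7), (nat_lit 9)],
  [(nat_lit 9), (nat_lit 13)],
  [(nat_lit 7), (nat_lit 9)],
  [(nat_lit 7)],
  [(nat_lit 13)],
  [(nat_lit 11), (nat_lit 13)],
  [(nat_lit 13)],
  [],
  [],
  [],
  []]⟩,
  ⟨(nat_lit 2), [], [[(nat_lit 1), (nat_lit 7), (nat_lit 9)],
  [(nat_lit 1), (nat_lit 5), (nat_lit 9), (nat_lit 11)],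
  [(nat_lit 1), (nat_lit 5), (nat_lit 7)],
  [(nat_lit 1), (nat_lit 7), (nat_lit 11)],
  [(nat_lit 5), (nat_lit 7), (nat_lit 11)],
  [(nat_lit 5), (nat_lit 7), (nat_lit 11)],
  [(nat_lit 5)],
  [],
  [(nat_lit 9)],
  [],
  [],
  [],
  [],
  [],
  []]⟩,
  ⟨(nat_lit 2), [], [[(nat_lit 5)],
  [(nat_lit 9)],
  [(nat_lit 3)],
  [(nat_lit 3)],
  [(nat_lit 9)],
  [(nat_lit 9)],
  [],
  [],
  [(nat_lit 9)],
  [],
  [],
  [],
  [],
  [],
  [],
  []]⟩,
  ⟨(nat_lit 2), [], [[(nat_lit 5), (nat_lit 7)],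
  [(nat_lit 1), (nat_lit 3), (nat_lit 7)],
  [(nat_lit 1), (nat_lit 3), (nat_lit 7)],
  [(nat_lit 5)],
  [(nat_lit 5)],
  [(nat_lit 7)],
  [],
  [(nat_lit 7)],
  [(nat_lit 7)],
  [],
  [],
  [],
  [],
  [],
  [],
  [],
  []]⟩,
  ⟨(nat_lit 2), [], [[(nat_lit 3)],
  [],
  [(nat_lit 5)],
  [(nat_lit 5)],
  [(nat_lit 5)],
  [(nat_lit 5)],
  [],
  [],
  [],
  [],
  [],
  [],
  [],
  [],
  [],
  [],
  [],
  []]⟩,
  ⟨(nat_lit 2), [], [[(nat_lit 3)],
  [],
  [(nat_lit 1), (nat_lit 3)],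
  [(nat_lit 1)],
  [(nat_lit 3)],
  [(nat_lit 3)],
  [(nat_lit 3)],
  [],
  [],
  [],
  [],
  [],
  [],
  [],
  [],
  [],
  [],
  [],
  []]⟩,
  ⟨(nat_lit 2), [], [[(nat_lit 1)],
  [(nat_lit 1)],
  [(nat_lit 1)],
  [(nat_lit 1)],
  [],
  [],
  [],
  [],
  [],
  [],
  [],
  [],
  [],
  [],
  [],
  [],
  [],
  [],
  [],
  []]⟩,
  ⟨(nat_lit 2), [], [[],
  [],
  [],
  [],
  [],
  [],
  [],
  [],
  [],
  [],
  [],
  [],
  [],
  [],
  [],
  [],
  [],
  [],
  [],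
  [],
  []]⟩]
noncomputable def a_zu : List (List (List Nat)) := []
noncomputable def a_hs : List (List Nat) := [[(nat_lit 23), (nat_lit 33), (nat_lit 37), (nat_lit 43), (nat_lit 45), (nat_lit 39), (nat_lit 15), (nat_lit 33), (nat_lit 38), (nat_lit 42), (nat_lit 17), (nat_lit 7), (nat_lit 37), (nat_lit 33), (nat_lit 37)],
  [(nat_lit 23), (nat_lit 29), (nat_lit 23), (nat_lit 30), (nat_lit 15), (nat_lit 29), (nat_lit 23), (nat_lit 42), (nat_lit 38), (nat_lit 17), (nat_lit 15), (nat_lit 40), (nat_lit 37), (nat_lit 40), (nat_lit 9), (nat_lit 38), (nat_lit 38)],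
  [(nat_lit 44), (nat_lit 17), (nat_lit 37), (nat_lit 19), (nat_lit 30), (nat_lit 19), (nat_lit 39), (nat_lit 5), (nat_lit 21), (nat_lit 39), (nat_lit 21), (nat_lit 23), (nat_lit 37), (nat_lit 23), (nat_lit 19), (nat_lit 35), (nat_lit 38), (nat_lit 39)],
  [(nat_lit 5), (nat_lit 15), (nat_lit 27), (nat_lit 30), (nat_lit 5), (nat_lit 42), (nat_lit 45), (nat_lit 1), (nat_lit 11), (nat_lit 13), (nat_lit 17), (nat_lit 15), (nat_lit 38), (nat_lit 17), (nat_lit 11), (nat_lit 36), (nat_lit 21), (nat_lit 35)],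
  [(nat_lit 29), (nat_lit 25), (nat_lit 33), (nat_lit 36), (nat_lit 30), (nat_lit 13), (nat_lit 43), (nat_lit 36), (nat_lit 39), (nat_lit 9), (nat_lit 42), (nat_lit 15), (nat_lit 13), (nat_lit 39), (nat_lit 35), (nat_lit 41), (nat_lit 40), (nat_lit 38)],
  [(nat_lit 44), (nat_lit 40), (nat_lit 46), (nat_lit 21), (nat_lit 11), (nat_lit 41), (nat_lit 38), (nat_lit 7), (nat_lit 23), (nat_lit 19), (nat_lit 36), (nat_lit 17), (nat_lit 36), (nat_lit 9), (nat_lit 7)],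
  [(nat_lit 28), (nat_lit 3), (nat_lit 27), (nat_lit 27), (nat_lit 26), (nat_lit 11), (nat_lit 38), (nat_lit 9), (nat_lit 39), (nat_lit 7), (nat_lit 37), (nat_lit 40), (nat_lit 38), (nat_lit 9), (nat_lit 39), (nat_lit 19), (nat_lit 36)],
  [(nat_lit 25), (nat_lit 30), (nat_lit 30), (nat_lit 13), (nat_lit 36), (nat_lit 44), (nat_lit 42), (nat_lit 40), (nat_lit 11), (nat_lit 13), (nat_lit 38), (nat_lit 40), (nat_lit 37), (nat_lit 21), (nat_lit 39), (nat_lit 39), (nat_lit 7)],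
  [(nat_lit 26), (nat_lit 30), (nat_lit 27), (nat_lit 37), (nat_lit 15), (nat_lit 28), (nat_lit 9), (nat_lit 33), (nat_lit 41), (nat_lit 9), (nat_lit 33), (nat_lit 39), (nat_lit 33), (nat_lit 42), (nat_lit 36), (nat_lit 33), (nat_lit 11)],
  [(nat_lit 30), (nat_lit 7), (nat_lit 38), (nat_lit 7), (nat_lit 38), (nat_lit 21), (nat_lit 5), (nat_lit 32), (nat_lit 9), (nat_lit 39), (nat_lit 41), (nat_lit 19), (nat_lit 42), (nat_lit 19), (nat_lit 33), (nat_lit 9), (nat_lit 40), (nat_lit 17), (nat_lit 39)],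
  [(nat_lit 11), (nat_lit 45), (nat_lit 11), (nat_lit 46), (nat_lit 5), (nat_lit 11), (nat_lit 21)]]
noncomputable def a_u_N_0 : Net := (Net.cons (nat_lit 1) (nat_lit 0x11110404044440455541001110450444041454550150141051140401540154001405054504450501004554144544000045414000104550155155010100) (Net.cons (nat_lit 2) (nat_lit 0x2121300211230002121323201303200110123320011012003300011201120002313103131233332011223301021222020332012301232011101312110) (Net.cons (nat_lit 4) (nat_lit 0x50f080a07010a06000200080003090700020a0c0f0800080e0904000a05000305050f0606080608040a020c0c000001050500030b040b020b020100) (Net.cons (nat_lit 8) (nat_lit 0x2800430046000000530007001800c10094001f004d00fc00a40037000f00a80094000200f6002b00060004004400fc00a200830046008e00620000) (Net.cons (nat_lit 16) (nat_lit 0x20090000a21d0000800a0000f15700002ca40000187000006cb50000a8120000c8d00000de400000901000008401000010780000608900000000) (Net.cons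 (nat_lit 32) (nat_lit 0x3c0232890000000066ad2c270000000046c9c82800000000cec6806d00000000287da2e000000000198204000000000000400000) (Net.cons (nat_lit 64) (nat_lit 0x9434421704000000000000000052e8ea0246c080280000000000000000626c81fd1982040000000000000000000000020000000000) (Net.cons (nat_lit 128) (nat_lit 0x24644802800280110008000000000000000000000000000000000000011017e00000000000000000000000000) (Net.cons (nat_lit 256) (nat_lit 0x246448028002801100080000011017e00000000000000000000000000) (Net.cons (nat_lit 128) (nat_lit 0x9676cfbf68c3e8ca100cc0282d00000000000000000000000000000000737dfffd198204000000020000000000) (Net.cons (nat_lit 64) (nat_lit 0x94204a15040000000000000000efcb59928db8c18f000000000000000080a801d530b96f4500000000000000009d837e02e445fbfe) (Net.cons (nat_lit 32) (nat_lit 0x1800000000fc0b3543000000001840b824000000001d12fe27000000006ed480690000000098450c22000000001d827c0000000000c289a062) (Net.cons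 (nat_lit 16) (nat_lit 0x20090000ebd50000e0160000a7530000121b00002d18000003170000fbb200009bf000004f830000eec7000086a500000aac00000c2300002461) (Net.cons (nat_lit 8) (nat_lit 0x70004600d400c000b700cf0080002400ce008800a800f9003a002500ab00a800dc00da0065004900d9008d000a00fc000f00920061006a002b0075) (Net.cons (nat_lit 4) (nat_lit 0x4010b0d0a0301080e050a060e00000e0c060f09040a070f050d030905000f0c0e000d0a03000e000c010e0c020e040c0d0a050e0002000b0609020701) (Net.cons (nat_lit 2) (nat_lit 0x2131203001231102321100320312211301123031332231313233310010121323131033110221110001333221313231330202012201133010223310002) (Net.cons (nat_lit 1) (nat_lit 0x54550504001440414401101510440541444455500001051405415110445454555114111554055144101015145104510555145044014454111144145444) Net.nil)))))))))))))))))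
noncomputable def a_u_N_1 : Net := (Net.cons (nat_lit 1) (nat_lit 0x11045551440505044540550454045555054144511041054114004044010501541501445540005440544050445140550440000505450505144145411000) (Net.cons (nat_lit 2) (nat_lit 0x30311230210123332100032130022100331201103002031200132222001002333223313033120213131332111023021331101310211022232030321310) (Net.cons (nat_lit 4) (nat_lit 0x60402040b0102010c010c0806000e0c0802000c0d05000208040102000a0707020a04060e0e020d05000503090c0c0b030e0a0401010d0b0a06020700) (Net.cons (nat_lit 8) (nat_lit 0x4400ca00d10054002e00e2002600db00a3009700d9009300650085008b00ef0022001600ce00ea0001004a005b00bc00b900240062008000c30024) (Net.cons (nat_lit 16) (nat_lit 0xaca30000e0a4000086030000c5c30000400b000001900000caa20000489b000041850000d21100004e40000054010000281900009180000000f7) (Net.cons (nat_lit 32) (nat_lit 0x2700000000a806e00000000000b81a41c1000000004880242400000000a46684f0000000000010468000000000000008000000000045f54600)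 (Net.cons (nat_lit 64) (nat_lit 0xdad5f507e6000000000000000000122924e3ac28e200000000000000005e984ec4b8af916c00000000000000000000200000000000) (Net.cons (nat_lit 128) (nat_lit 0x3d4201041b3534d231cfe490f200000000000000000000000000000000a8ee0100000000000000000000000000) (Net.cons (nat_lit 256) (nat_lit 0x3d40002c023534d2cb1811d70cbcef8942bfeffbfd000020fad7f547f6) (Net.cons (nat_lit 128) (nat_lit 0x3d44002c0bb534b2fbdff5d7f60000000000000000000000000000000052104ebda8af2964000000ca10114704) (Net.cons (nat_lit 64) (nat_lit 0xeafff3c7f60000000000000000eaee0d3444c02c3f0000000000000000ebfe47fd908b944800000000000000000000200002102c13) (Net.cons (nat_lit 32) (nat_lit 0x5f00000000e8a6e00300000000ed89523500000000696bfa2000000000039d5acd00000000aabf676d00000000acef017c0000000066e5f956) (Net.cons (nat_lit 16) (nat_lit 0x1d5e000063f000008f2500007c170000ae08000084350000df250000003d0000c2bc00005b420000553f0000066400009522000080e0000082ff)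 (Net.cons (nat_lit 8) (nat_lit 0x3a007100ab005400000066002e00450097002f000a003a00d9003d008e0018006900a0006e004300670001004d00a4001600fc0022008000830074) (Net.cons (nat_lit 4) (nat_lit 0x108030d0b0c000e010e090e050a0e090e08040408020f0005060d010a080c060c0c07060f0d0f0e0f010f0e080b090d000f030e020500080c070a010a) (Net.cons (nat_lit 2) (nat_lit 0x32032113031112311013001223312331031011331002323002303211301103030112332111322200330102222202232231222012201221021331331022) (Net.cons (nat_lit 1) (nat_lit 0x50155111001000150404544545151404411144114441041040401014015115010104144414041410115055055505511001100155015514001405544504) Net.nil)))))))))))))))))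
noncomputable def a_u_N_2 : Net := (Net.cons (nat_lit 1) (nat_lit 0x55054514410015154140540055550401455411145551444415010140100415544440555105055454554014050400414004140501515541510545110454) (Net.cons (nat_lit 2) (nat_lit 0x30130313021100111333011022232201311221030202210300101310111202312200111100211213003121211132321203120012212023030003302200) (Net.cons (nat_lit 4) (nat_lit 0xa010f0102050e0b0405010a0c050d010a0503050d06050d0b02010f0903070e0400090207050806020a06090e0a02080d09010b000d080406000800) (Net.cons (nat_lit 8) (nat_lit 0x25003f00a40060001d00ee00e30010004a003a002e00ba003b003b00d600a900220010000c00f2006c002a006100720008008000d4005800a00049) (Net.cons (nat_lit 16) (nat_lit 0xefa60000ed680000339000004018000060a1000066100000cb96000073080000113500001e490000832f000068c80000a50800004013000000d4) (Net.cons (nat_lit 32) (nat_lit 0x1d0000000096720820000000004d36114c00000000942d9e3d000000000d84030e0000000041428d500000000087776801000000009836dd00)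 (Net.cons (nat_lit 64) (nat_lit 0xb7690dd7d700000000000000001107bd9a59c44b750000000000000000810a039a5100840000000000000000000800890000000000) (Net.cons (nat_lit 128) (nat_lit 0x45d57242300925f64c6d110fb700000000000000000000000000000000af355200000000000000000000000000) (Net.cons (nat_lit 256) (nat_lit 0xd6380ee1910a009b3926ed040bf355ef296f3082debdff7ffffffffff) (Net.cons (nat_lit 128) (nat_lit 0xd7180663910a048ffa77ed4d400000000000000000000000000000000af35562803846808808a01b3926ed040) (Net.cons (nat_lit 64) (nat_lit 0xf7ef7fdff60000000000000000c3fbfd339cc7abea0000000000000000ef35e06d221b062d0000000000000000effff345fefabe7a) (Net.cons (nat_lit 32) (nat_lit 0xcc00000000a47241910000000035faad36000000002d41acae000000004f9fe95c00000000ddbf69b60000000005a5720d00000000ffd7bc36) (Net.cons (nat_lit 16) (nat_lit 0x60600000c2090000120f000055b50000767f00002a220000ab1900007211000010050000b3fc00004d8f00006c2d0000983f0000cfe1000047fb)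 (Net.cons (nat_lit 8) (nat_lit 0x6c00b500120041003000de002c0083001e0024000300de005f001a001c00200097002f0085008200c30095004c009f007200410091000b000200e1) (Net.cons (nat_lit 4) (nat_lit 0x80502020900050e0a040e0e0106030a07060e040502010e01050b0a010d060d0b03060b0e06030f0e09000e0503000d0d0a00020e000f090707080d0a) (Net.cons (nat_lit 2) (nat_lit 0x33002022012110021303332221133321231202102121021302013323013303333210003030133321002232111223303203122011222130130120313122) (Net.cons (nat_lit 1) (nat_lit 0x55441441110455415040540054415140455404414101444014555401510150410400044411414001541010511450041555411001514144005454015451) Net.nil)))))))))))))))))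
noncomputable def a_u_N_3 : Net := (Net.cons (nat_lit 1) (nat_lit 0x14514541541005445514514040154415415044104504545440051450100015004141110500451000540155440001155401551000400045004040045440) (Net.cons (nat_lit 2) (nat_lit 0x32021311310103200120023102120020221100110310223032000110332110011212220003223020321332013203203313010321211303321211221120) (Net.cons (nat_lit 4) (nat_lit 0x50a010a01070409040007000d0e090b0b060b0d0d000b060907060301010a080002050b0a06070308080f0b0b070f04000e04000c05080d0004030400) (Net.cons (nat_lit 8) (nat_lit 0xd200b60023002600370075009f0068006c000800b200620030003e009700ca00dc006000fe005c0024004900a5000e00c20022002c00f200c40000) (Net.cons (nat_lit 16) (nat_lit 0x6f900002ad2000021d90000e35600002f17000067e0000000f30000b6e500005c520000adcb000000aa000030a5000006310000287400000020) (Net.cons (nat_lit 32) (nat_lit 0x10000000005806b7b200000000749270bd00000000f416966a000000009410824800000000066e094900000000a080480600000000005c0000)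 (Net.cons (nat_lit 64) (nat_lit 0x46598ab13400000000000000006c02902008f13b9900000000000000000e08858880054104000000000000000085214c0000000000) (Net.cons (nat_lit 128) (nat_lit 0xfcec1a402620cc507479120021000000000000000000000000000000000edcd100000000000000000000000000) (Net.cons (nat_lit 256) (nat_lit 0xa8b065fb1ea5e51c74791200a38fdcd5565fffbb78d13b6e0a026d7dde) (Net.cons (nat_lit 128) (nat_lit 0xfefdfffb3aa1ed4c747912402100000000000000000000000000000000548260a9b065fb1e85210c0000000082) (Net.cons (nat_lit 64) (nat_lit 0x465906b334000000000000000030f73adff9ff3de40000000000000000483d59706ba09da10000000000000000a7794e82000844c6) (Net.cons (nat_lit 32) (nat_lit 0xf3000000007fdeb3390000000070fd363100000000e7496595000000003e6ea9eb0000000030016e5a00000000a7e8444600000000aa92847e) (Net.cons (nat_lit 16) (nat_lit 0xf9ef0000a7560000af680000adb600004d160000303800003a7800006445000091ed00000b21000020b3000084650000108900001db30000037f)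 (Net.cons (nat_lit 8) (nat_lit 0x65002f0035002600410055005b002e005c002f004b008700d7007b00c600a400530084005700a7004c003e0076000c0050004d00d900f800cd0058) (Net.cons (nat_lit 4) (nat_lit 0x809030b0a020a080600040a0909030608000e050f0101050c000a0807050f0f010d0804040e0d0e000c0a0c0a0504080a04020a090c0e05030600020c) (Net.cons (nat_lit 2) (nat_lit 0x11220211323201301011133303322013011103121122130111303313033131322212332030020221110201033112202011301122311300201212200023) (Net.cons (nat_lit 1) (nat_lit 0x50050045555545005414001400511410145154555551110444144450154540541451515505554411045515114005110041011040411541044150145145) Net.nil)))))))))))))))))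
noncomputable def a_u_N_4 : Net := (Net.cons (nat_lit 1) (nat_lit 0x15505454044451555110051541501014411411040551451045045554545044445505440140040051555044514551441044141140101404100515404040) (Net.cons (nat_lit 2) (nat_lit 0x10002121331332333300211003302021002220100233103031001200302332212002310003223000010220120020102131121022100123230332132310) (Net.cons (nat_lit 4) (nat_lit 0xd050a020506010709040600080609030a0c0d0400070c05030c040c0501090a09050206000b02080f010108090e02020d010305060106080e070a0500) (Net.cons (nat_lit 8) (nat_lit 0xa4001400bc008f0088004700cf00d500cf00550094002c0092001600aa00160055005a0082000600e000c100fb00040005000d00ef004500400024) (Net.cons (nat_lit 16) (nat_lit 0xc5f4000056ce0000c84200007b430000682400008e470000b89e0000b08a000028700000acb50000164000004020000006200000493100000084) (Net.cons (nat_lit 32) (nat_lit 0xb00074cf000000002e7e6ec100000000a608a08a00000000d4731138000000000300d2c1000000001032021000000000a0600200)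 (Net.cons (nat_lit 64) (nat_lit 0x820e486010000000000000000db182eec0422e1050000000000000000020140810400200200000000000000000030040000000000) (Net.cons (nat_lit 128) (nat_lit 0x2040020c116cd9d9460b79782000000000000000000000000000000000dcbdb000000000000000000000000000) (Net.cons (nat_lit 256) (nat_lit 0x2800020d102566db46fb9d8eeedebfb0db6fedf1ef49bf0600f0e4f7de) (Net.cons (nat_lit 128) (nat_lit 0x2800020f106defdfc6fbfffffe00000000000000000000000000000000da34c0890400210001260200f08486de) (Net.cons (nat_lit 64) (nat_lit 0x8c0e492010000000000000000f7b9b6284c620d500000000000000000fefff83dc6231d3a00000000000000001000060040000d11) (Net.cons (nat_lit 32) (nat_lit 0xf400000000b050fdde00000000a064aa8f0000000012b45bc300000000d573d36300000000d689f2e1000000001412325200000000af7d132c) (Net.cons (nat_lit 16) (nat_lit 0xbaef00001758000079760000a625000028210000c6c90000e2010000394000002a3a00005d9e000087fd0000a3b100006063000082bd0000513d)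 (Net.cons (nat_lit 8) (nat_lit 0x730079009a008e00480046005700df003a0070000400db0028003f00ea00dc0061001a005b009300f1000a008300140001003f001e004a001c00e3) (Net.cons (nat_lit 4) (nat_lit 0x204050804000c030b0507090c070f0e0102070d0c010e0008040a0c06010505010305070201050d0b0b08070f000e06020a030701070e0f0b0c080504) (Net.cons (nat_lit 2) (nat_lit 0x12311023200111323232013100132232200233230213120333123202133120000302121203223132322331131331233303331133212100012001220231) (Net.cons (nat_lit 1) (nat_lit 0x41001155440514515150451100110404511544510541410045111145105010145555504550040050410054155405410550410000415500005055551055) Net.nil)))))))))))))))))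
noncomputable def a_u_N_5 : Net := (Net.cons (nat_lit 1) (nat_lit 0x4101144000410505100114414455011445015001004141100100140405011501450140010045440554150005414514054540444040044100111410050) (Net.cons (nat_lit 2) (nat_lit 0x21321312123001002110003133321203010311010023221212310012101202000321100213323220201003310332330031201030002332330033001100) (Net.cons (nat_lit 4) (nat_lit 0xc05090b0800000603000004060606010207070f0c060a01030c020e0208000a040a0a0d09090d0e0b03040807090002050e020b0c0b0e010b090e00) (Net.cons (nat_lit 8) (nat_lit 0x1900190000009b0032007c001f0028002d00610080007f00f8002f00d700140007008f005a00e4001100c800b200a000f2003c000b002800bf0000) (Net.cons (nat_lit 16) (nat_lit 0xe9b000011a00000480400006e170000c803000025eb0000020f00001441000033e300008600000000480000a00000000001000092e600000000) (Net.cons (nat_lit 32) (nat_lit 0x4ac31481000000002a18b44a00000000009e84050000000078f40d9400000000004a428000000000080000010000000000000000)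 (Net.cons (nat_lit 64) (nat_lit 0x800000200000000000000000008100b00008b404040000000000000000004a42800000000000000000000000000000000000000000) (Net.cons (nat_lit 128) (nat_lit 0x4108b40404000a020000000000000000000000000000000000000000008100a000000000000000000000000000) (Net.cons (nat_lit 256) (nat_lit 0x4108b40404000a0200000000008100a000000000000000000000000000) (Net.cons (nat_lit 128) (nat_lit 0xc108b42404480a12010004000000000000000000000000000000000000814ae280000000000000000000000000) (Net.cons (nat_lit 64) (nat_lit 0x800ac334000000000000000000cb02164328ac050c000000000000000078ff4fb60042428000000000000000000800000080003401) (Net.cons (nat_lit 32) (nat_lit 0x99000000005be39ec5000000001927ca0a000000002902b6a4000000006cb50d9c00000000864a72c800000000a800001c0000000049e3930c) (Net.cons (nat_lit 16) (nat_lit 0xe9fd0000152300004f7c00009b280000b4da000081b900006d9f0000fc510000c4bc0000c6020000102b0000b3a00000d927000092430000da25)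 (Net.cons (nat_lit 8) (nat_lit 0xfc00fe0002009b00d10068002a005e00c7007e00cc004000a60030006e0014009800b7005500560037002800c100a00039007e0050000c00fc0009) (Net.cons (nat_lit 4) (nat_lit 0xe02050604080f09040107070c05030f000b020a0a080e04030e010b0803000a040f020d07070e0f08000c0c010b0a0b0a020301020c02010702060006) (Net.cons (nat_lit 2) (nat_lit 0x21021012120331333001112020132321223023101100123121021022132212213322023200312201013101321121123200112101232002003300331133) (Net.cons (nat_lit 1) (nat_lit 0x10414411515145055100114450404501405555514415155505550140051045100410515500040155005054100500005401504100515511005444145501) Net.nil)))))))))))))))))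
noncomputable def a_u_N_6 : Net := (Net.cons (nat_lit 1) (nat_lit 0x44001404115415405500051441454500544411415155040500144105040440044504005504140010454105551000051450444411404105010005115050) (Net.cons (nat_lit 2) (nat_lit 0x13003000223112003232200011301102203231303111330320022203210012002030031002230013002330013010200020310323310120301131020120) (Net.cons (nat_lit 4) (nat_lit 0x10a0503000c00000a0301030d0e0a000e01040f0a070e060a090c010c0508000d00080f0c09040c0500090303030900020a08020e04090c040a0d0200) (Net.cons (nat_lit 8) (nat_lit 0x260088004d0042000800840025004e00f40050004a005d0025003a009500c300de008600e300c3006c008700ac0028004200740001005800710080) (Net.cons (nat_lit 16) (nat_lit 0x10a500004213000004a900001018000018af000091010000b1a80000c02c000040390000688b000081600000209100004c900000558800000000) (Net.cons (nat_lit 32) (nat_lit 0x10aa10500000000008cec22e000000003082402a000000009c43e3b900000000500021080000000050800c000000000000000000)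 (Net.cons (nat_lit 64) (nat_lit 0x50040180000000000000000000008804021040800000000000000000000f4210005000000000000000000000000000000000000000) (Net.cons (nat_lit 128) (nat_lit 0x60042e0a903000000100000000000000000000000000000000000000020900c00000000000000000000000000) (Net.cons (nat_lit 256) (nat_lit 0x460442e0a9030010001000000020900c00000000000000000000000000) (Net.cons (nat_lit 128) (nat_lit 0x16004360a9030800001000000000000000000000000000000000000000affeffb9500004000000000000000000) (Net.cons (nat_lit 64) (nat_lit 0x5314ab801000000000000000002d8e8bbd4780c510000000000000000053013218b3bc1b5600000000000000005080040082002800) (Net.cons (nat_lit 32) (nat_lit 0xfd0000000052ba10f8000000006787dace000000006faca053000000005c47e3b900000000dc47cca10000000070110444000000004ba5bc4a) (Net.cons (nat_lit 16) (nat_lit 0xeff20000fe5300006f0d00001e19000090aa0000b94a000030010000e4ed000094230000e6f40000cdcf000077990000012300007712000074c9)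 (Net.cons (nat_lit 8) (nat_lit 0x5a0019009c0042004300840045004f000600050096001100c400bd002000c300cb0001003800b9008800ab00e50028006d006e0081001a00630089) (Net.cons (nat_lit 4) (nat_lit 0x40f0503010b0a0f030e0107090c030607070e0b0703090d0e060400060d0404060f0c020c0d0b070b0e020d0c0805070c0c0d0f020701020c0f070b0e) (Net.cons (nat_lit 2) (nat_lit 0x33201232112233302220310012111333322230103001321021310221200230303303002322113031232013231112313101310031230032201021030211) (Net.cons (nat_lit 1) (nat_lit 0x55415104050450455111015440510444105141045010500505515105010014014101055545050510150045545554401100454014100104551145144044) Net.nil)))))))))))))))))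
noncomputable def a_u_N_7 : Net := (Net.cons (nat_lit 1) (nat_lit 0x50505011040010504501454054554140515515555154515405100415015400455411444544540541551145115044440050411140441005044445041144) (Net.cons (nat_lit 2) (nat_lit 0x33100321331111003030101002310203221210201122023332310120132312221101103202020021210320012102000022122021233001030001013300) (Net.cons (nat_lit 4) (nat_lit 0xe060209040a02000d060c040d0c0001000101090e060a0207070a0700060d0a0f04080f070501010301080d050d0800000b0204040905000e03010100) (Net.cons (nat_lit 8) (nat_lit 0x6800460068000600930045004f00bf0063002c0001004a0073005200de00ad00c200de001900dc002100ec00910031009100c0002b00b100740001) (Net.cons (nat_lit 16) (nat_lit 0x4e20000049300004038000055f000002a80000016940000c35200004b220000143e00002d8800003123000031820000008f0000482200000000) (Net.cons (nat_lit 32) (nat_lit 0x100000000487a2403000000005d3f97d200000000039ce02e0000000039d8b014000000000c21a53000000000000204840000000000000000)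 (Net.cons (nat_lit 64) (nat_lit 0x3000000800000000000000000b0bb100054440a050000000000000000004010000000048000000000000000004038000000000000) (Net.cons (nat_lit 128) (nat_lit 0x7cb06e9790f45ffffbffbf7fe00000000000000000000000000000000309a0400000000000000000000000000) (Net.cons (nat_lit 256) (nat_lit 0x4cb06e9f94f75ffffbffbf7febedfff33000004804038000000000000) (Net.cons (nat_lit 128) (nat_lit 0x4cb06e9790f5dfbffbffbf7fe00000000000000000000000000000000309e0400000000004020000000000000) (Net.cons (nat_lit 64) (nat_lit 0x13086224810000000000000000708b2644df06cb710000000000000000b49e0887eb9ce9b9000000000000000040380084000a4001) (Net.cons (nat_lit 32) (nat_lit 0xef000000004cfb2423000000004125c21b000000005172c1f80000000044250f0f000000002335300a00000000318004c8000000007611aaff) (Net.cons (nat_lit 16) (nat_lit 0xfb3f0000fd970000f33c000043f80000bed7000066a8000006c900002a53000021970000dbd600005e6d0000bda3000088b70000ba020000108c)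 (Net.cons (nat_lit 8) (nat_lit 0x69005200e2000600b7004000cf00bb00b0002100d100d9006e007a00b7004300d500e100cb006b005500f6007a003100d300c40061001c002400ab) (Net.cons (nat_lit 4) (nat_lit 0x3030e0c09070b090408050a07040a050a060c0607070b04070b0b000f0b0b02050008050f0109050608000e0e020701010b0307040c01070f070e0208) (Net.cons (nat_lit 2) (nat_lit 0x13103101231113200223311133032032303213002100010231111312101131123032203031220102123130333220131320122021210012111200100102) (Net.cons (nat_lit 1) (nat_lit 0x40544401140010504000551450414054145450501041005555511544044104111404144145155011101004455451554454515540455405401005004100) Net.nil)))))))))))))))))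
noncomputable def a_u_N_8 : Net := (Net.cons (nat_lit 1) (nat_lit 0x114050004400004151105404410045501454541144015000151114011444501015545010115445000445154101144015455450000511001051150010) (Net.cons (nat_lit 2) (nat_lit 0x32030311012121101002010300030103121121022231310222023310021311211222201022102000132331311113100013303320103130210133211020) (Net.cons (nat_lit 4) (nat_lit 0x20c0902020001000d0209020c070403030b030d0c060108040a0c0505040008010e0a0d0902000f000f0a00010109000007030308040402050a000000) (Net.cons (nat_lit 8) (nat_lit 0xb4002200b4009c004200f700fe00990015007e00d50051002100c000fe00d4007e0090005b008c000a004a0054002000a000200001007100220000) (Net.cons (nat_lit 16) (nat_lit 0x16f400000c0700009248000038610000776e00001d090000c0630000342900009a07000044010000a28a0000000d000001a30000a9a000000000) (Net.cons (nat_lit 32) (nat_lit 0x100000000092ec450400000000b99b764c000000000a18b51a000000003225c509000000000492d90000000000000000200000000000000000)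 (Net.cons (nat_lit 64) (nat_lit 0x400000000000000000000000002a445000016100a0000000000000000200080090000000000000000000000009200450000000000) (Net.cons (nat_lit 128) (nat_lit 0x69c7aa0566df3baffefadfffd00000000000000000000000000000000120d4500000000000000000000000000) (Net.cons (nat_lit 256) (nat_lit 0x29c7aa056fff3fbffefadfffd7fffdf0d000000209200450000000000) (Net.cons (nat_lit 128) (nat_lit 0x29c7aa056fdfbffffefadfffd00000000000000000000000000000000120d4500000000009000000000000000) (Net.cons (nat_lit 64) (nat_lit 0x1492e404000000000000000000028f45029e2a38570000000000000000009d0726bc72a51e00000000000000009200452028830100) (Net.cons (nat_lit 32) (nat_lit 0xf4000000009eef556400000000ab9354b90000000004280d13000000005bd35ab60000000022dcd56b00000000000d20620000000052a4e900) (Net.cons (nat_lit 16) (nat_lit 0x7def00006f970000ba8b00004f96000086d500007e65000061040000ce2b000042b8000026f5000097ec00008e0d000084900000fc400000f301)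 (Net.cons (nat_lit 8) (nat_lit 0x9d00a70084009c00ec00f3008b00de00ae009100ca00ed009f00e4004700ab007a00180059009500f80043000200200046000b0016009500710001) (Net.cons (nat_lit 4) (nat_lit 0xd02090d0c000c0207080b080d090c03070d060c080f040609000a0907060408040d08020d0206000d0c050d09040d0900030e0e0e06030404080b0802) (Net.cons (nat_lit 2) (nat_lit 0x10113223130032001113101100202312103333221313311023001011221120313011302311233132030003112113111223310122320303213231113230) (Net.cons (nat_lit 1) (nat_lit 0x40001001550140054005114445554400414115141551411044145105115144144555444545105441100145115144045114051111404501400011144010) Net.nil)))))))))))))))))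
noncomputable def a_u_N_9 : Net := (Net.cons (nat_lit 1) (nat_lit 0x45104410541004400010400004411544044454455051001501440154144004000014055004051040040000444445100040544004014005050544455140) (Net.cons (nat_lit 2) (nat_lit 0x10111021331001202220200011302003312202222030032032020312020010000011021030111101112010232311030022021301032010100211233100) (Net.cons (nat_lit 4) (nat_lit 0x80b0308040000000d0608000f0304000a080a02010e040b0a08030e0707070009080004040104000400040c0c08080002010c04020904080e0a0c0900) (Net.cons (nat_lit 8) (nat_lit 0xc10054000000100014005c003100030023001000ea00450092000200ca00940000005200200043003400480036000400a0000c00dc000300170000) (Net.cons (nat_lit 16) (nat_lit 0x504300000040000055a0000006d000008380000080480000a2200000848100001000000040020000948800000462000010000000080400000000) (Net.cons (nat_lit 32) (nat_lit 0x400000000054bc2c0100000000570063000000000000848400000000000220000000000000908841040000000040201c000000000000000000)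 (Net.cons (nat_lit 64) (nat_lit 0x1000000000000000000000070548c01002000000000000000000000c08841040000040000000000000000001000000000000000) (Net.cons (nat_lit 128) (nat_lit 0x910020000000800100000000000000000000000000000000000000000031548600000000000000000000000000) (Net.cons (nat_lit 256) (nat_lit 0x9100200000408001000000000031548600000000000000000000000000) (Net.cons (nat_lit 128) (nat_lit 0x9101200000542009010000000000000000000000000000000000000000b1dcc704000004001000000000000000) (Net.cons (nat_lit 64) (nat_lit 0x4051bc2400000000000000000072758e290421eb100000000000000000c288410610004400000000000000000050001c0000210000) (Net.cons (nat_lit 32) (nat_lit 0xd30000000054fc3ca10000000077a0f34200000000610d0644000000008621106800000000d08a41850000000044621c88000000002f5bf146) (Net.cons (nat_lit 16) (nat_lit 0x504300000340000057bc000006f00000010000008a6a0000b2820000ce8100001002000061420000a0880000ff620000b114000018e7000030d0)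 (Net.cons (nat_lit 8) (nat_lit 0xc2005d000000100014005c0031008300e100b000da0055009000a000fa009400600056002400470035004c006d000400b9005f00ce00030005003a) (Net.cons (nat_lit 4) (nat_lit 0xc07030c060000080d0608000f0f04000e040a06010e040b0a08010c07070d080908000504090508040204040a070f0f03000d05030b050b0e090c0b02) (Net.cons (nat_lit 2) (nat_lit 0x30222023333002302320300012303203331033222032232032002310220032020011021030111101132000302311330322221301032010303231233100) (Net.cons (nat_lit 1) (nat_lit 0x44451010541541410010400005151544445104455451041501441154144000400014055005051040041404415554510140544004014005050544455140) Net.nil)))))))))))))))))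
noncomputable def a_u_N_10 : Net := (Net.cons (nat_lit 1) (nat_lit 0x401405114105405144510011104104500110111045440055441044504450401444011401140010100500010050440000510100404151504040411000) (Net.cons (nat_lit 2) (nat_lit 0x2110303222320100111102001100013003330020231230200002222303122303000220000332000322231210010000013032012021120210200020100) (Net.cons (nat_lit 4) (nat_lit 0x508030b0208000009080600050c03010809070e0a0d000600040e0703090c00000a0b0f040808000d00000f000200000c080b0e0801020106040d0300) (Net.cons (nat_lit 8) (nat_lit 0x8100c000230012007600f2002e00590035007000eb00e600e2006000400001008e0085001000db00080022000000a6000300000028008400720000) (Net.cons (nat_lit 16) (nat_lit 0x9b0000006d000012e00000f7160000a5000000de120000000a000001100000440800009803000042200000a048000000810000073400000000) (Net.cons (nat_lit 32) (nat_lit 0x48000000000082a0040000000001c8030000000000284070100000000000088013000000004620000000000000000000000000000000000000)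 (Net.cons (nat_lit 64) (nat_lit 0x41200400800000000000000003843f800000800100000000000000000462000000000000000000000000000000000000000000000) (Net.cons (nat_lit 128) (nat_lit 0x8001044200000000000000000000000000000000000000000000038c37800000000000000000000000000) (Net.cons (nat_lit 256) (nat_lit 0x80010442000000000000038c37800000000000000000000000000) (Net.cons (nat_lit 128) (nat_lit 0x4120840184420a00000000100000000000000000000000000000000007ee37800000000000000000000000000) (Net.cons (nat_lit 64) (nat_lit 0x6d1282400800000000000000003dcbfe02a24811110000000000000000462880134420000000000000000000000000000000810000) (Net.cons (nat_lit 32) (nat_lit 0xb70000000000efb28400000000df8e2a1100000000bc405013000000000118809b00000000de23400000000000a04806000000000090209fde) (Net.cons (nat_lit 16) (nat_lit 0xffe60000a47d00001e13000084ef000021f70000169500007b410000791000003fec0000999b0000661c0000a048000087c10000af300000c022)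 (Net.cons (nat_lit 8) (nat_lit 0x43004300dc0012009b00f1005d002e007600e70078001d001d009c008c000100f0006400ef003c00f300c100bd00a600fd007c002200d3007e0018) (Net.cons (nat_lit 4) (nat_lit 0xa0d0301070f070505060a010600050e0008070e080806010c0401070f0a010c0f0c04060b0c0a0f040f0f000f02060c090c05000c090b0e01060f020e) (Net.cons (nat_lit 2) (nat_lit 0x31223030111013230222201002202223312331230133130100001111303211300332223331002333002200213312310031213230221303000000022112) (Net.cons (nat_lit 1) (nat_lit 0x1405415154105400411045544055441155441444500115500114511051105154111544114415445455015545105111111515151501140554540410444) Net.nil)))))))))))))))))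
noncomputable def a_u_N : List Net := [a_u_N_0, a_u_N_1, a_u_N_2, a_u_N_3, a_u_N_4, a_u_N_5, a_u_N_6, a_u_N_7, a_u_N_8, a_u_N_9, a_u_N_10]
noncomputable def a_u_pt : BT Nat := (BT.leaf (Nat.lor (nat_lit 0xb45845df88b9be1737aae6f45cde0b9bbd737728da551b48a368d46d026543487f090e251d1c2342f42c187e1a0fc339f8663f0c67dec4fb1a1b404368066d008d9ff9ad9730c7e5ddf8bb991769b2e0d25c0c8b81896dc02b39053a64a743947912856450ab8a0e39418b28304505fca0bf13db3276f24ede09d9f13a9a25bf84a04c93fe11f70234d6468e88b3a9158222a72454e08a9a911db2236e446a488d3111a221f5643dec87b290f1f21e0a42450824f90470200123d7c479f80f1e01e36a3c54877718eecb1dd643babc77558eea51da163b3d476740ece51d9b23b29476220e7671cec638ffc6bf28d7e21ac8c358046ac38d37c1a6b03480468ff0d1f21a3c8345e468b50d06a19ab83086460500bd4117a482f3145e040bbe71611c2b8fc56980ad221586c2b09451da8a3af145bc2871c50dd8a0dc1402a280504fbd099d113252264184c0f8975e12e1625b384b300965c1233824310485c090a7120a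0240dc481988ff811eee22cf4459808b2c1164a22c68458c88ad5115a222b00455b8870b10e0e21bf44376886b710d4a21a9041f3883b710738206d840b90815f102a41ffc43fef07fd10ff701feb43f6607e9a0fd1e1f74c3ee907d230c84a18f40316b0629a0c242181c8300185fd30bf2617e082fc085f800be9c17cc82f9885eff0bc8c178c02f1785df70bbec1727c2e4a05c4b0b8801701c2de085b8d0b71816cdc2d9b05b0f0b5c016b7c2d6085aa60b53616a102d4185a820b4a6168c82cff8592a0b21e1634c2bb2857180ae1015adc2b370566c0ac52157b02abd055790aaf01549c2a85854eb0a97a14f282934052650a41a14428280184f8e09dba12db025b504b670962612c08257e84afb095b812aa8254e843f4086e210cec219104312085fe10bf4217c842f1085a010a881ec803c08077f80eec81dd783b530765a0ec101d7103acf075500ea6c1ad103457068ac0d12019fc033f7067e80cf2819d9833a4067460cd38199402d9705a660b3f4167e02cee059c20b38016650272f04e4209c8013890224501964031f0060580bf2017d802fac05f500be9017d002f5805d700bad0171802dd005b580b360165802cac058600b090161002bd0057800aef015dc02b8c057100ab80151c02994050e009f4013e6027c404ef809d5012c0023200449807cf00f8601dc403968071700e2a01c1c035a006a900caa017b802e9805c100a6a013ec02758049d0092e010cc02178041d008100101c01fa803eb007ce00e6401c4803460067000cdc0194803130062200bf80177802ec00554009c80132802570047400898010700194002e0005b0008a001100021e003d40059800b20015e00248003d0006c000ce00164002b8003e00078000cc001180001)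 (Nat.shiftLeft (nat_lit 0x4aef8944d92899a512f4a169942b72855a4a4bc948c9290124a52491dc8bbe9177922ed645d6c89fc913e5227ae44efc89dc913ab216ae42d4c82eb8f10b1dc4e380f4701b8e0251c01e366846bf38cd79184222fea45e728bcdf1799a2f2ac5ca18ae7d15cf62b9bc52e58850510a06201cc3b508769d0d3b213a04273f83b7706e9e0c79c11487e9f6fc895f581beb027d5fef47d9ca3338bb369c6cd1635a2c3) (nat_lit 8000))))
noncomputable def a_u_pi : Nat → Nat := BT.record a_u_pt (nat_lit 10) (nat_lit 1023) (nat_lit 19) (nat_lit 524287)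
noncomputable def a_u_t0 : BT Nat := (BT.leaf (nat_lit 0xf3f9bcbe4f1f8bc3e0eff7bbbdcedf6bb3d8ebf5babd4e9f4ba3d0e7f3b9bcce5f2b93c8e3f1b8bc4e1f0b83c0dfefb7bbcddeeb73b8dbedb6bb4d9ecb63b0d7ebb5bacd5eab53a8d3e9b4ba4d1e8b43a0cfe7b3b9ccde6b3398cbe5b2b94c9e4b2390c7e3b1b8cc5e2b1388c3e1b0b84c1e0b0380bfdfafb7cbddeaf378bbddaeb74b9dcae370b7dbadb6cb5daad368b3d9acb64b1d8ac360afd7abb5cadd6ab358abd5aab54a9d4aa350a7d3a9b4ca5d2a9348a3d1a8b44a1d0a83409fcfa7b3c9dcea73389bcda6b3499cca633097cba5b2c95caa532893c9a4b2491c8a43208fc7a3b1c8dc6a33188bc5a2b1489c4a231087c3a1b0c85c2a130883c1a0b0481c0a03007fbf9fafc7dbe9f2f87bbd9eaf479bc9e2f077bb9daec75ba9d2e873b99cae471b89c2e06fb79badc6db69b2d86bb59aad469b49a2d067b399acc65b2992c863b198ac461b0982c05faf97abc5dae972b85bad96ab459ac962b057ab95aac55aa952a853a994aa451a8942a04fa793a9c4da6932984ba592a9449a49229047a391a8c45a29128843a190a8441a0902803f9f8fa7c3d9e8f2783b9d8ea74399c8e270379b8da6c359a8d26833998ca6431988c2602f978ba5c2d968b2582b958aa5429948a250279389a4c259289248239188a442190882401f8f87a3c1d8e872381b8d86a34198c86230178b85a2c158a85228138984a241188842200f8783a1c0d86832180b8582a14098482210078381a0c058281208038180a04018080200))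
noncomputable def a_u_t1 : BT Nat := (BT.leaf (nat_lit 0xf179f89e4f378fb1e1ef77eafdce9f6f65d7f075babdaea5faab32b74779bc3e67279542c3f1a81e5e172f836cb55070d69ac456b57f8a6dafb7cbd766ad7ba242edb6fa1dae6759d3e6323a5cd6831994c9e2b2ba3cde171ba6d165b3f97cee671f90d264b1d8bc4e7b434ce3eaf39379dd7ac2e8dc74b6bb4d4ee5d2ea97dd290f0a5d3a92ffd673f5bc0d56ff5eedb1ce6c50379cb2630a9d3d210f98c6cf51bbeeec76f26a7c35f91293cfa00f878bfa358087c3aa5bcdef235dce8fc7a05097b44ef30488cf6cefad86ea2d888bdd9ef01aee1307387dd6e957382dde9b47a35cb8b827ec42c15491607a1d1835a25571794fddd19df432f0ec90d7eb8f596baecb078dbbee134a9d464730b24a6511c9ac82492e92d16a12b9b4f2cd755e341887d56a0572b73f36da6df442d5647f45351666f39b2cec7a671d0f06b3daf598a561b911a7945b3574d13ba99187c5f9a4e0d8439c4e480369a168e25b35d126e56309b4d6709a8d8ab62b257cbb51b95ccc863b19a4b157ab9c0b86f355b2b06eb713e864da58ea934ab2980e760b3d20984a23934844ca753caa50215c68247aa52ea754291249c5128506911103c320b070e0142c1e85072030106820121a8147e07118f01040030f80221190e8540c208101a2b218449051271542e1f18188bc4a1b8a0b2152f92c263b189485a5b22184c6361a0a44e242699ca858170805e000d870ca09198584a5d0e878cc5721098c8472292430502613cac462e180a65a))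
noncomputable def a_u_t2 : BT Nat := (BT.leaf (nat_lit 0xf378f89e4f179fc1d7ef77eafdced75365e1ec75babd3eddfa2915b75039bcbe17279542c3f1a3be5e670f836cb542e8744ac4caf57faaedafb7cad766ad33b4d06db6fc35aef759d3e63498fce65f13a2cae2b2785cde8f25a6ca65b3ba0cfe3b4b90c8e3733a1c667b1730e3ef7352a94c722d48dc74b6bb4d86ce7309914b9d1769247a20fdd673f5bc0d56ff79129aba602f7b3d9703198360a5705936e751bbeeec7a3187dd15f4eda9dca4388b9c96e3759047dddafd5f237dc58753a6ceac1d7ecd28c23ade6fcd4f42c2f8bbbc2076276445ecf5a7d51def17cc5e0ef29fcfb9cf47fd26195b97cc775b79d5426f1aa3d1aa50ad7582795d8044e4738b24f6594db852a375193cd2b94c96cee095eb1c3e97747f436d108815e2f380422753cc63aac14e956e24d1e8e6f2a522b8572a124d66ea6580e64133d84c969219449c4da6946e563aa906855da8594e750305c294702bdb4b16ab6530904ba59c6ab521e0e46f382f9906e4f9acd477469e4f46c459f4f68038a290e7f441b4d081399f98abd61b5d5adb5ba30ec7c349d1c4b46c37dc8bc65b4188cd5fb4512ce69ad56cb96a2b166a56629974b211044320d148e85402198e42803160006a20080147c21008b88008030fc4607190e0144106010162b2183c8e502a938be5218128ba621b8a0ae270b92c5e3b0e87c5a60221244c36128382a242999c981e1e048261a0d968ca091e858685e1896084593318c8a483218430512a13cac462e16c9a1c))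
noncomputable def a_u_t3 : BT Nat := (BT.leaf (nat_lit 0x2c08036300f048be17128cf563d07098501513858682931f3f81afdd7447613178c479b5e80bb6e2d2907c3ba8d86d373d2dfef391c7d68937bacd50db8baedc6ef63a9d9f777dcec864f3b9fd3e9733a4c6e632597c5e533da1c8e6f478fc2e8b1395c665b419ac769b39372e1871549a7c39f8c533138964229941a8b29dc0a09658442abd3a2311094643119490bc893fe912fa3d1a954ba75d61f4c86944ce552b13cb2acb1c0ec518b3d9ac384aebe6b9389cc25764730114ba4965b9200feb85dea774bb2c1baa52a13572cfadb996ed85736556e166b5590c25a30194c751b9cb6e35fb41ad7361b6898576fe0d6cbeb04f2c8db2f54aa350673716371b96217181afe09cb3d60b269abd702cd6aad69b4574a6663118cd7712bdbcd28cc726b0c7d469d0fd93c7a48fb794863eef77481db3e78c5af32c953d5d8ebbc4a20b3674ca66313aa3de572679c0622f6834b60f258dcff00f08bbe25d10985166968911e11287403d2468a751acd869461e4f46a3b22d1a683f9bcdc72399f9027036a21329f42a914e8e541d0f87d3b9ed2ea948a49369a41275549e50210e28649a4130944b2551ea1512710675b661eff57e5d66b57af3dee6758aa96a87d7c35aed569a274e811db6dba1741a15f62915995faad7c04dbc32050883f9bb2ea8e0563a0c7280de4e20d7b3dced6dbbe0a0600b99c9f1f0fcbc11090047d8ea787ac1cef0682837f371bc403edf807e221f7081604068b08632008202039208a80e00))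
noncomputable def a_u_t4 : BT Nat := (BT.leaf (nat_lit 0x2f85c4a34138543c121686f5430098bc62202c074761f296f39dc7e96a07a29318d851b9dc05b62331303849d1ddea76bbad773f7bafe28bb91bed58f35bbfe86c36fb4eeecf59c0d1e2b45a0cae4b318dd26674b89cb633439ece63b219ad36772fa7ca62f3f8fcde1723023315f274c893fa00b53291894442f181a2cb9d4debd388c40e093b211389e672b154a8aca7d3ae90da9d469b0f7fdc6974997984c45c32114b6c39cc2a1308c1d7df35cb05870965b1d895c532c92c98515b351f90ebbdc28f48c4321caad2e91d8aafb22c574d060b3d8cca6fb0170dd52aadb4d66cb78a0e65bb89cf5059b4890496259d7ab0aee0ab6e426dca8d735caed9375a95d97d3db34f1c1816e38e94b2612f19ca65fb6da6b46c35daacd6628d8ee18f4b9fb3e8e3ae50f789ba66b068645a552c764664d7979ba1e51a9841e4eef9fc85f525903b700ee8bc91f7228dc41f168a2bc6630196c45eb237b5e20b36754ade954949e5008744bc2688a8f9acd877461e0f46a3e9f11a71409bcdc70399f8fe7236a21329f4d291528e541d11676349ed22a74ba490885412753caa41a6cd08649a50ea904b2551ea1512714098acdfed56ce9daf0d43f0c2e83878e96aabe78a55eb133bdf0eb57aab5fa6515bedb68169a25be856e04df006220883fb9c9e68e0083a0c6c865d5ef02395e4e5f1b880a1c80ba9d9ebf6bbfb61084047e6e178f821cf28688237f075bb019e67887e051f76c162b068b08606008d4800c0a0a80e00))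
noncomputable def a_u_t5 : BT Nat := (BT.leaf (nat_lit 0x1e8942a5f1a0cc241e1d8c2ae1b1784c3a58100c45a520fdf2b533b4d084e161b098c7408583ad81714090531da261ed76aac4caf57faa8f2ad7e8a0bafb15b75bf0d41b6d0ef759cfe9b49a5c6e572da1cbe772985cde3b2598c9e27158bd3e8f1f90c8e7333a2cf63340d80390334a662339a148060507041020aa755e5bac95a706a35d6adb118044432030841f2f61afd96bc3b9ecf4ba72235a2c5668b01a391d02c156359ab16cd33f1b9688043ae4d07f6fb8a2e111a8147e10a65397aa53e9e0f8cc365e25b74018aec4f837bc2776189cb2a923a7bd9def29bbba0ef19fc6c1131a5d26f276893d032029ca21f31a36a2515081f22cd479803b1ea6b34a322281399c67c72b44d0e90e79c0e05098c43dfefc7f4364f0a823ae19805521936c64c2e152956b24d1e965729d22b06f2a148dc6aa8980cf50b9984a35f275329f4f20d92e563a1134a05da0990e742b05b49455b65c2e36eabcea904ba3962e04957ea377bb34995724e4e27967c15770384b060ecb88a554ae775a851ee34db854e0b369ac79d0fd914f6b766b25723f21984820cf780c5a532674cae8d1c76c41f52592515f6ea944aa332ed6ebf75a8e0f7767b7f3eefa5a9dc8df57d8e2f235dbfe7f677bced56fb59c7e06d7a3b4dc6c363d00d6f0bc4f26137c9d3ef914ba6200730cfcdf2967b5ded976faa5b2312793c2f1f1b89c32115cabd7db783a843ee060ca1cf372fc447eb784a64b2a728944832184b45633140a2442e1809c09))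
noncomputable def a_u_t6 : BT Nat := (BT.leaf (nat_lit 0x2f85c663d13854241e1d8c0c41b170c4a4581004c5a1d1e17492442994068360b038525626098ae25120a0c64b2a138a2422f194b6473007c9448308bc8a4633154ce4d2c93cb864c9e9b49a5c96334189d3e2f3d8ecde171b98cfe87459dcbe671f90c8e6b478aca6572c98df6b7389c4d27d3ae8dc6d363d2d4ee633365429d29344aa91228fd76bf57c5deef39efb502113283aa4c6589b555e13c8242f4751bbeeed76f2947259529393cf9213f8da5e3580491d4ddbfd573b59c88fbf50ca196de626a291a3116fae86ea387fb41a26b2a3b1a8f26b769e0e06f9421d007e40a2b80748f440d2f3a29eb61b395c5e0272793e1dce9e3bb1e90c909f51aeb7b3d4f70778bbd10f0369c623303e49a0b167bc92412e92c88e706751b0ee895e339895f5a5196aaca3b5d66d4b82e56d88b937da773a829abb816860ab738b2a958abd61b92b983b3b3574d1b332e7b645fd8294e2bbd46e34da9dd95ad85936eeb525bb9dc2d66d61278d5663499ec06431d94a372b0592e357b71c0b86f2adb2b06eababd02854361d12a5b9976c2632fa014ca453e7739b1586113ab1c6162f97fbf1fd7497d3a1f378242607491a81c320be48e01402f210472031602465d811020420f08f500a06200047c3f08034540c0a0ac74040e08ef986a0c2fcfb6efd5eb17d2d72e87e3f15b3addeedecbab5a995eb83c3e6f2bcdc2b7db6d5d7e9f83b218ee10e2a1ae2733cb7eed7868940b4f1ab37fab554011dc3dae857b99c52dc37))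
noncomputable def a_u_t7 : BT Nat := (BT.leaf (nat_lit 0xf0787bfd5ec75f9be5f3f8cc1e6e4f0787c4f2733c5cae31208a4421147b9d4e9f5b6c4f336c8b3deed76fb2672a94ca04d23994c45e32708925d2572cc2462a130964e2b958b85bc7e5b2f94c66430b98c6e472593c562f13a7d36971d9bcce57459ed0677439ad1e933882088233e754b29d20cb0a030543915835beb44da710d3f552153a9e1f83c4432030f842e45223d229289de1e895544c526a94702c04411602874d35020d428493bc932f08da8b00ef4d27ee623080140e356730d2e98864b5ec9475e12cea60c811c5768be21b6b6afd9707826256eeb535cdcae377a8d4081815fb42cd7968d700638565a15b4d9f4d1dcd700d5258f35ed76712376446791a78c1ea4f8b8519eac5b22ddb0b56a2f174a5663368eb3594f6c14a934166a8a741aa4b203e3ee3ced3bc41f46c45d1648693eba8fc7f8b1c0de81344aa393694c64e48839bde0ce936c04e287959b9191f3b1d0f66b3ca36433097488f4787eb55a4e56520112bb942e1c6d66d2ad60b157375b2e667b19cebe6130546c863b02c3099cc3e914b97abdc0dc6f38699008753a310a9bbe6113ab1ced9304893f9f9497fc369f02af58a0774eeeef79c514ef781c812f3f7fbed6863663bdbea371a9e814b73d1d8f4b61badaeaf55c7d66bb9daf2d6d30f14bfdf8be1d10476dd400e0daaa270ad5c5c12178c43d6da0db0c628198382e24995f62a1b0f8c078092c0de16001e858696a098b6f95aac09a876fc35ac357a99d66ad69a250af643))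
noncomputable def a_u_t8 : BT Nat := (BT.leaf (nat_lit 0xeff73c1d7ef757cde7f2f10cfcde170f83e3f172bc9cce5938a0532f117c3d6d9753b6602474cc9d8ecedbb4612e970c46533130a2552bf2496422cf189e4d22118b64725124a856cc65f2d8ac5e471b8fc2e431d89ca63327a0d2e9b25a4ce6773da2d3e573fa3cd66f332e2082f433694ca239491f8f84411008223162904c24a68a2c8a42fb060e4582a0505009129ac6654f73b9a91ae9959ae0d16930400c0f190146b0a923f63f1e369fa2081443a0e08976be9ac03068085638ba43dd5013b1e117053db21cb0e0388ebcb043abe75095db298ea3a7b9dc2d5822b962e05c37474c9a5c018c7d97b3c4240b19ce04da451fcdd3b0c9f118797f305cc74349b17c80379c956716f364f4fc614e5f36184539ff4ca4435b9039bb4980e34aa61516850cc50485bca0d348496a7d32f58628154f3aa2a62f1a4bcfddcefc029cea9047a59f1279f24d248e8da520ef2523c646a27b4b1e978763ad389d4326e23134f5ceb95fc14d1e16748d2aa353a35c2e376bbd1e9b3c9ee0ec138aed92cb81b356d64b96bb914ac45e5d6e550a962198a668345a6df5aab566ac6dadf08b661b157ace66ae97ed85a389a8cbe071f75b714ee763dd1eee369a9d410f8a1bd5eab7fafdf14b9dbde46b379aed6ecf6bd2ddec3a3d00073eb11db7da82e1d2c556f9140d0da801513db05c1e178c42557bddf4c6281a038be24a25b6d23b0f8b4783710026665a12858677f098c30f43b709af57ead5583986a0dae85328ad661618))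
noncomputable def a_u_t9 : BT Nat := (BT.leaf (nat_lit 0xeaf7bc1d7ee77fcde7f27341bc4e571b85e3f172fcbc9e0850142b1f08bc3d4e9f67643507ed80dd8ed76fac401f88464070600c04391670c704115730160411804101102840323ac4e8f1b92d36872995d3e333d8fcce47378ec5e7f2f93d16933585ce6634b8ad06772d65329932151a3d1ae307269309e542714626f5c1e06b89db3d82796422118925b301708f27a95deeb534729d3150b9a5ee188b9140ac533392caef3aed7e715b4d28304994de114282b34f5584825184bc629fbc69b765223d274a4832d7f343310af0b94f2d1ed2366a95c8d08bb45b0d475add64df5ab5c8ac59f3bd789277330aa59bcaaa62e241a190aec2eaa12895c03119c754b2a57a9f42271b6a259ab522f85d4b6232caa46de4f08d5a1a70c7a29986b663b3d850670cc1c6ae922adb8e08f2c5711f7eb55bd207dafa571c64c5a4d059532146d273b1a51299ab9582c074b29d4f75dc6620d9a2cba4ae876be9b4af5837643226b3fe093ab0c066d0373532014fa4d2e1d4897d39f9629bcee72f98458e135e85460fe80369a4e87c3cdd21f1286bf8f68d461dd106e449c9147e399be04813c1a8f46c459f4ec68381c50e6bbd5f2894209db70d431ddbed50b8e802ac5facd56fd33bd892af7dad56265158a5ae8187b75a6d94104dffa1bdde6b83c291a6e753d10c0779c58107001c3d0b0984bddda6c45e2e1807c2431d67238e171409cc61a1987370370d8f05bb01b0575fc5df14b6fbad9ed487abdfeab5bd2ddea39e5a))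
noncomputable def a_u_t10 : BT Nat := (BT.leaf (nat_lit 0xf0787abdfec75f9be5f179859e3e170f95c4f2707cfcce58107041008d7bdb2eb76fa82210f6821dcdb767a6320383c803f01830741906f18142b05f245414088f80a23040187202cfe8f1b92d364f458bcb677158fcce47378ecae2741a1ca6933585ce6634b9ecbe334f5c24187214abbd36ed0721154a0662999e2731b34f2ca86afd6f035d2f11cc445251748ceeb9d1f1170492614f72a9242a775a813cae4e28964acf3b259f09605026a7aa24f4e13e9cc1e096e653019088499fc6e8d714b2a12b514ba9587342a13622e24dad9ecf468b2d88c5b43356adf962b15ad46c36cb6d0793bd748e93b38984bbca11eab942a7506ec2e23d2293c039198a9521d54ca155209ae9969ac928f85e4b6f0ebaa3c67cf08d45d670c91af57eb463a8d852970c41c6dc903555cdd7eac571258f2adad2476b224d287341657169b2f99eca73b1a390674b9582c09ab4a03195dbde60d9913a23f2e7dc85b4af58381f5456f44a050ab13aa553b64bf2934e804bee8fea5d3e9961af40e11099cc61f3379d58d007f379e4f67d34c3a1aff87d20e88c469e0dc88409c50e733f1b608893b9e8d46b3b1f11670341c9146cabccf0f860ed02856b2c506176ab60022834aad662b7cac03af55abedeeff7eab50edb44b4dba3b6f04ccb69c0dff3c60162fea371b50c04f903b0def44827148a02bb7e86cc781f0f0b85a52d7f3b7c33130f46c1a0b8735237100bc25d23189759aae38c7bbbbd8f4487adde71757b0dd6e75c5a))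
noncomputable def a_u_t11 : BT Nat := (BT.leaf (nat_lit 0xf0f83bddcebf63cfe6e279773e4e1f0b8de2f1f279bcbe674363d2d7723abd3ea6dbadcedf76755dfedf6b65bdde71f81bfd4ee3bbbad472b67b0daf07a3b4d673f57afd6f1777b7cae67258dcde333d89cbe872991d1e3f4d85cfe2f4f9dc5697398ecd64349a2cb64f414aac5eb313db34e30511b55bed76ea261a3780b9536ed4ca9d431152bf5f2b356bedfe66ecafd6f095d9d412c583b24decf81b050edb87a15b280eeb85ceeb477fcbea2fca7d1a0149bbdc5d37bad55e2b5598cb679658540e775c7ccba452cb4c2df12887c05e4f08f485fb1faa49239298d3ddd52b8b41a2910863d28b3989cc2831db453a0f05895d296f199462bd63bc4824b0284585f4fe86d224d0e8ccda12f576c9e7eef9f3cef2eb91bda6b179a3a1f72a572c156d3642999ec061aed8ce75fa8da4a55e305caba68abd6eb46d2d966ad5ab6570b16e38164ac6bb55bcdd6a38d72df6b36d96e6723157acc623397cc96531da0cd6126d2e8f48b61c48e70a853a9a4ca1138a24f20d049053a9150984aa59527549a491874349bd028a3727d40aa42a19007f44a20f277469b0ec7d459e1287b369c4e0683f1cd0e6b351e8f87225194cc4f0992ca0512c13498552b800925f2d914b84823838c06132118bc5d3119cb25429938ac420491018351f0fc60161a02c280d0c074803b0d888483d148a04a0a018085e2e0f07c5a31108c846171309c6c1a198700837100f02439318541e080894870411d0b08610008140c19158a80e5a))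
noncomputable def a_u_t12 : BT Nat := (BT.leaf (nat_lit 0xf0f83bddcebf63cfe6e279773e4e1f0b8de2f1f279bcbe674363d2d7723abd3ea6dbadcedf76755dfedf6b65bdde71f81bfd4ee3bbbad472b67b0daf07a3b4d673f57afd6f1777b7cae67258dcde333d89cbe872991d1e3f4d85cfe2f4f9dc5697398ecd64349a2cb64f4171ac5eb3165b0606b978b55bed76ea2619e307a3dd6a30ea95de8d53bf5f2b356bedfe6713aee0e795f84586055bb3c26c938b350edb87a15b28127b9dc29b72a5c4aed7486e2290fea852a337bad55e2b557abcf093d9cd8e3182af3e9daebb4c2e7f16a74da7d34903a249307b3f60b2677cd65506944ae2925bcc8df70a7647e831d8bc3f011c97bf1ff1b994edf30388c7a21629d4125d49a7c02534c74c066f31913b9f11a794b6192c7a551ef68784868aea6e2e1aab75f29546c65e30580c75d33d94a661aed84bf72365a6ad70ac958b45cabd60e3573756cb36faadace06dac56ad76f3517ac968b3996d066b1590e66939d98c472a1122954bb89b0966d27144854326d429d552813e9454a49267547a394e9854290f68d3ba20fe7e36a09069e4d2651281401bcf0693a1a8fa763e1e5208c371a0e4714521ce67a361ad167025194cc4f0992ca0512c13498552b800925f2d914b84823838c06132118bc5d3119cb25429938ac420491018351f0fc60161a02c280d0c074803b0d888483d148a04a0a018085e2e0f07c5a31108c846171309c6c1a198700837100f02439318541e080894870411d0b08610008140c19158a80e5a))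
noncomputable def a_u_t13 : BT Nat := (BT.leaf (nat_lit 0xdb767b5d4eb6cb8dcae5f0f79cce2793c7c9e0f9b85e5e6f3b7fc0e8eefb7deeaf5fc3d0dbf6369d3ee77fc1a9dced7a5b1deeb79fc5d678b5fabe3f9f5daad477761b3dc6eb91bece67f4395cbe8f2399c866b318acee5b2989c2e371f8ed269f178cc9e833da6d2e4b36eca151344eec03c9e377ab566f957bd4ceb96698c31e71e965e1ecebb65aedf6ac3db70d4a8d4fe2eef8e49a6af89a3a5e13e83deeff7dac5fa2b3d91bd2f2f592ba25b4597551db2488c4e1343b4dba810bb9546d127754da2d1b95c360153ad557073b8fc0e7167874be934ea33fa1104afd8a735e8c3e682ffa6dcee92ab8c3e29329e4c2c13a90bee21828eca20d01a853296f782ca69efd7d48ac3209bd8e3347a4596b75dc0ddaeb52b86220584b2449f90a4021ce4993ca90f87b4c1ad18744ba2cec923a9e8d8914a1bd0c9b37281388455220e68a44a0506a14f9c0d07f511f93c8238a751e69482592aa853a38f0773ea3526a9352d17ecb5d21534ce36ab1b6e269ab566d45cac9bee46229998c35eb159abc6829580c764b65bae370b5d6cb56c2ddb8e0572bd7ce673b0994d267b21a2c66d37956d658ac170c172aed46d52e924b24d1394ccc4e1312cac5021068b81f22120c24a320808c652f16cc44523930aa672795ca85104980163f08020501b0e8e41a410c0d07c360b0045a2e090c062041600c2a3d3197c48251901c44522c04c76001e1685437070cc52380f0bc6a0f2005c183a0a06486110288c4202050ac0c1c))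
noncomputable def a_u_t14 : BT Nat := (BT.leaf (nat_lit 0xd975ba9daecedb93c1e17335dc3e6f97cdc6e578f97e4e26f79fc8dcf4ba7dceff83b1a9d9f8771dbef757afd0e8ea377dde76ab7fabe3f9f7dc5d678b79addaec775b7da6c381afc96331793d16174b8ed363737a7c4e7b419dd1e6b4999c7e2b439fcae532d90c8e7330eeb5da72eec98c31e783acd5ab17dad5eea372c03c9e3198d4fe2eefb6d0ad56fb75b2873d965e1eceb7d489fb1191c81e9797accefd57be5fe654a9a3c27d0780ca2370682da252f77c49e9986a261e3b41b3572a91398442432d7dceac35fbd452ef129552e9b739bc62050a9e58a9f48a9bfa1efc97dd217639c59df31fb2ce6ab15a33aa8f0d8b4ae6d76a03a28b25adc260724973b611358e49a00e9873fe3d60825c6a152bae0b035db26129388b84eebd4e3d9f0d698442810e804c9c91281509cd1483431c0d09c4f9e0ea8f3ba912295541e51676461d124974a1e8d88d549f526903529d366d4121508aa4ea68de6e3f1fd3ca238b2d58b459a591ce234afd88ce61af574cd68295c8df6dad96ad356b61a8b75cac95cdd6d3218eca733454ccc62af18ce7602f95ee170359c6b158365aedc64b9576c26933d46d56f2ad70c124184a05313934aa421313cce5927068ca1f23174924531080885c23980c84a2f150cc562594498570496c700f200d4501b0e83074140c0d022360b08c5a2e090c0622b010642a3d3197c4825030840a522c04c76001e1681437070cc520b0f0bc103f0805c720d2080c863e110040e2c15010641c))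
noncomputable def a_u_t15 : BT Nat := (BT.leaf (nat_lit 0xd975ba9daecedb83c9e1f2f79c2e2793c7cae379b99e5e6f1759c0d9ee3a7d5ef763c1a9dcf5fa5dbeff73c3d0dbea369ddd5eb78fcedff8b5fbde7f9f5daadaec775d1ddec391bece6772ba1d068f4b99d366b379ecfe9f458cc2e37498ec7e5b2789c5e5f1590c8e4b3087b6513288b461e0ecbbbed5efd59ad5ed5ed640220fcaa391fcda70a15b70f6eb7daf0cc93d1d0ee6b54a912c8d362a0d4793dcceb156bfdf264e1389a0de8950a7d149b511b94085409cd6943b4daa810b72b20d27c4c25d287d47b0d9ce7bd451aab34cb7dc6dc65ae94acd67a99a6e26eac9a8b5562e682e469301987573312ab155c219bcb74121138d98ea412a9160af5a28e53a49789a4ea0db09e56b5d26c262b6956e058af994c76328d6cb0572fda0db7ac4dd730794a5dd809546a0ef880c9e3726753bde136944323efb7b48a4b45905e5d8f398de1db1090cb247117d4b63ce87a4ba0d178b3de57198e4d67d6878cfdd3059a4de5f4c893f64948aa4ee73619d426310aaf40ac74ba7525f94f874021f0dba3fae153b8d72bb81b2c0ec4f982422c95fb3e0aa34aa95ca9b75c45d9ff739ed9b07609c4f30977a3d428d5b2416ca24d1394c84550712cac5733168882f2e174c04531048ca4623924c84a2f1309c6727940a859219841a1108020482d1883016141b8d01e161b004363c100ec3a03010102a3d1497c50250281c0c130f148601c170681418130ccc63a2c07c6a3e2005c7238208ac123f1908c422c150644400))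
noncomputable def a_u_t16 : BT Nat := (BT.leaf (nat_lit 0xd975ba9daecedb83c9e1f2f79c2e2793c7cae379b99e5e6f1759c0d9ee3a7d5ef763c1a9dcf5fa5dbeff73c3d0dbea369ddd5eb78fcedff8b5fbde7f9f5daadaec775d1ddec391becd67f4395d166749a3cde734da7cee7b4189c764b4b85c8e2b178cc9e532d98c7e372077b6da72e6d389f910e0abdf6ff56bd4cd94c6361d8f08f3a1e9168db5db2dd87b550a86b03f9c90e814ca1540704026d128a345eef959bf5622aa3461ecfa6a4a25cf2a84c1f12ca4359a59986a25be3b41572c4e66e5127d426f5535164abad5558ee454ae97cc25ab7dc4d36d3619aa560b3986cb68af616b36cb79689d5c2de29327329d80c448a4d20d2a02713c826eae5588343269b6923aa394c95682fd08dc5b33dcebb6438d5ed56b3858ac972b5d5abc9a45e7f1c96c92a8f497446472c743da18fd7d5e2632192c6e0ae993cd6511995bc6d13e783bdef169b3e20f1a753ca0d01c04aa3d13883b6414598489e6ecbcbadf71f7add2c75e81c9a53627752e9f49a73f1ff0da64025f3b9d58613397cc0a110a9bc12c183c2536a176c444a910e7f43e8f77b95d6713cadd9eb982b2e063166a35cea770a8d2ae35fb25767b522416ca24d0a94c84551312cac573316888132e174c04531078ca4623924c84a2f1309c6727940a85921984160f040405030170501a0c1b8cc22360b01c761d2c06c78040500c4e253185c483d030040a2f0907c5a1c188680418070d0523810148803f1a97c823a1c864123e11084462a160ac6400))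
noncomputable def a_u_t17 : BT Nat := (BT.leaf (nat_lit 0xf0787b9deec75fcfe6f2f1373cde1f0b83e2f1f2bc9cbe66c36bd2df6abbfd4e9ecbb3bdd775b91d5ed76f6dced7eb35bcfdd6e351a9eef2767d0d8f1ba3b4e3eff8bbce06af77b7cae8f399acc677159fcbe87298fcce47218ec4e2f2d8ccf6932585c6e9b4ba2d3e4f406aac4533668379fce0b1b7daad987b4d0180a33c9d0d682459a5187cbf5f2fb57acdfe66dd439b900734a9d5526d3f241148144476856eb6daf0ce73b1f51a784d280f4a1421ed0ca23b9b1b77baad5a2b5a5837112715423948724ba957eafa250594ad552d584c9622f5c8c555b4564ac6437db0d35a2def4cc6f38586937033a174360a799eb641a710ac699249229671b35a0a747a614c9d4da65669f6a2e528b85d31da4be72ab9acd96d355aebb7332d78e296bd5ed0677cbb00f17dda2372776c1df0faa2c5de5227ebae57287a47253169b4b2637879bb20b267bd52f31374c4603358646642f0924c1d1259047e35349fbba211e9f53ebd3a7cca9d56391dd2934b80435f8fe87cbe1d09b146273048440e0561854ee8d75bbd827164c1d32254e7fd227981c259a8f50a6d2ae770a95ca6f88adcf6b965b3d7ebb51b8ddaa78222910cc6709958a2500f13498552c870c217301288c5e2e98cb6493117090473213cae542993896421b99428080883c603612834180b218b8203b0d888503313090682c158a85e1d2c07c5a3c108c8465f148542c5a1e8003209090c440410709c7e351f14874391c0283040008140c04018080e1a))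
noncomputable def a_u_t18 : BT Nat := (BT.leaf (nat_lit 0xf0f83bfd5ebf63cde7e6f936fe5e170f93e3f171b89cce5f4363b4de703b9d3ea75b6dc5d7ecb5bdeedf6bb3abd773f91acd4eefbbbad4707a3b0daf2b67d2dff1f7bbed573b71b9c5e3b1b92d36333d89d064f45a5c2e9337a3cfe574f9dc56473599ce6631f94cb6872e74be557207f439a100e1b55bedb6ea247582c8459a918a23c9d8d678bfd62af7dab5faf6de379f8e0885225d208a372a4da7139d02d787b650a86c2349dcd87c55210f686501e942823ea35af338a566657a57aace481472a12a893ab2d78b0b4c2d92b64d389ceca68a999ad06e31168b751b5172b3592b2b4ce6eac574966b3328386602157cad4da653cbb8aa3d30936d3918a94492457a9f41a71a69d6fb614ed961b95cccf63b55c0b871ab9b6c6692957eb5aa3ade72983ba235179146ed13ea2bbde12176bc5dcfb903d64d0588c5a0d1c754c659237b432512b8ccb627799abd254e9763ddf4f88f4425d1f7ec97013f9a3ca612493cbec33b824066d39bc522994e7e44a010e7fd3dfd029bc22c6f98c42a135e81ceaa371b9d767b5bb3d261b4b87dd2b965c157ea570a5536ef50a3d4ec576b24e27981c1d9ac146bae22e58432194844b2913cb25710150a64e28870b62724988b84823838c26025118bc5d22958a04d26154ce661b91028080883c36241a034180b218f0202d180882c3d148d84a2c158a83e31090bc762e108c846151317c505a1980032092c0743c413185c7e351f04c74391c0283040008140c04018080e1a))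
noncomputable def a_u_t19 : BT Nat := (BT.leaf (nat_lit 0xe6f97cde3f2713abdeec7836fd7db767b5dfee753c3d6d96c36bb4d7723cfc1e4f0f97cedf70b55e2e571b99bdde71f81bfdd6ef51a9eef6fa3d0d8f4f67d2d673f57afd6f1771b9cb69b4ba4d1e532797c4e2b199ccde6b3398d069f17a2d0e4b2390c7e3b1b9dcae7b3f71b4daf0b3dafce2b8ef8accaf57bbe5f5d923a95d6ecfea3dc3117285d123b40c35070f1bb359e79608457a6f64c1d8ab781aed5e2933ad556acf3a85de9b53a5cbea300a7d19f90eb9d2a8b6ea150ed56c7849f09658540e3182b0cd9eef8ac5fa591fa73e9ed31834aa4d289f4a62124bc489d1209847adb1cb441dd33978c5aff598643de92589521ff13b7cee09638d4ae0b099d3e6034c86dd1fb497dcba05349acb5d711aa3ba2f3fc03c9db797abaa3321613298ed16d36162de6fb81acd56db8d70e26bb75b8d469b25c8d06433988cc65b99a4cf72aed8acd5e39d80c15d28d7ac3632fd6ad95bac972ad59ad9c2af582ad68ac5720d22a44ba994aa85f285449e4ca81389d4d26d3e9053a3d1c754924d52984b254f46a3ba20d08a37209088555218e071391bcf26936234fa76459e1286b369fd00813f21ce67b3a230f8892814c8e600b16c946419970885e31168ac1b259649a4e330b89e6728950aa422b9848a4632920925d219305632038042a1310008320a1b8a444172f9003e120e9483c0d2082c6c0e128904e26088d41e3b188b45e1c2c06872181a18c7a041e0c04606108a05803150e012051f8401014060e87c00))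
noncomputable def a_u_t20 : BT Nat := (BT.leaf (nat_lit 0xe6f97cde3f2713abdeec7836fd7db767b5dfee753c3d6d96c36bb4d7723cfc1e4f0f97cedf70b55e2e571b99bdde71f81bfdd6ef51a9eef6fa3d0d8f4f67d2d673f57afd6f1771b9cb69b4ba4d1e532797c4e2b199ccde6b3398d069f17a2d0e4b2390c7e3b1b9dcae7b3f71b4daf0b3dafce2b8ef8accaf57bbe5f5d923a95d6ecfea3dc3117285d123b40c35070f1bb359e79608457a6f64c1d8ab781aed5e2933ad556acf3a85de9b53a5cbea300a7d19f90eb9d2a8b6ea150ed56c7849f09658540e3182b0cd9eef8ac5fa591fa73e9ed31834aa4d289f4a62124bc489d1209847adb1cb441dd33978c5aff598643de92589521ff13b7cee09638d4ae0b099d3e6034c86dd1fb497dcba05349acb5d711aa3ba2f3fc03c9db797abaa3321613298ed16d36162de6fb81acd56db8d70e26bb75b8d469b25c8d06433988cc65b99a4cf72aed8acd5e39d80c15d28d7ac3632fd6ad95bac972ad59ad9c2af582ad68ac5720d22a44ba994aa85f285449e4ca81389d4d26d3e9053a3d1c754924d52984b254f46a3ba20d08a37209088555218e071391bcf26936234fa76459e1286b369fd00813f21ce67b3a230f8892814c8e600b16c946419970885e31168ac1b259649a4e330b89e6728950aa422b9848a4632920925d219305632038042a1310008320a1b8a444172f9003e120e9483c0d2082c6c0e128904e26088d41e3b188b45e1c2c06872181a18c7a041e0c04606108a05803150e012051f8401014060e87c00))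
noncomputable def a_u_t21 : BT Nat := (BT.leaf (nat_lit 0xea74f65b6edf6b85c3e4f2b9fc1f1f8b89cbe67378de7f37037dc5eeeebadd7ec77bbfbbdaf57a1d9f0787b9d2d8f4761b3e473b5fadd77938faade7977fbddcedf71a8d4ed357accb6631f91c76532797c4e2b198dc864b0ba6d069f17a2d0e6b499bd2e8f399dcae7b3f5bbedef3350a35c28f0cb6db30f6bc35a60f179e592c163ae4e2bb82acd5eff7ebe55af511a8d36a576ba53e9d75a552ee373c4512df42b75aa82f89ed96cf84b1586cd3baf57e7539c0e0e6d5a99d62ab327b3d6a777a6526917297d165cf3a1d01e5299bcd5e0ee92c8a612075c7e571c78caa33289345a2b247a3b2430ebc47a3b0b77c26d1068246205808a40224febcc41fb0f7e435f70a7cc220b0380bddff547d4fe7d1b9a4c6472d89cb1d51a93bb5d0e971b79c2d873b45caca62b99a4cf6630982e46732590d05eb75c4d46e35d72db5bb81acd558ac1beb556b69b2b8592ada6b457ad99ac065ae988bc532fd8ec65da8d86a55f29d3c9d552cd589c5724d2491472a550a43aa512a8441a09329a5128540854327d148740234f87a4623d20984ba58fa8b3b1d1028939a20e072389fd367e3d9e0ee79359a8d86d379b8d0692e188ac552c198984d29140a267299688e6324194c8492d97cba5e22114c06123108a8572c92c9c4f21928201405834783d1b044100f1b8ec1831170106828138cc48010301c4030178783a2d0100c14290b8984a1c0b0680a180f86c26400a83874411c0487c351f8841239150ac32321108c5800))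
noncomputable def a_u_t22 : BT Nat := (BT.leaf (nat_lit 0xea74f65b6edf6b85c3e4f2b9fc1f1f8b89cbe67378de7f37037dc5eeeebadd7ec77bbfbbdaf57a1d9f0787b9d2d8f4761b3e473b5fadd77938faade7977fbddcedf71a8d4ed357accb6631f91c76532797c4e2b198dc864b0ba6d069f17a2d0e6b499bd2e8f399dcae7b3f5bbedef3350a35c28f0cb6db30f6bc35a60f179e592c163ae4e2bb82acd5eff7ebe55af511a8d36a576ba53e9d75a552ee373c4512df42b75aa82f89ed96cf84b1586cd3baf57e7539c0e0e6d5a99d62ab327b3d6a777a6526917297d165cf3a1d01e5299bcd5e0ee92c8a612075c7e571c78caa33289345a2b247a3b2430ebc47a3b0b77c26d1068246205808a40224febcc41fb0f7e435f70a7cc220b0380bddff547d4fe7d1b9a4c6472d89cb1d51a93bb5d0e971b79c2d873b45caca62b99a4cf6630982e46732590d05eb75c4d46e35d72db5bb81acd558ac1beb556b69b2b8592ada6b457ad99ac065ae988bc532fd8ec65da8d86a55f29d3c9d552cd589c5724d2491472a550a43aa512a8441a09329a5128540854327d148740234f87a4623d20984ba58fa8b3b1d1028939a20e072389fd367e3d9e0ee79359a8d86d379b8d0692e188ac552c198984d29140a267299688e6324194c8492d97cba5e22114c06123108a8572c92c9c4f21928201405834783d1b044100f1b8ec1831170106828138cc48010301c4030178783a2d0100c14290b8984a1c0b0680a180f86c26400a83874411c0487c351f8841239150ac32321108c5800))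
noncomputable def a_u_TT : BT (BT Nat) := (BT.node (nat_lit 11) (BT.node (nat_lit 5) (BT.node (nat_lit 2) (BT.node (nat_lit 1) (BT.leaf a_u_t0) (BT.leaf a_u_t1)) (BT.node (nat_lit 3) (BT.leaf a_u_t2) (BT.node (nat_lit 4) (BT.leaf a_u_t3) (BT.leaf a_u_t4)))) (BT.node (nat_lit 8) (BT.node (nat_lit 6) (BT.leaf a_u_t5) (BT.node (nat_lit 7) (BT.leaf a_u_t6) (BT.leaf a_u_t7))) (BT.node (nat_lit 9) (BT.leaf a_u_t8) (BT.node (nat_lit 10) (BT.leaf a_u_t9) (BT.leaf a_u_t10))))) (BT.node (nat_lit 17) (BT.node (nat_lit 14) (BT.node (nat_lit 12) (BT.leaf a_u_t11) (BT.node (nat_lit 13) (BT.leaf a_u_t12) (BT.leaf a_u_t13))) (BT.node (nat_lit 15) (BT.leaf a_u_t14) (BT.node (nat_lit 16) (BT.leaf a_u_t15) (BT.leaf a_u_t16)))) (BT.node (nat_lit 20) (BT.node (nat_lit 18) (BT.leaf a_u_t17) (BT.node (nat_lit 19) (BT.leaf a_u_t18) (BT.leaf a_u_t19))) (BT.node (nat_lit 21) (BT.leaf a_u_t20) (BT.node (nat_lit 22) (BT.leaf a_u_t21)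 (BT.leaf a_u_t22))))))
noncomputable def a_c : List Lvl := [⟨(nat_lit 1), [[(nat_lit 18)],
  [(nat_lit 10)]], (nat_lit 7)⟩,
  ⟨(nat_lit 0), [[(nat_lit 15), (nat_lit 19), (nat_lit 22)],
  [(nat_lit 6), (nat_lit 20)]], (nat_lit 2)⟩,
  ⟨(nat_lit 2), [[(nat_lit 15), (nat_lit 13), (nat_lit 18)],
  [(nat_lit 19), (nat_lit 8), (nat_lit 8)]], (nat_lit 1)⟩,
  ⟨(nat_lit 3), [[(nat_lit 19), (nat_lit 19)],
  [(nat_lit 14), (nat_lit 16), (nat_lit 12), (nat_lit 18)],
  [(nat_lit 15), (nat_lit 5), (nat_lit 11), (nat_lit 16), (nat_lit 12)]], (nat_lit 1)⟩,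
  ⟨(nat_lit 14), [[(nat_lit 6), (nat_lit 6)],
  [(nat_lit 3), (nat_lit 14), (nat_lit 14)],
  [(nat_lit 20), (nat_lit 6), (nat_lit 20), (nat_lit 5)]], (nat_lit 1)⟩,
  ⟨(nat_lit 232), [[(nat_lit 12), (nat_lit 12)],
  [(nat_lit 11), (nat_lit 10), (nat_lit 12), (nat_lit 9)]], (nat_lit 1)⟩,
  ⟨(nat_lit 104), [[(nat_lit 20), (nat_lit 11), (nat_lit 19), (nat_lit 12)],
  [(nat_lit 7), (nat_lit 7), (nat_lit 5), (nat_lit 15), (nat_lit 15), (nat_lit 1), (nat_lit 10)]], (nat_lit 1)⟩]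
noncomputable def a_X0 : List (List Nat) := [[]]
noncomputable def a_X1 : List (List Nat) := [[],
  [(nat_lit 1)]]
noncomputable def a_E0 : List Ent := [Ent.split [⟨[], (nat_lit 0), []⟩, ⟨[], (nat_lit 1), []⟩]]
noncomputable def a_X2 : List (List Nat) := [[],
  [(nat_lit 3)],
  [(nat_lit 1)],
  [(nat_lit 1), (nat_lit 3)]]
noncomputable def a_E1 : List Ent := [Ent.split [⟨[], (nat_lit 0), []⟩, ⟨[], (nat_lit 1), []⟩],
  Ent.split [⟨[], (nat_lit 2), []⟩, ⟨[], (nat_lit 3), []⟩]]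
noncomputable def a_X3 : List (List Nat) := [[],
  [(nat_lit 5)],
  [(nat_lit 3)],
  [(nat_lit 3), (nat_lit 5)],
  [(nat_lit 1)],
  [(nat_lit 1), (nat_lit 5)],
  [(nat_lit 1), (nat_lit 3)],
  [(nat_lit 1), (nat_lit 3), (nat_lit 5)]]
noncomputable def a_E2 : List Ent := [Ent.split [⟨[], (nat_lit 0), []⟩, ⟨[], (nat_lit 1), []⟩],
  Ent.split [⟨[], (nat_lit 2), []⟩, ⟨[], (nat_lit 3), []⟩],
  Ent.split [⟨[], (nat_lit 4), []⟩, ⟨[], (nat_lit 5), []⟩],
  Ent.split [⟨[], (nat_lit 6), []⟩, ⟨[], (nat_lit 7), []⟩]]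
noncomputable def a_X4 : List (List Nat) := [[],
  [(nat_lit 7)],
  [(nat_lit 5)],
  [(nat_lit 5), (nat_lit 7)],
  [(nat_lit 3)],
  [(nat_lit 3), (nat_lit 7)],
  [(nat_lit 3), (nat_lit 5)],
  [(nat_lit 3), (nat_lit 5), (nat_lit 7)],
  [(nat_lit 1)],
  [(nat_lit 1), (nat_lit 7)],
  [(nat_lit 1), (nat_lit 5)],
  [(nat_lit 1), (nat_lit 5), (nat_lit 7)],
  [(nat_lit 1), (nat_lit 3)],
  [(nat_lit 1), (nat_lit 3), (nat_lit 7)],
  [(nat_lit 1), (nat_lit 3), (nat_lit 5)],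
  [(nat_lit 1), (nat_lit 3), (nat_lit 5), (nat_lit 7)]]
noncomputable def a_E3 : List Ent := [Ent.split [⟨[], (nat_lit 0), []⟩, ⟨[], (nat_lit 1), []⟩],
  Ent.split [⟨[], (nat_lit 2), []⟩, ⟨[], (nat_lit 3), []⟩],
  Ent.split [⟨[], (nat_lit 4), []⟩, ⟨[], (nat_lit 5), []⟩],
  Ent.split [⟨[], (nat_lit 6), []⟩, ⟨[], (nat_lit 7), []⟩],
  Ent.split [⟨[], (nat_lit 8), []⟩, ⟨[], (nat_lit 9), []⟩],
  Ent.split [⟨[], (nat_lit 10), []⟩, ⟨[], (nat_lit 11), []⟩],
  Ent.split [⟨[], (nat_lit 12), []⟩, ⟨[], (nat_lit 13), []⟩],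
  Ent.split [⟨[], (nat_lit 14), []⟩, ⟨[], (nat_lit 15), []⟩]]
noncomputable def a_X5 : List (List Nat) := [[],
  [(nat_lit 9)],
  [(nat_lit 7)],
  [(nat_lit 5), (nat_lit 7)],
  [(nat_lit 3)],
  [(nat_lit 3), (nat_lit 5)],
  [(nat_lit 3), (nat_lit 5), (nat_lit 7)],
  [(nat_lit 3), (nat_lit 5), (nat_lit 7), (nat_lit 9)],
  [(nat_lit 1)],
  [(nat_lit 1), (nat_lit 7)],
  [(nat_lit 1), (nat_lit 7), (nat_lit 9)],
  [(nat_lit 1), (nat_lit 5)],
  [(nat_lit 1), (nat_lit 3), (nat_lit 7)],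
  [(nat_lit 1), (nat_lit 3), (nat_lit 5)],
  [(nat_lit 1), (nat_lit 3), (nat_lit 5), (nat_lit 9)],
  [(nat_lit 1), (nat_lit 3), (nat_lit 5), (nat_lit 7)]]
noncomputable def a_E4 : List Ent := [Ent.split [⟨[], (nat_lit 0), []⟩, ⟨[], (nat_lit 1), []⟩],
  Ent.merge [(nat_lit 5)] (nat_lit 1) [(nat_lit 1), (nat_lit 15), (nat_lit 25), (nat_lit 27), (nat_lit 33)] ⟨[], (nat_lit 2), []⟩,
  Ent.dead (nat_lit 1) [(nat_lit 1), (nat_lit 3), (nat_lit 7), (nat_lit 9), (nat_lit 11), (nat_lit 13), (nat_lit 19), (nat_lit 21), (nat_lit 25), (nat_lit 27)],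
  Ent.merge [(nat_lit 7)] (nat_lit 1) [(nat_lit 1), (nat_lit 5), (nat_lit 11), (nat_lit 13), (nat_lit 23), (nat_lit 27), (nat_lit 31)] ⟨[], (nat_lit 3), []⟩,
  Ent.merge [(nat_lit 7)] (nat_lit 1) [(nat_lit 1), (nat_lit 3), (nat_lit 11), (nat_lit 13), (nat_lit 19), (nat_lit 21), (nat_lit 27), (nat_lit 33)] ⟨[], (nat_lit 4), []⟩,
  Ent.dead (nat_lit 1) [(nat_lit 1), (nat_lit 7), (nat_lit 9), (nat_lit 15), (nat_lit 19), (nat_lit 23), (nat_lit 27)],
  Ent.merge [(nat_lit 5)] (nat_lit 1) [(nat_lit 1), (nat_lit 3), (nat_lit 5), (nat_lit 9), (nat_lit 15), (nat_lit 19), (nat_lit 23), (nat_lit 25), (nat_lit 27)] ⟨[], (nat_lit 5), []⟩,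
  Ent.split [⟨[], (nat_lit 6), []⟩, ⟨[], (nat_lit 7), []⟩],
  Ent.merge [(nat_lit 5)] (nat_lit 1) [(nat_lit 7), (nat_lit 25)] ⟨[], (nat_lit 8), []⟩,
  Ent.split [⟨[], (nat_lit 9), []⟩, ⟨[], (nat_lit 10), []⟩],
  Ent.merge [(nat_lit 7)] (nat_lit 1) [(nat_lit 7), (nat_lit 9), (nat_lit 15), (nat_lit 17), (nat_lit 19), (nat_lit 21), (nat_lit 25), (nat_lit 27), (nat_lit 31)] ⟨[], (nat_lit 11), []⟩,
  Ent.dead (nat_lit 1) [(nat_lit 3), (nat_lit 9), (nat_lit 11), (nat_lit 13), (nat_lit 15), (nat_lit 19), (nat_lit 27), (nat_lit 29), (nat_lit 31), (nat_lit 33)],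
  Ent.dead (nat_lit 1) [(nat_lit 1), (nat_lit 5), (nat_lit 7), (nat_lit 11), (nat_lit 13), (nat_lit 15), (nat_lit 21), (nat_lit 25), (nat_lit 27), (nat_lit 31), (nat_lit 33)],
  Ent.merge [(nat_lit 7)] (nat_lit 1) [(nat_lit 3), (nat_lit 5), (nat_lit 7), (nat_lit 15), (nat_lit 17), (nat_lit 21), (nat_lit 23), (nat_lit 25), (nat_lit 27), (nat_lit 29)] ⟨[], (nat_lit 12), []⟩,
  Ent.split [⟨[], (nat_lit 13), []⟩, ⟨[], (nat_lit 14), []⟩],
  Ent.merge [(nat_lit 5)] (nat_lit 1) [(nat_lit 3), (nat_lit 5), (nat_lit 7), (nat_lit 9), (nat_lit 23), (nat_lit 25), (nat_lit 27)] ⟨[], (nat_lit 15), []⟩]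
noncomputable def a_X6 : List (List Nat) := [[],
  [(nat_lit 11)],
  [(nat_lit 9)],
  [(nat_lit 9), (nat_lit 11)],
  [(nat_lit 7)],
  [(nat_lit 5), (nat_lit 7)],
  [(nat_lit 5), (nat_lit 7), (nat_lit 11)],
  [(nat_lit 3)],
  [(nat_lit 3), (nat_lit 5)],
  [(nat_lit 3), (nat_lit 5), (nat_lit 11)],
  [(nat_lit 3), (nat_lit 5), (nat_lit 7)],
  [(nat_lit 3), (nat_lit 5), (nat_lit 7), (nat_lit 9)],
  [(nat_lit 1), (nat_lit 7)],
  [(nat_lit 1), (nat_lit 7), (nat_lit 9)],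
  [(nat_lit 1), (nat_lit 5)],
  [(nat_lit 1), (nat_lit 3), (nat_lit 5), (nat_lit 7)]]
noncomputable def a_E5 : List Ent := [Ent.split [⟨[], (nat_lit 0), []⟩, ⟨[], (nat_lit 1), []⟩],
  Ent.split [⟨[], (nat_lit 2), []⟩, ⟨[], (nat_lit 3), []⟩],
  Ent.merge [(nat_lit 1)] (nat_lit 1) [(nat_lit 3), (nat_lit 9), (nat_lit 11), (nat_lit 19), (nat_lit 21), (nat_lit 23), (nat_lit 27)] ⟨[], (nat_lit 4), []⟩,
  Ent.split [⟨[], (nat_lit 5), []⟩, ⟨[], (nat_lit 6), []⟩],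
  Ent.merge [(nat_lit 1), (nat_lit 7), (nat_lit 13), (nat_lit 17), (nat_lit 21), (nat_lit 23), (nat_lit 27), (nat_lit 29), (nat_lit 33)] (nat_lit 1) [(nat_lit 3), (nat_lit 9), (nat_lit 11), (nat_lit 13), (nat_lit 21), (nat_lit 23), (nat_lit 25), (nat_lit 31)] ⟨[], (nat_lit 7), []⟩,
  Ent.split [⟨[], (nat_lit 8), []⟩, ⟨[], (nat_lit 9), []⟩],
  Ent.merge [(nat_lit 1)] (nat_lit 1) [(nat_lit 1), (nat_lit 5), (nat_lit 7), (nat_lit 9), (nat_lit 11), (nat_lit 13), (nat_lit 15), (nat_lit 17), (nat_lit 19), (nat_lit 23), (nat_lit 29)] ⟨[], (nat_lit 10), []⟩,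
  Ent.merge [(nat_lit 1)] (nat_lit 1) [(nat_lit 1), (nat_lit 7), (nat_lit 9), (nat_lit 11), (nat_lit 15), (nat_lit 19), (nat_lit 29), (nat_lit 31)] ⟨[], (nat_lit 11), []⟩,
  Ent.dead (nat_lit 1) [(nat_lit 1), (nat_lit 9), (nat_lit 11), (nat_lit 17), (nat_lit 21)],
  Ent.merge [(nat_lit 7)] (nat_lit 1) [(nat_lit 5), (nat_lit 7), (nat_lit 19), (nat_lit 21), (nat_lit 23), (nat_lit 25)] ⟨[], (nat_lit 12), []⟩,
  Ent.merge [(nat_lit 7)] (nat_lit 1) [(nat_lit 7), (nat_lit 13), (nat_lit 15), (nat_lit 17), (nat_lit 21), (nat_lit 29), (nat_lit 31)] ⟨[], (nat_lit 13), []⟩,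
  Ent.merge [(nat_lit 3)] (nat_lit 1) [(nat_lit 3), (nat_lit 9), (nat_lit 11), (nat_lit 13), (nat_lit 17), (nat_lit 19), (nat_lit 25), (nat_lit 29), (nat_lit 31)] ⟨[], (nat_lit 14), []⟩,
  Ent.dead (nat_lit 1) [(nat_lit 7), (nat_lit 13), (nat_lit 15), (nat_lit 17), (nat_lit 21), (nat_lit 23), (nat_lit 29)],
  Ent.dead (nat_lit 1) [(nat_lit 3), (nat_lit 5), (nat_lit 7), (nat_lit 9), (nat_lit 11), (nat_lit 13), (nat_lit 15), (nat_lit 17), (nat_lit 19), (nat_lit 25), (nat_lit 27), (nat_lit 29), (nat_lit 31)],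
  Ent.dead (nat_lit 1) [(nat_lit 5), (nat_lit 7), (nat_lit 15), (nat_lit 17), (nat_lit 19), (nat_lit 21), (nat_lit 23), (nat_lit 25), (nat_lit 29)],
  Ent.merge [(nat_lit 7)] (nat_lit 1) [(nat_lit 1), (nat_lit 3), (nat_lit 13), (nat_lit 25)] ⟨[], (nat_lit 15), []⟩]
noncomputable def a_X7 : List (List Nat) := [[],
  [(nat_lit 13)],
  [(nat_lit 11)],
  [(nat_lit 11), (nat_lit 13)],
  [(nat_lit 9)],
  [(nat_lit 9), (nat_lit 13)],
  [(nat_lit 9), (nat_lit 11)],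
  [(nat_lit 9), (nat_lit 11), (nat_lit 13)],
  [(nat_lit 5), (nat_lit 7)],
  [(nat_lit 5), (nat_lit 7), (nat_lit 13)],
  [(nat_lit 5), (nat_lit 7), (nat_lit 11)],
  [(nat_lit 5), (nat_lit 7), (nat_lit 11), (nat_lit 13)],
  [(nat_lit 3)],
  [(nat_lit 3), (nat_lit 13)],
  [(nat_lit 3), (nat_lit 5)],
  [(nat_lit 3), (nat_lit 5), (nat_lit 11)],
  [(nat_lit 3), (nat_lit 5), (nat_lit 7)],
  [(nat_lit 3), (nat_lit 5), (nat_lit 7), (nat_lit 9)],
  [(nat_lit 1), (nat_lit 7)],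
  [(nat_lit 1), (nat_lit 7), (nat_lit 13)],
  [(nat_lit 1), (nat_lit 7), (nat_lit 9)],
  [(nat_lit 1), (nat_lit 7), (nat_lit 9), (nat_lit 13)],
  [(nat_lit 1), (nat_lit 5)],
  [(nat_lit 1), (nat_lit 5), (nat_lit 13)],
  [(nat_lit 1), (nat_lit 3), (nat_lit 5), (nat_lit 7)],
  [(nat_lit 1), (nat_lit 3), (nat_lit 5), (nat_lit 7), (nat_lit 13)]]
noncomputable def a_E6 : List Ent := [Ent.split [⟨[], (nat_lit 0), []⟩, ⟨[], (nat_lit 1), []⟩],
  Ent.split [⟨[], (nat_lit 2), []⟩, ⟨[], (nat_lit 3), []⟩],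
  Ent.split [⟨[], (nat_lit 4), []⟩, ⟨[], (nat_lit 5), []⟩],
  Ent.split [⟨[], (nat_lit 6), []⟩, ⟨[], (nat_lit 7), []⟩],
  Ent.dead (nat_lit 1) [(nat_lit 3), (nat_lit 7), (nat_lit 9), (nat_lit 13), (nat_lit 15), (nat_lit 19), (nat_lit 23), (nat_lit 27)],
  Ent.split [⟨[], (nat_lit 8), []⟩, ⟨[], (nat_lit 9), []⟩],
  Ent.split [⟨[], (nat_lit 10), []⟩, ⟨[], (nat_lit 11), []⟩],
  Ent.split [⟨[], (nat_lit 12), []⟩, ⟨[], (nat_lit 13), []⟩],
  Ent.merge [(nat_lit 7)] (nat_lit 1) [(nat_lit 5), (nat_lit 7), (nat_lit 9), (nat_lit 11), (nat_lit 19), (nat_lit 21), (nat_lit 23), (nat_lit 25)] ⟨[], (nat_lit 14), []⟩,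
  Ent.merge [(nat_lit 7)] (nat_lit 1) [(nat_lit 1), (nat_lit 3), (nat_lit 11), (nat_lit 13), (nat_lit 15), (nat_lit 17), (nat_lit 23), (nat_lit 25), (nat_lit 29)] ⟨[], (nat_lit 15), []⟩,
  Ent.merge [(nat_lit 7)] (nat_lit 1) [(nat_lit 5), (nat_lit 7), (nat_lit 9), (nat_lit 11), (nat_lit 15), (nat_lit 17), (nat_lit 19), (nat_lit 21), (nat_lit 25), (nat_lit 29)] ⟨[], (nat_lit 16), []⟩,
  Ent.merge [(nat_lit 7)] (nat_lit 1) [(nat_lit 3), (nat_lit 7), (nat_lit 9), (nat_lit 13), (nat_lit 17), (nat_lit 19), (nat_lit 27), (nat_lit 29)] ⟨[], (nat_lit 17), []⟩,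
  Ent.split [⟨[], (nat_lit 18), []⟩, ⟨[], (nat_lit 19), []⟩],
  Ent.split [⟨[], (nat_lit 20), []⟩, ⟨[], (nat_lit 21), []⟩],
  Ent.split [⟨[], (nat_lit 22), []⟩, ⟨[], (nat_lit 23), []⟩],
  Ent.split [⟨[], (nat_lit 24), []⟩, ⟨[], (nat_lit 25), []⟩]]
noncomputable def a_X8 : List (List Nat) := [[],
  [(nat_lit 15)],
  [(nat_lit 13)],
  [(nat_lit 11)],
  [(nat_lit 11), (nat_lit 13)],
  [(nat_lit 9)],
  [(nat_lit 9), (nat_lit 13)],
  [(nat_lit 9), (nat_lit 11)],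
  [(nat_lit 9), (nat_lit 11), (nat_lit 13)],
  [(nat_lit 5), (nat_lit 7)],
  [(nat_lit 5), (nat_lit 7), (nat_lit 11)],
  [(nat_lit 3)],
  [(nat_lit 3), (nat_lit 5), (nat_lit 11)],
  [(nat_lit 3), (nat_lit 5), (nat_lit 7), (nat_lit 9)],
  [(nat_lit 1), (nat_lit 7), (nat_lit 13)],
  [(nat_lit 1), (nat_lit 7), (nat_lit 9), (nat_lit 13)],
  [(nat_lit 1), (nat_lit 5)],
  [(nat_lit 1), (nat_lit 5), (nat_lit 15)],
  [(nat_lit 1), (nat_lit 5), (nat_lit 13)],
  [(nat_lit 1), (nat_lit 3), (nat_lit 5), (nat_lit 7), (nat_lit 13)]]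
noncomputable def a_E7 : List Ent := [Ent.split [⟨[], (nat_lit 0), []⟩, ⟨[], (nat_lit 1), []⟩],
  Ent.merge [(nat_lit 5)] (nat_lit 1) [(nat_lit 3), (nat_lit 5), (nat_lit 7), (nat_lit 11), (nat_lit 21), (nat_lit 23)] ⟨[], (nat_lit 2), []⟩,
  Ent.merge [(nat_lit 7)] (nat_lit 1) [(nat_lit 1), (nat_lit 3), (nat_lit 5), (nat_lit 7), (nat_lit 11), (nat_lit 19), (nat_lit 21), (nat_lit 25)] ⟨[], (nat_lit 3), []⟩,
  Ent.merge [(nat_lit 7)] (nat_lit 1) [(nat_lit 1), (nat_lit 3), (nat_lit 5), (nat_lit 7), (nat_lit 11), (nat_lit 15), (nat_lit 19), (nat_lit 21)] ⟨[], (nat_lit 4), []⟩,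
  Ent.merge [(nat_lit 3)] (nat_lit 1) [(nat_lit 3), (nat_lit 5), (nat_lit 7), (nat_lit 9), (nat_lit 21)] ⟨[], (nat_lit 5), []⟩,
  Ent.merge [(nat_lit 5)] (nat_lit 1) [(nat_lit 1), (nat_lit 5), (nat_lit 7), (nat_lit 9), (nat_lit 11), (nat_lit 15), (nat_lit 17), (nat_lit 25)] ⟨[], (nat_lit 6), []⟩,
  Ent.merge [(nat_lit 7)] (nat_lit 1) [(nat_lit 5), (nat_lit 7), (nat_lit 9), (nat_lit 15), (nat_lit 25)] ⟨[], (nat_lit 7), []⟩,
  Ent.merge [(nat_lit 7)] (nat_lit 1) [(nat_lit 5), (nat_lit 7), (nat_lit 9), (nat_lit 13), (nat_lit 15), (nat_lit 17), (nat_lit 19), (nat_lit 21)] ⟨[], (nat_lit 8), []⟩,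
  Ent.merge [(nat_lit 13)] (nat_lit 1) [(nat_lit 3), (nat_lit 5), (nat_lit 7), (nat_lit 11), (nat_lit 13), (nat_lit 17), (nat_lit 19), (nat_lit 23), (nat_lit 25)] ⟨[], (nat_lit 9), []⟩,
  Ent.dead (nat_lit 1) [(nat_lit 5), (nat_lit 7), (nat_lit 9), (nat_lit 11), (nat_lit 13), (nat_lit 19), (nat_lit 21), (nat_lit 25)],
  Ent.merge [(nat_lit 13)] (nat_lit 1) [(nat_lit 3), (nat_lit 5), (nat_lit 7), (nat_lit 11), (nat_lit 15), (nat_lit 19), (nat_lit 21)] ⟨[], (nat_lit 10), []⟩,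
  Ent.dead (nat_lit 1) [(nat_lit 3), (nat_lit 5), (nat_lit 7), (nat_lit 9), (nat_lit 11), (nat_lit 15), (nat_lit 17), (nat_lit 21), (nat_lit 25)],
  Ent.merge [(nat_lit 13)] (nat_lit 1) [(nat_lit 3), (nat_lit 5), (nat_lit 7), (nat_lit 13), (nat_lit 17), (nat_lit 19), (nat_lit 25)] ⟨[], (nat_lit 11), []⟩,
  Ent.dead (nat_lit 1) [(nat_lit 5), (nat_lit 7), (nat_lit 9), (nat_lit 11), (nat_lit 13), (nat_lit 15), (nat_lit 17), (nat_lit 21), (nat_lit 25)],
  Ent.dead (nat_lit 1) [(nat_lit 1), (nat_lit 5), (nat_lit 7), (nat_lit 15), (nat_lit 17), (nat_lit 23)],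
  Ent.merge [(nat_lit 11)] (nat_lit 1) [(nat_lit 1), (nat_lit 5), (nat_lit 7), (nat_lit 11), (nat_lit 17), (nat_lit 21), (nat_lit 23), (nat_lit 25)] ⟨[], (nat_lit 12), []⟩,
  Ent.dead (nat_lit 1) [(nat_lit 3), (nat_lit 5), (nat_lit 7), (nat_lit 9), (nat_lit 11), (nat_lit 13), (nat_lit 15), (nat_lit 17), (nat_lit 19), (nat_lit 21), (nat_lit 27)],
  Ent.merge [(nat_lit 9)] (nat_lit 1) [(nat_lit 5), (nat_lit 7), (nat_lit 9), (nat_lit 11), (nat_lit 17), (nat_lit 19), (nat_lit 21), (nat_lit 23), (nat_lit 25), (nat_lit 27)] ⟨[], (nat_lit 13), []⟩,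
  Ent.dead (nat_lit 1) [(nat_lit 1), (nat_lit 5), (nat_lit 7), (nat_lit 11), (nat_lit 15), (nat_lit 17), (nat_lit 21), (nat_lit 27)],
  Ent.merge [(nat_lit 13)] (nat_lit 1) [(nat_lit 1), (nat_lit 5), (nat_lit 7), (nat_lit 11), (nat_lit 13), (nat_lit 17), (nat_lit 19), (nat_lit 21), (nat_lit 23), (nat_lit 25), (nat_lit 27)] ⟨[], (nat_lit 14), []⟩,
  Ent.dead (nat_lit 1) [(nat_lit 1), (nat_lit 5), (nat_lit 7), (nat_lit 15), (nat_lit 21), (nat_lit 27)],
  Ent.merge [(nat_lit 13)] (nat_lit 1) [(nat_lit 1), (nat_lit 5), (nat_lit 7), (nat_lit 13), (nat_lit 15)] ⟨[], (nat_lit 15), []⟩,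
  Ent.split [⟨[], (nat_lit 16), []⟩, ⟨[], (nat_lit 17), []⟩],
  Ent.merge [(nat_lit 5), (nat_lit 7), (nat_lit 13), (nat_lit 17), (nat_lit 21), (nat_lit 23), (nat_lit 27), (nat_lit 29), (nat_lit 33)] (nat_lit 1) [(nat_lit 1), (nat_lit 3), (nat_lit 5), (nat_lit 7), (nat_lit 13), (nat_lit 17), (nat_lit 19), (nat_lit 25), (nat_lit 27)] ⟨[], (nat_lit 18), []⟩,
  Ent.dead (nat_lit 1) [(nat_lit 1), (nat_lit 5), (nat_lit 7), (nat_lit 13), (nat_lit 17), (nat_lit 19), (nat_lit 21), (nat_lit 25)],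
  Ent.merge [(nat_lit 13)] (nat_lit 1) [(nat_lit 1), (nat_lit 5), (nat_lit 7), (nat_lit 15), (nat_lit 17), (nat_lit 19), (nat_lit 27)] ⟨[], (nat_lit 19), []⟩]
noncomputable def a_X9 : List (List Nat) := [[],
  [(nat_lit 17)],
  [(nat_lit 15)],
  [(nat_lit 15), (nat_lit 17)],
  [(nat_lit 13)],
  [(nat_lit 11)],
  [(nat_lit 11), (nat_lit 17)],
  [(nat_lit 11), (nat_lit 13)],
  [(nat_lit 9)],
  [(nat_lit 9), (nat_lit 13)],
  [(nat_lit 9), (nat_lit 11)],
  [(nat_lit 9), (nat_lit 11), (nat_lit 17)],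
  [(nat_lit 9), (nat_lit 11), (nat_lit 13)],
  [(nat_lit 5), (nat_lit 7)],
  [(nat_lit 5), (nat_lit 7), (nat_lit 17)],
  [(nat_lit 5), (nat_lit 7), (nat_lit 11)],
  [(nat_lit 5), (nat_lit 7), (nat_lit 11), (nat_lit 17)],
  [(nat_lit 3)],
  [(nat_lit 3), (nat_lit 17)],
  [(nat_lit 3), (nat_lit 5), (nat_lit 11)],
  [(nat_lit 3), (nat_lit 5), (nat_lit 11), (nat_lit 17)],
  [(nat_lit 3), (nat_lit 5), (nat_lit 7), (nat_lit 9)],
  [(nat_lit 3), (nat_lit 5), (nat_lit 7), (nat_lit 9), (nat_lit 17)],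
  [(nat_lit 1), (nat_lit 7), (nat_lit 13)],
  [(nat_lit 1), (nat_lit 7), (nat_lit 13), (nat_lit 17)],
  [(nat_lit 1), (nat_lit 7), (nat_lit 9), (nat_lit 13)],
  [(nat_lit 1), (nat_lit 7), (nat_lit 9), (nat_lit 13), (nat_lit 17)],
  [(nat_lit 1), (nat_lit 5)],
  [(nat_lit 1), (nat_lit 5), (nat_lit 15)],
  [(nat_lit 1), (nat_lit 3), (nat_lit 5), (nat_lit 7), (nat_lit 13)],
  [(nat_lit 1), (nat_lit 3), (nat_lit 5), (nat_lit 7), (nat_lit 13), (nat_lit 17)]]
noncomputable def a_E8 : List Ent := [Ent.split [⟨[], (nat_lit 0), []⟩, ⟨[], (nat_lit 1), []⟩],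
  Ent.split [⟨[], (nat_lit 2), []⟩, ⟨[], (nat_lit 3), []⟩],
  Ent.merge [(nat_lit 1), (nat_lit 5), (nat_lit 9), (nat_lit 11), (nat_lit 13), (nat_lit 17), (nat_lit 19), (nat_lit 21), (nat_lit 23), (nat_lit 29), (nat_lit 31), (nat_lit 35), (nat_lit 41), (nat_lit 43)] (nat_lit 1) [(nat_lit 11), (nat_lit 13), (nat_lit 15), (nat_lit 19), (nat_lit 21), (nat_lit 23), (nat_lit 25)] ⟨[], (nat_lit 4), []⟩,
  Ent.split [⟨[], (nat_lit 5), []⟩, ⟨[], (nat_lit 6), []⟩],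
  Ent.merge [(nat_lit 5)] (nat_lit 1) [(nat_lit 15), (nat_lit 17), (nat_lit 19), (nat_lit 23), (nat_lit 25)] ⟨[], (nat_lit 7), []⟩,
  Ent.merge [(nat_lit 7)] (nat_lit 1) [(nat_lit 1), (nat_lit 7), (nat_lit 9), (nat_lit 11), (nat_lit 17), (nat_lit 19), (nat_lit 21), (nat_lit 23)] ⟨[], (nat_lit 8), []⟩,
  Ent.merge [(nat_lit 7)] (nat_lit 1) [(nat_lit 1), (nat_lit 7), (nat_lit 9), (nat_lit 15)] ⟨[], (nat_lit 9), []⟩,
  Ent.split [⟨[], (nat_lit 10), []⟩, ⟨[], (nat_lit 11), []⟩],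
  Ent.merge [(nat_lit 1)] (nat_lit 1) [(nat_lit 1), (nat_lit 7), (nat_lit 11), (nat_lit 13), (nat_lit 17), (nat_lit 23)] ⟨[], (nat_lit 12), []⟩,
  Ent.split [⟨[], (nat_lit 13), []⟩, ⟨[], (nat_lit 14), []⟩],
  Ent.split [⟨[], (nat_lit 15), []⟩, ⟨[], (nat_lit 16), []⟩],
  Ent.split [⟨[], (nat_lit 17), []⟩, ⟨[], (nat_lit 18), []⟩],
  Ent.split [⟨[], (nat_lit 19), []⟩, ⟨[], (nat_lit 20), []⟩],
  Ent.split [⟨[], (nat_lit 21), []⟩, ⟨[], (nat_lit 22), []⟩],
  Ent.split [⟨[], (nat_lit 23), []⟩, ⟨[], (nat_lit 24), []⟩],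
  Ent.split [⟨[], (nat_lit 25), []⟩, ⟨[], (nat_lit 26), []⟩],
  Ent.merge [(nat_lit 13)] (nat_lit 1) [(nat_lit 9), (nat_lit 19), (nat_lit 23), (nat_lit 25)] ⟨[], (nat_lit 27), []⟩,
  Ent.merge [(nat_lit 13)] (nat_lit 1) [(nat_lit 9), (nat_lit 11), (nat_lit 13), (nat_lit 15), (nat_lit 17), (nat_lit 19), (nat_lit 21), (nat_lit 23), (nat_lit 25)] ⟨[], (nat_lit 28), []⟩,
  Ent.dead (nat_lit 1) [(nat_lit 9), (nat_lit 11), (nat_lit 13)],
  Ent.split [⟨[], (nat_lit 29), []⟩, ⟨[], (nat_lit 30), []⟩]]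
noncomputable def a_X10 : List (List Nat) := [[],
  [(nat_lit 19)],
  [(nat_lit 17)]]
noncomputable def a_E9 : List Ent := [Ent.split [⟨[], (nat_lit 0), []⟩, ⟨[], (nat_lit 1), []⟩],
  Ent.merge [(nat_lit 5)] (nat_lit 1) [(nat_lit 7), (nat_lit 11), (nat_lit 15), (nat_lit 17), (nat_lit 19), (nat_lit 21)] ⟨[], (nat_lit 2), []⟩,
  Ent.merge [(nat_lit 1)] (nat_lit 1) [(nat_lit 7), (nat_lit 13), (nat_lit 15), (nat_lit 17), (nat_lit 19), (nat_lit 21)] ⟨[(nat_lit 7), (nat_lit 19), (nat_lit 17), (nat_lit 45), (nat_lit 8), (nat_lit 1), (nat_lit 10), (nat_lit 8), (nat_lit 46), (nat_lit 5), (nat_lit 19), (nat_lit 46), (nat_lit 6)], (nat_lit 1), [(nat_lit 1), (nat_lit 3), (nat_lit 5), (nat_lit 7), (nat_lit 9), (nat_lit 15)]⟩,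
  Ent.merge [(nat_lit 5)] (nat_lit 1) [(nat_lit 5), (nat_lit 7), (nat_lit 9), (nat_lit 13), (nat_lit 15)] ⟨[(nat_lit 17), (nat_lit 45), (nat_lit 4), (nat_lit 17), (nat_lit 45), (nat_lit 8), (nat_lit 1), (nat_lit 10), (nat_lit 4), (nat_lit 13), (nat_lit 46), (nat_lit 46), (nat_lit 3), (nat_lit 10)], (nat_lit 1), [(nat_lit 1), (nat_lit 3), (nat_lit 7), (nat_lit 11), (nat_lit 15), (nat_lit 19), (nat_lit 21), (nat_lit 23)]⟩,
  Ent.split [⟨[(nat_lit 2), (nat_lit 45), (nat_lit 3), (nat_lit 8), (nat_lit 46), (nat_lit 3), (nat_lit 7), (nat_lit 46), (nat_lit 46), (nat_lit 7), (nat_lit 11), (nat_lit 1), (nat_lit 10), (nat_lit 5), (nat_lit 10), (nat_lit 45), (nat_lit 4), (nat_lit 46), (nat_lit 7), (nat_lit 10), (nat_lit 7), (nat_lit 6), (nat_lit 13)], (nat_lit 1), [(nat_lit 5), (nat_lit 11), (nat_lit 13), (nat_lit 17), (nat_lit 23)]⟩, ⟨[(nat_lit 45), (nat_lit 9), (nat_lit 7), (nat_lit 45), (nat_lit 11), (nat_lit 1),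 (nat_lit 15), (nat_lit 45), (nat_lit 7), (nat_lit 9), (nat_lit 11), (nat_lit 8), (nat_lit 46), (nat_lit 7), (nat_lit 46), (nat_lit 9), (nat_lit 2), (nat_lit 17)], (nat_lit 2), [(nat_lit 1), (nat_lit 3), (nat_lit 9), (nat_lit 13), (nat_lit 15), (nat_lit 21), (nat_lit 23)]⟩],
  Ent.merge [(nat_lit 9)] (nat_lit 1) [(nat_lit 13), (nat_lit 17), (nat_lit 19), (nat_lit 21), (nat_lit 23)] ⟨[(nat_lit 1), (nat_lit 7), (nat_lit 45), (nat_lit 4), (nat_lit 45), (nat_lit 7), (nat_lit 15), (nat_lit 19), (nat_lit 9), (nat_lit 4), (nat_lit 45), (nat_lit 45), (nat_lit 13), (nat_lit 3)], (nat_lit 1), [(nat_lit 5), (nat_lit 15), (nat_lit 17), (nat_lit 19)]⟩,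
  Ent.merge [(nat_lit 9)] (nat_lit 1) [(nat_lit 11), (nat_lit 13), (nat_lit 15), (nat_lit 19), (nat_lit 21), (nat_lit 23)] ⟨[(nat_lit 46), (nat_lit 46), (nat_lit 5), (nat_lit 15), (nat_lit 6), (nat_lit 11), (nat_lit 7), (nat_lit 3), (nat_lit 9), (nat_lit 4), (nat_lit 45), (nat_lit 45), (nat_lit 13), (nat_lit 3)], (nat_lit 2), [(nat_lit 5), (nat_lit 7), (nat_lit 17), (nat_lit 21)]⟩,
  Ent.merge [(nat_lit 9)] (nat_lit 1) [(nat_lit 7), (nat_lit 11), (nat_lit 15), (nat_lit 19), (nat_lit 23)] ⟨[(nat_lit 46), (nat_lit 10), (nat_lit 19), (nat_lit 1), (nat_lit 9), (nat_lit 17), (nat_lit 46), (nat_lit 19), (nat_lit 8)], (nat_lit 1), [(nat_lit 1), (nat_lit 3), (nat_lit 5), (nat_lit 7), (nat_lit 17), (nat_lit 19), (nat_lit 21)]⟩,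
  Ent.dead (nat_lit 1) [(nat_lit 13), (nat_lit 19), (nat_lit 23)],
  Ent.dead (nat_lit 1) [(nat_lit 7), (nat_lit 9), (nat_lit 15), (nat_lit 17), (nat_lit 19), (nat_lit 21)],
  Ent.merge [(nat_lit 11)] (nat_lit 1) [(nat_lit 13), (nat_lit 17), (nat_lit 19), (nat_lit 21)] ⟨[(nat_lit 11), (nat_lit 4), (nat_lit 6), (nat_lit 46), (nat_lit 15), (nat_lit 45)], (nat_lit 1), [(nat_lit 5), (nat_lit 7), (nat_lit 9), (nat_lit 13), (nat_lit 23)]⟩,
  Ent.merge [(nat_lit 11)] (nat_lit 1) [(nat_lit 15), (nat_lit 21)] ⟨[(nat_lit 15), (nat_lit 45), (nat_lit 2), (nat_lit 46), (nat_lit 46), (nat_lit 5), (nat_lit 5), (nat_lit 13), (nat_lit 45), (nat_lit 5), (nat_lit 46), (nat_lit 10), (nat_lit 4), (nat_lit 7), (nat_lit 4), (nat_lit 6), (nat_lit 6), (nat_lit 45), (nat_lit 1), (nat_lit 46), (nat_lit 5)], (nat_lit 2), [(nat_lit 5), (nat_lit 7), (nat_lit 11), (nat_lit 13), (nat_lit 15), (nat_lit 17), (nat_lit 19), (nat_lit 21), (nat_lit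 23)]⟩,
  Ent.merge [(nat_lit 11)] (nat_lit 1) [(nat_lit 9), (nat_lit 11), (nat_lit 13)] ⟨[(nat_lit 46), (nat_lit 46), (nat_lit 10), (nat_lit 2), (nat_lit 19), (nat_lit 6), (nat_lit 45), (nat_lit 3), (nat_lit 45), (nat_lit 5), (nat_lit 3), (nat_lit 8), (nat_lit 8), (nat_lit 46), (nat_lit 2), (nat_lit 4), (nat_lit 13)], (nat_lit 2), [(nat_lit 1), (nat_lit 3), (nat_lit 5), (nat_lit 7), (nat_lit 13)]⟩,
  Ent.dead (nat_lit 1) [(nat_lit 5), (nat_lit 9), (nat_lit 11), (nat_lit 15), (nat_lit 21)],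
  Ent.merge [(nat_lit 17)] (nat_lit 1) [(nat_lit 9), (nat_lit 11), (nat_lit 13), (nat_lit 15), (nat_lit 19), (nat_lit 21), (nat_lit 23)] ⟨[(nat_lit 10), (nat_lit 46), (nat_lit 11), (nat_lit 45), (nat_lit 13), (nat_lit 1), (nat_lit 45), (nat_lit 7), (nat_lit 2), (nat_lit 15), (nat_lit 13)], (nat_lit 1), [(nat_lit 3), (nat_lit 5), (nat_lit 9), (nat_lit 19), (nat_lit 21)]⟩,
  Ent.merge [(nat_lit 17)] (nat_lit 1) [(nat_lit 9), (nat_lit 11), (nat_lit 17), (nat_lit 21)] ⟨[(nat_lit 8), (nat_lit 46), (nat_lit 46), (nat_lit 11), (nat_lit 45), (nat_lit 5), (nat_lit 3), (nat_lit 8), (nat_lit 8), (nat_lit 46), (nat_lit 2), (nat_lit 4), (nat_lit 13), (nat_lit 17), (nat_lit 46), (nat_lit 7), (nat_lit 10), (nat_lit 7), (nat_lit 6), (nat_lit 13)], (nat_lit 2), [(nat_lit 1), (nat_lit 7), (nat_lit 9), (nat_lit 21), (nat_lit 23)]⟩,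
  Ent.dead (nat_lit 1) [(nat_lit 5), (nat_lit 13), (nat_lit 17), (nat_lit 19), (nat_lit 21)],
  Ent.dead (nat_lit 1) [(nat_lit 5), (nat_lit 7), (nat_lit 9), (nat_lit 13), (nat_lit 17), (nat_lit 19), (nat_lit 21), (nat_lit 23)],
  Ent.merge [(nat_lit 17)] (nat_lit 1) [(nat_lit 9), (nat_lit 17), (nat_lit 21)] ⟨[(nat_lit 4), (nat_lit 45), (nat_lit 2), (nat_lit 8), (nat_lit 5), (nat_lit 15), (nat_lit 5), (nat_lit 46), (nat_lit 4), (nat_lit 8), (nat_lit 5), (nat_lit 3), (nat_lit 8), (nat_lit 8), (nat_lit 46), (nat_lit 2), (nat_lit 4), (nat_lit 13), (nat_lit 15), (nat_lit 5), (nat_lit 9), (nat_lit 45), (nat_lit 17)], (nat_lit 2), [(nat_lit 3), (nat_lit 7), (nat_lit 9), (nat_lit 15), (nat_lit 17)]⟩,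
  Ent.merge [(nat_lit 1), (nat_lit 7), (nat_lit 13), (nat_lit 17), (nat_lit 21), (nat_lit 23), (nat_lit 27), (nat_lit 29), (nat_lit 33)] (nat_lit 1) [(nat_lit 7), (nat_lit 9), (nat_lit 11), (nat_lit 21)] ⟨[(nat_lit 46), (nat_lit 46), (nat_lit 15), (nat_lit 2), (nat_lit 13), (nat_lit 5), (nat_lit 3), (nat_lit 8), (nat_lit 3), (nat_lit 9), (nat_lit 45), (nat_lit 6), (nat_lit 46), (nat_lit 13)], (nat_lit 2), [(nat_lit 3), (nat_lit 5), (nat_lit 11), (nat_lit 17), (nat_lit 19), (nat_lit 23)]⟩,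
  Ent.split [⟨[(nat_lit 45), (nat_lit 8), (nat_lit 46), (nat_lit 3), (nat_lit 46), (nat_lit 11), (nat_lit 45), (nat_lit 15), (nat_lit 5), (nat_lit 9), (nat_lit 45), (nat_lit 17), (nat_lit 15), (nat_lit 5), (nat_lit 9), (nat_lit 45), (nat_lit 17)], (nat_lit 2), [(nat_lit 3), (nat_lit 9), (nat_lit 15), (nat_lit 19), (nat_lit 23)]⟩, ⟨[(nat_lit 15), (nat_lit 45), (nat_lit 4), (nat_lit 11), (nat_lit 19), (nat_lit 7), (nat_lit 46), (nat_lit 7), (nat_lit 46), (nat_lit 46), (nat_lit 7), (nat_lit 11), (nat_lit 46), (nat_lit 11), (nat_lit 45), (nat_lit 17), (nat_lit 46), (nat_lit 7), (nat_lit 10), (nat_lit 7), (nat_lit 6), (nat_lit 13)], (nat_lit 1), [(nat_lit 1), (nat_lit 15), (nat_lit 17)]⟩],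
  Ent.split [⟨[(nat_lit 8), (nat_lit 46), (nat_lit 1), (nat_lit 10), (nat_lit 11), (nat_lit 10), (nat_lit 8), (nat_lit 46), (nat_lit 15), (nat_lit 1), (nat_lit 19), (nat_lit 7), (nat_lit 46), (nat_lit 2), (nat_lit 13), (nat_lit 7), (nat_lit 6), (nat_lit 1), (nat_lit 45), (nat_lit 10), (nat_lit 10), (nat_lit 46), (nat_lit 3)], (nat_lit 2), [(nat_lit 1), (nat_lit 3), (nat_lit 5), (nat_lit 11), (nat_lit 13), (nat_lit 17), (nat_lit 21)]⟩, ⟨[(nat_lit 45), (nat_lit 9), (nat_lit 17), (nat_lit 46), (nat_lit 46), (nat_lit 46), (nat_lit 7), (nat_lit 11), (nat_lit 1), (nat_lit 11), (nat_lit 8), (nat_lit 1), (nat_lit 45), (nat_lit 17), (nat_lit 46)], (nat_lit 1), [(nat_lit 1), (nat_lit 3), (nat_lit 5), (nat_lit 7), (nat_lit 9), (nat_lit 13), (nat_lit 21), (nat_lit 23)]⟩],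
  Ent.merge [(nat_lit 5), (nat_lit 7), (nat_lit 9), (nat_lit 13), (nat_lit 17), (nat_lit 19), (nat_lit 21), (nat_lit 23), (nat_lit 27), (nat_lit 31), (nat_lit 35), (nat_lit 37), (nat_lit 39), (nat_lit 41)] (nat_lit 1) [(nat_lit 13), (nat_lit 15), (nat_lit 17), (nat_lit 19), (nat_lit 21)] ⟨[(nat_lit 6), (nat_lit 45), (nat_lit 5), (nat_lit 2), (nat_lit 7), (nat_lit 11), (nat_lit 2), (nat_lit 15), (nat_lit 45), (nat_lit 8), (nat_lit 10), (nat_lit 8), (nat_lit 46), (nat_lit 8), (nat_lit 1), (nat_lit 45), (nat_lit 17), (nat_lit 46)], (nat_lit 1), [(nat_lit 1), (nat_lit 3), (nat_lit 7), (nat_lit 9), (nat_lit 15)]⟩,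
  Ent.merge [(nat_lit 17)] (nat_lit 1) [(nat_lit 15), (nat_lit 17)] ⟨[(nat_lit 45), (nat_lit 9), (nat_lit 1), (nat_lit 10), (nat_lit 15), (nat_lit 5), (nat_lit 9), (nat_lit 45), (nat_lit 17), (nat_lit 15), (nat_lit 45), (nat_lit 8), (nat_lit 10), (nat_lit 8), (nat_lit 46), (nat_lit 1), (nat_lit 9), (nat_lit 17), (nat_lit 46), (nat_lit 19), (nat_lit 8)], (nat_lit 2), [(nat_lit 1), (nat_lit 9), (nat_lit 11), (nat_lit 13), (nat_lit 21)]⟩,
  Ent.dead (nat_lit 1) [(nat_lit 13), (nat_lit 19), (nat_lit 21)],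
  Ent.merge [(nat_lit 17)] (nat_lit 1) [(nat_lit 11), (nat_lit 17), (nat_lit 21)] ⟨[(nat_lit 46), (nat_lit 10), (nat_lit 17), (nat_lit 45), (nat_lit 8), (nat_lit 2), (nat_lit 13), (nat_lit 46), (nat_lit 11), (nat_lit 45), (nat_lit 19), (nat_lit 5), (nat_lit 46), (nat_lit 6), (nat_lit 4), (nat_lit 1), (nat_lit 9), (nat_lit 2), (nat_lit 46), (nat_lit 46), (nat_lit 5), (nat_lit 5)], (nat_lit 1), [(nat_lit 1), (nat_lit 9), (nat_lit 15)]⟩,
  Ent.dead (nat_lit 1) [(nat_lit 13), (nat_lit 21), (nat_lit 23)],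
  Ent.merge [(nat_lit 15)] (nat_lit 1) [(nat_lit 5), (nat_lit 9), (nat_lit 13), (nat_lit 15), (nat_lit 19)] ⟨[(nat_lit 6), (nat_lit 45), (nat_lit 17), (nat_lit 46), (nat_lit 8), (nat_lit 11), (nat_lit 19), (nat_lit 7), (nat_lit 46), (nat_lit 9), (nat_lit 2), (nat_lit 6), (nat_lit 3), (nat_lit 46)], (nat_lit 2), [(nat_lit 5), (nat_lit 7), (nat_lit 15), (nat_lit 17), (nat_lit 21)]⟩,
  Ent.dead (nat_lit 1) [(nat_lit 5), (nat_lit 11), (nat_lit 17)],
  Ent.merge [(nat_lit 17)] (nat_lit 1) [(nat_lit 7), (nat_lit 9), (nat_lit 13), (nat_lit 19)] ⟨[(nat_lit 7), (nat_lit 5), (nat_lit 46), (nat_lit 4), (nat_lit 46), (nat_lit 46), (nat_lit 7), (nat_lit 11), (nat_lit 46), (nat_lit 11), (nat_lit 45), (nat_lit 4), (nat_lit 13), (nat_lit 46), (nat_lit 46), (nat_lit 3), (nat_lit 10)], (nat_lit 1), [(nat_lit 7), (nat_lit 9), (nat_lit 11), (nat_lit 15), (nat_lit 17)]⟩,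
  Ent.dead (nat_lit 1) [(nat_lit 7), (nat_lit 9), (nat_lit 19), (nat_lit 21)]]
noncomputable def a_ns : List (List Nat) := [[(nat_lit 26), (nat_lit 11), (nat_lit 30), (nat_lit 19), (nat_lit 27), (nat_lit 26), (nat_lit 46), (nat_lit 38), (nat_lit 40), (nat_lit 42), (nat_lit 9), (nat_lit 38), (nat_lit 41), (nat_lit 21), (nat_lit 36), (nat_lit 13), (nat_lit 38), (nat_lit 19)]]
noncomputable def a_nu : List (List (List Nat)) := [[[(nat_lit 3), (nat_lit 7), (nat_lit 9), (nat_lit 21)],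
  [(nat_lit 1), (nat_lit 5), (nat_lit 7), (nat_lit 17), (nat_lit 19), (nat_lit 21)],
  [(nat_lit 9), (nat_lit 11), (nat_lit 13), (nat_lit 15), (nat_lit 17), (nat_lit 19)],
  [(nat_lit 5), (nat_lit 11), (nat_lit 13), (nat_lit 17), (nat_lit 19), (nat_lit 21)],
  [(nat_lit 1), (nat_lit 3), (nat_lit 5), (nat_lit 9), (nat_lit 13), (nat_lit 15), (nat_lit 17), (nat_lit 21), (nat_lit 23)],
  [(nat_lit 1), (nat_lit 3), (nat_lit 19), (nat_lit 21)],
  [(nat_lit 5), (nat_lit 9), (nat_lit 13), (nat_lit 17)],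
  [(nat_lit 7), (nat_lit 17), (nat_lit 23)],
  [(nat_lit 5), (nat_lit 11), (nat_lit 13), (nat_lit 15), (nat_lit 19)],
  [(nat_lit 9), (nat_lit 11), (nat_lit 15), (nat_lit 17), (nat_lit 23)],
  [(nat_lit 1), (nat_lit 3), (nat_lit 5), (nat_lit 15), (nat_lit 23)],
  [(nat_lit 1), (nat_lit 3), (nat_lit 5), (nat_lit 9)]]]
noncomputable def a_X11 : List (List Nat) := [[],
  [(nat_lit 21)],
  [(nat_lit 19)],
  [(nat_lit 19), (nat_lit 21)],
  [(nat_lit 17)],
  [(nat_lit 17), (nat_lit 21)]]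
noncomputable def a_E10 : List Ent := [Ent.split [⟨[], (nat_lit 0), []⟩, ⟨[], (nat_lit 1), []⟩],
  Ent.split [⟨[], (nat_lit 2), []⟩, ⟨[], (nat_lit 3), []⟩],
  Ent.split [⟨[], (nat_lit 4), []⟩, ⟨[], (nat_lit 5), []⟩]]
noncomputable def a_X12 : List (List Nat) := [[],
  [(nat_lit 23)],
  [(nat_lit 21)],
  [(nat_lit 21), (nat_lit 23)],
  [(nat_lit 19)],
  [(nat_lit 19), (nat_lit 23)],
  [(nat_lit 19), (nat_lit 21)],
  [(nat_lit 19), (nat_lit 21), (nat_lit 23)],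
  [(nat_lit 17)],
  [(nat_lit 17), (nat_lit 23)],
  [(nat_lit 17), (nat_lit 21)],
  [(nat_lit 17), (nat_lit 21), (nat_lit 23)]]
noncomputable def a_E11 : List Ent := [Ent.split [⟨[], (nat_lit 0), []⟩, ⟨[], (nat_lit 1), []⟩],
  Ent.split [⟨[], (nat_lit 2), []⟩, ⟨[], (nat_lit 3), []⟩],
  Ent.split [⟨[], (nat_lit 4), []⟩, ⟨[], (nat_lit 5), []⟩],
  Ent.split [⟨[], (nat_lit 6), []⟩, ⟨[], (nat_lit 7), []⟩],
  Ent.split [⟨[], (nat_lit 8), []⟩, ⟨[], (nat_lit 9), []⟩],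
  Ent.split [⟨[], (nat_lit 10), []⟩, ⟨[], (nat_lit 11), []⟩]]
noncomputable def a_X13 : List (List Nat) := [[],
  [(nat_lit 25)],
  [(nat_lit 23)],
  [(nat_lit 21)],
  [(nat_lit 21), (nat_lit 25)],
  [(nat_lit 21), (nat_lit 23)],
  [(nat_lit 19)],
  [(nat_lit 19), (nat_lit 25)],
  [(nat_lit 19), (nat_lit 23)],
  [(nat_lit 19), (nat_lit 21)],
  [(nat_lit 19), (nat_lit 21), (nat_lit 25)],
  [(nat_lit 19), (nat_lit 21), (nat_lit 23)],
  [(nat_lit 17)],
  [(nat_lit 17), (nat_lit 25)],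
  [(nat_lit 17), (nat_lit 23)],
  [(nat_lit 17), (nat_lit 21)],
  [(nat_lit 17), (nat_lit 21), (nat_lit 25)],
  [(nat_lit 17), (nat_lit 21), (nat_lit 23)]]
noncomputable def a_E12 : List Ent := [Ent.split [⟨[], (nat_lit 0), []⟩, ⟨[], (nat_lit 1), []⟩],
  Ent.merge [(nat_lit 5)] (nat_lit 1) [(nat_lit 1), (nat_lit 3), (nat_lit 7), (nat_lit 13), (nat_lit 17)] ⟨[], (nat_lit 2), []⟩,
  Ent.split [⟨[], (nat_lit 3), []⟩, ⟨[], (nat_lit 4), []⟩],
  Ent.merge [(nat_lit 5)] (nat_lit 1) [(nat_lit 1), (nat_lit 3), (nat_lit 5), (nat_lit 7), (nat_lit 11), (nat_lit 17)] ⟨[], (nat_lit 5), []⟩,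
  Ent.split [⟨[], (nat_lit 6), []⟩, ⟨[], (nat_lit 7), []⟩],
  Ent.merge [(nat_lit 5)] (nat_lit 1) [(nat_lit 1), (nat_lit 3), (nat_lit 11)] ⟨[], (nat_lit 8), []⟩,
  Ent.split [⟨[], (nat_lit 9), []⟩, ⟨[], (nat_lit 10), []⟩],
  Ent.merge [(nat_lit 5)] (nat_lit 1) [(nat_lit 1), (nat_lit 3), (nat_lit 5), (nat_lit 13)] ⟨[], (nat_lit 11), []⟩,
  Ent.split [⟨[], (nat_lit 12), []⟩, ⟨[], (nat_lit 13), []⟩],
  Ent.merge [(nat_lit 1), (nat_lit 5), (nat_lit 9), (nat_lit 11), (nat_lit 13), (nat_lit 17), (nat_lit 19), (nat_lit 21), (nat_lit 23), (nat_lit 29), (nat_lit 31), (nat_lit 35), (nat_lit 41), (nat_lit 43)] (nat_lit 1) [(nat_lit 1), (nat_lit 5), (nat_lit 7), (nat_lit 9), (nat_lit 15), (nat_lit 17)] ⟨[], (nat_lit 14), []⟩,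
  Ent.split [⟨[], (nat_lit 15), []⟩, ⟨[], (nat_lit 16), []⟩],
  Ent.merge [(nat_lit 1), (nat_lit 5), (nat_lit 9), (nat_lit 11), (nat_lit 13), (nat_lit 17), (nat_lit 19), (nat_lit 21), (nat_lit 23), (nat_lit 29), (nat_lit 31), (nat_lit 35), (nat_lit 41), (nat_lit 43)] (nat_lit 1) [(nat_lit 1), (nat_lit 7), (nat_lit 9), (nat_lit 11), (nat_lit 15), (nat_lit 17)] ⟨[], (nat_lit 17), []⟩]
noncomputable def a_X14 : List (List Nat) := [[],
  [(nat_lit 27)],
  [(nat_lit 25)],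
  [(nat_lit 23)],
  [(nat_lit 21)],
  [(nat_lit 21), (nat_lit 27)],
  [(nat_lit 21), (nat_lit 25)],
  [(nat_lit 21), (nat_lit 23)],
  [(nat_lit 19)],
  [(nat_lit 19), (nat_lit 27)],
  [(nat_lit 19), (nat_lit 25)],
  [(nat_lit 19), (nat_lit 23)],
  [(nat_lit 19), (nat_lit 21)],
  [(nat_lit 19), (nat_lit 21), (nat_lit 27)],
  [(nat_lit 19), (nat_lit 21), (nat_lit 25)],
  [(nat_lit 19), (nat_lit 21), (nat_lit 23)],
  [(nat_lit 17)],
  [(nat_lit 17), (nat_lit 25)],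
  [(nat_lit 17), (nat_lit 25), (nat_lit 27)],
  [(nat_lit 17), (nat_lit 23)],
  [(nat_lit 17), (nat_lit 21)],
  [(nat_lit 17), (nat_lit 21), (nat_lit 25)],
  [(nat_lit 17), (nat_lit 21), (nat_lit 25), (nat_lit 27)],
  [(nat_lit 17), (nat_lit 21), (nat_lit 23)]]
noncomputable def a_E13 : List Ent := [Ent.split [⟨[], (nat_lit 0), []⟩, ⟨[], (nat_lit 1), []⟩],
  Ent.merge [(nat_lit 7)] (nat_lit 1) [(nat_lit 5), (nat_lit 11), (nat_lit 15)] ⟨[], (nat_lit 2), []⟩,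
  Ent.merge [(nat_lit 9)] (nat_lit 1) [(nat_lit 1), (nat_lit 3), (nat_lit 9), (nat_lit 11)] ⟨[], (nat_lit 3), []⟩,
  Ent.split [⟨[], (nat_lit 4), []⟩, ⟨[], (nat_lit 5), []⟩],
  Ent.merge [(nat_lit 7)] (nat_lit 1) [(nat_lit 3), (nat_lit 11), (nat_lit 15)] ⟨[], (nat_lit 6), []⟩,
  Ent.merge [(nat_lit 9)] (nat_lit 1) [(nat_lit 1), (nat_lit 3), (nat_lit 5), (nat_lit 11)] ⟨[], (nat_lit 7), []⟩,
  Ent.split [⟨[], (nat_lit 8), []⟩, ⟨[], (nat_lit 9), []⟩],
  Ent.merge [(nat_lit 7)] (nat_lit 1) [(nat_lit 7), (nat_lit 9)] ⟨[], (nat_lit 10), []⟩,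
  Ent.merge [(nat_lit 9)] (nat_lit 1) [(nat_lit 1), (nat_lit 3), (nat_lit 9), (nat_lit 11)] ⟨[], (nat_lit 11), []⟩,
  Ent.split [⟨[], (nat_lit 12), []⟩, ⟨[], (nat_lit 13), []⟩],
  Ent.merge [(nat_lit 7)] (nat_lit 1) [(nat_lit 3), (nat_lit 5), (nat_lit 7), (nat_lit 9)] ⟨[], (nat_lit 14), []⟩,
  Ent.merge [(nat_lit 9)] (nat_lit 1) [(nat_lit 1), (nat_lit 3), (nat_lit 5), (nat_lit 11)] ⟨[], (nat_lit 15), []⟩,
  Ent.merge [(nat_lit 7)] (nat_lit 1) [(nat_lit 5), (nat_lit 11), (nat_lit 15)] ⟨[], (nat_lit 16), []⟩,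
  Ent.split [⟨[], (nat_lit 17), []⟩, ⟨[], (nat_lit 18), []⟩],
  Ent.merge [(nat_lit 9)] (nat_lit 1) [(nat_lit 1), (nat_lit 7), (nat_lit 9), (nat_lit 13)] ⟨[], (nat_lit 19), []⟩,
  Ent.merge [(nat_lit 7)] (nat_lit 1) [(nat_lit 3), (nat_lit 11), (nat_lit 15)] ⟨[], (nat_lit 20), []⟩,
  Ent.split [⟨[], (nat_lit 21), []⟩, ⟨[], (nat_lit 22), []⟩],
  Ent.merge [(nat_lit 9)] (nat_lit 1) [(nat_lit 1), (nat_lit 5), (nat_lit 7), (nat_lit 13)] ⟨[], (nat_lit 23), []⟩]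
noncomputable def a_X15 : List (List Nat) := [[],
  [(nat_lit 29)],
  [(nat_lit 27)],
  [(nat_lit 25)],
  [(nat_lit 23)],
  [(nat_lit 21)],
  [(nat_lit 21), (nat_lit 29)],
  [(nat_lit 21), (nat_lit 27)],
  [(nat_lit 21), (nat_lit 25)],
  [(nat_lit 21), (nat_lit 23)],
  [(nat_lit 19)],
  [(nat_lit 19), (nat_lit 29)],
  [(nat_lit 19), (nat_lit 27)],
  [(nat_lit 19), (nat_lit 25)],
  [(nat_lit 19), (nat_lit 23)],
  [(nat_lit 19), (nat_lit 21)],
  [(nat_lit 19), (nat_lit 21), (nat_lit 29)],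
  [(nat_lit 19), (nat_lit 21), (nat_lit 27)],
  [(nat_lit 19), (nat_lit 21), (nat_lit 25)],
  [(nat_lit 19), (nat_lit 21), (nat_lit 23)],
  [(nat_lit 17)],
  [(nat_lit 17), (nat_lit 25)],
  [(nat_lit 17), (nat_lit 25), (nat_lit 27)],
  [(nat_lit 17), (nat_lit 21)],
  [(nat_lit 17), (nat_lit 21), (nat_lit 25)],
  [(nat_lit 17), (nat_lit 21), (nat_lit 25), (nat_lit 27)]]
noncomputable def a_E14 : List Ent := [Ent.split [⟨[], (nat_lit 0), []⟩, ⟨[], (nat_lit 1), []⟩],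
  Ent.merge [(nat_lit 7)] (nat_lit 1) [(nat_lit 1), (nat_lit 5), (nat_lit 11), (nat_lit 13)] ⟨[], (nat_lit 2), []⟩,
  Ent.merge [(nat_lit 13)] (nat_lit 1) [(nat_lit 1), (nat_lit 3)] ⟨[], (nat_lit 3), []⟩,
  Ent.merge [(nat_lit 17)] (nat_lit 1) [(nat_lit 1), (nat_lit 5), (nat_lit 7), (nat_lit 11), (nat_lit 13)] ⟨[], (nat_lit 4), []⟩,
  Ent.split [⟨[], (nat_lit 5), []⟩, ⟨[], (nat_lit 6), []⟩],
  Ent.merge [(nat_lit 7)] (nat_lit 1) [(nat_lit 3), (nat_lit 5), (nat_lit 11), (nat_lit 13)] ⟨[], (nat_lit 7), []⟩,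
  Ent.merge [(nat_lit 13)] (nat_lit 1) [(nat_lit 1), (nat_lit 7), (nat_lit 11), (nat_lit 13)] ⟨[], (nat_lit 8), []⟩,
  Ent.merge [(nat_lit 17)] (nat_lit 1) [(nat_lit 1), (nat_lit 5), (nat_lit 7), (nat_lit 9)] ⟨[], (nat_lit 9), []⟩,
  Ent.split [⟨[], (nat_lit 10), []⟩, ⟨[], (nat_lit 11), []⟩],
  Ent.merge [(nat_lit 7)] (nat_lit 1) [(nat_lit 1), (nat_lit 3), (nat_lit 7), (nat_lit 9), (nat_lit 11)] ⟨[], (nat_lit 12), []⟩,
  Ent.merge [(nat_lit 13)] (nat_lit 1) [(nat_lit 1), (nat_lit 3), (nat_lit 5), (nat_lit 7), (nat_lit 9)] ⟨[], (nat_lit 13), []⟩,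
  Ent.merge [(nat_lit 17)] (nat_lit 1) [(nat_lit 1), (nat_lit 5), (nat_lit 9)] ⟨[], (nat_lit 14), []⟩,
  Ent.split [⟨[], (nat_lit 15), []⟩, ⟨[], (nat_lit 16), []⟩],
  Ent.merge [(nat_lit 7)] (nat_lit 1) [(nat_lit 7), (nat_lit 9), (nat_lit 11)] ⟨[], (nat_lit 17), []⟩,
  Ent.merge [(nat_lit 13)] (nat_lit 1) [(nat_lit 1), (nat_lit 5), (nat_lit 9), (nat_lit 11), (nat_lit 13)] ⟨[], (nat_lit 18), []⟩,
  Ent.merge [(nat_lit 17)] (nat_lit 1) [(nat_lit 1), (nat_lit 5), (nat_lit 11), (nat_lit 13)] ⟨[], (nat_lit 19), []⟩,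
  Ent.merge [(nat_lit 23)] (nat_lit 1) [(nat_lit 1), (nat_lit 5), (nat_lit 7), (nat_lit 11), (nat_lit 13)] ⟨[], (nat_lit 20), []⟩,
  Ent.merge [(nat_lit 23)] (nat_lit 1) [(nat_lit 1), (nat_lit 5), (nat_lit 7), (nat_lit 11), (nat_lit 13)] ⟨[], (nat_lit 21), []⟩,
  Ent.merge [(nat_lit 23)] (nat_lit 1) [(nat_lit 1), (nat_lit 5), (nat_lit 7), (nat_lit 11), (nat_lit 13)] ⟨[], (nat_lit 22), []⟩,
  Ent.dead (nat_lit 1) [(nat_lit 1), (nat_lit 3), (nat_lit 7), (nat_lit 13)],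
  Ent.merge [(nat_lit 23)] (nat_lit 1) [(nat_lit 1), (nat_lit 5), (nat_lit 7), (nat_lit 11), (nat_lit 13)] ⟨[], (nat_lit 23), []⟩,
  Ent.merge [(nat_lit 23)] (nat_lit 1) [(nat_lit 1), (nat_lit 5), (nat_lit 7), (nat_lit 11), (nat_lit 13)] ⟨[], (nat_lit 24), []⟩,
  Ent.merge [(nat_lit 23)] (nat_lit 1) [(nat_lit 1), (nat_lit 5), (nat_lit 7), (nat_lit 11), (nat_lit 13)] ⟨[], (nat_lit 25), []⟩,
  Ent.dead (nat_lit 1) [(nat_lit 1), (nat_lit 3), (nat_lit 7), (nat_lit 9), (nat_lit 11)]]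
noncomputable def a_X16 : List (List Nat) := [[],
  [(nat_lit 31)],
  [(nat_lit 29)],
  [(nat_lit 29), (nat_lit 31)],
  [(nat_lit 27)],
  [(nat_lit 25)],
  [(nat_lit 23)],
  [(nat_lit 23), (nat_lit 31)],
  [(nat_lit 21)],
  [(nat_lit 21), (nat_lit 29)],
  [(nat_lit 21), (nat_lit 27)],
  [(nat_lit 21), (nat_lit 25)],
  [(nat_lit 21), (nat_lit 23)],
  [(nat_lit 19)],
  [(nat_lit 19), (nat_lit 31)],
  [(nat_lit 19), (nat_lit 29)],
  [(nat_lit 19), (nat_lit 29), (nat_lit 31)],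
  [(nat_lit 19), (nat_lit 27)],
  [(nat_lit 19), (nat_lit 25)],
  [(nat_lit 19), (nat_lit 23)],
  [(nat_lit 19), (nat_lit 23), (nat_lit 31)],
  [(nat_lit 19), (nat_lit 21)],
  [(nat_lit 19), (nat_lit 21), (nat_lit 29)],
  [(nat_lit 19), (nat_lit 21), (nat_lit 27)],
  [(nat_lit 19), (nat_lit 21), (nat_lit 25)],
  [(nat_lit 19), (nat_lit 21), (nat_lit 23)],
  [(nat_lit 17)],
  [(nat_lit 17), (nat_lit 25)],
  [(nat_lit 17), (nat_lit 25), (nat_lit 27)],
  [(nat_lit 17), (nat_lit 25), (nat_lit 27), (nat_lit 31)],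
  [(nat_lit 17), (nat_lit 21)],
  [(nat_lit 17), (nat_lit 21), (nat_lit 25)],
  [(nat_lit 17), (nat_lit 21), (nat_lit 25), (nat_lit 27)]]
noncomputable def a_E15 : List Ent := [Ent.split [⟨[], (nat_lit 0), []⟩, ⟨[], (nat_lit 1), []⟩],
  Ent.split [⟨[], (nat_lit 2), []⟩, ⟨[], (nat_lit 3), []⟩],
  Ent.merge [(nat_lit 5), (nat_lit 7), (nat_lit 13), (nat_lit 17), (nat_lit 21), (nat_lit 23), (nat_lit 27), (nat_lit 29), (nat_lit 33)] (nat_lit 1) [(nat_lit 9), (nat_lit 11)] ⟨[], (nat_lit 4), []⟩,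
  Ent.merge [(nat_lit 9)] (nat_lit 1) [(nat_lit 1), (nat_lit 3), (nat_lit 7), (nat_lit 11)] ⟨[], (nat_lit 5), []⟩,
  Ent.split [⟨[], (nat_lit 6), []⟩, ⟨[], (nat_lit 7), []⟩],
  Ent.merge [(nat_lit 7)] (nat_lit 1) [(nat_lit 1)] ⟨[], (nat_lit 8), []⟩,
  Ent.merge [(nat_lit 7)] (nat_lit 1) [(nat_lit 5), (nat_lit 7)] ⟨[], (nat_lit 9), []⟩,
  Ent.merge [(nat_lit 5), (nat_lit 7), (nat_lit 13), (nat_lit 17), (nat_lit 21), (nat_lit 23), (nat_lit 27), (nat_lit 29), (nat_lit 33)] (nat_lit 1) [(nat_lit 1), (nat_lit 7), (nat_lit 9), (nat_lit 11)] ⟨[], (nat_lit 10), []⟩,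
  Ent.merge [(nat_lit 9)] (nat_lit 1) [(nat_lit 3), (nat_lit 5), (nat_lit 7), (nat_lit 11)] ⟨[], (nat_lit 11), []⟩,
  Ent.merge [(nat_lit 7), (nat_lit 9), (nat_lit 17), (nat_lit 19), (nat_lit 35), (nat_lit 37), (nat_lit 43)] (nat_lit 1) [(nat_lit 1), (nat_lit 7)] ⟨[], (nat_lit 12), []⟩,
  Ent.split [⟨[], (nat_lit 13), []⟩, ⟨[], (nat_lit 14), []⟩],
  Ent.split [⟨[], (nat_lit 15), []⟩, ⟨[], (nat_lit 16), []⟩],
  Ent.merge [(nat_lit 5), (nat_lit 7), (nat_lit 13), (nat_lit 17), (nat_lit 21), (nat_lit 23), (nat_lit 27), (nat_lit 29), (nat_lit 33)] (nat_lit 1) [(nat_lit 3), (nat_lit 5), (nat_lit 7), (nat_lit 11)] ⟨[], (nat_lit 17), []⟩,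
  Ent.merge [(nat_lit 9)] (nat_lit 1) [(nat_lit 1), (nat_lit 3), (nat_lit 7), (nat_lit 11)] ⟨[], (nat_lit 18), []⟩,
  Ent.split [⟨[], (nat_lit 19), []⟩, ⟨[], (nat_lit 20), []⟩],
  Ent.merge [(nat_lit 7)] (nat_lit 1) [(nat_lit 3), (nat_lit 5), (nat_lit 7), (nat_lit 11)] ⟨[], (nat_lit 21), []⟩,
  Ent.merge [(nat_lit 7)] (nat_lit 1) [(nat_lit 1), (nat_lit 3), (nat_lit 11)] ⟨[], (nat_lit 22), []⟩,
  Ent.merge [(nat_lit 5), (nat_lit 7), (nat_lit 13), (nat_lit 17), (nat_lit 21), (nat_lit 23), (nat_lit 27), (nat_lit 29), (nat_lit 33)] (nat_lit 1) [(nat_lit 1), (nat_lit 3), (nat_lit 5), (nat_lit 11)] ⟨[], (nat_lit 23), []⟩,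
  Ent.merge [(nat_lit 9)] (nat_lit 1) [(nat_lit 3), (nat_lit 5), (nat_lit 7), (nat_lit 11)] ⟨[], (nat_lit 24), []⟩,
  Ent.merge [(nat_lit 7), (nat_lit 9), (nat_lit 17), (nat_lit 19), (nat_lit 35), (nat_lit 37), (nat_lit 43)] (nat_lit 1) [(nat_lit 3), (nat_lit 7)] ⟨[], (nat_lit 25), []⟩,
  Ent.merge [(nat_lit 9)] (nat_lit 1) [(nat_lit 3), (nat_lit 7), (nat_lit 9)] ⟨[], (nat_lit 26), []⟩,
  Ent.merge [(nat_lit 1), (nat_lit 5), (nat_lit 9), (nat_lit 11), (nat_lit 13), (nat_lit 17), (nat_lit 19), (nat_lit 21), (nat_lit 23), (nat_lit 29), (nat_lit 31), (nat_lit 35), (nat_lit 41), (nat_lit 43)] (nat_lit 1) [(nat_lit 3), (nat_lit 5), (nat_lit 7), (nat_lit 9), (nat_lit 11)] ⟨[], (nat_lit 27), []⟩,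
  Ent.split [⟨[], (nat_lit 28), []⟩, ⟨[], (nat_lit 29), []⟩],
  Ent.merge [(nat_lit 9)] (nat_lit 1) [(nat_lit 1), (nat_lit 3), (nat_lit 5), (nat_lit 7), (nat_lit 9)] ⟨[], (nat_lit 30), []⟩,
  Ent.merge [(nat_lit 7)] (nat_lit 1) [(nat_lit 1)] ⟨[], (nat_lit 31), []⟩,
  Ent.merge [(nat_lit 7), (nat_lit 23)] (nat_lit 1) [(nat_lit 1), (nat_lit 9), (nat_lit 11)] ⟨[], (nat_lit 32), []⟩]
noncomputable def a_X17 : List (List Nat) := [[],
  [(nat_lit 33)],
  [(nat_lit 31)],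
  [(nat_lit 29)],
  [(nat_lit 29), (nat_lit 31)],
  [(nat_lit 27)],
  [(nat_lit 27), (nat_lit 33)],
  [(nat_lit 25)],
  [(nat_lit 23)],
  [(nat_lit 23), (nat_lit 31)],
  [(nat_lit 23), (nat_lit 31), (nat_lit 33)],
  [(nat_lit 21)],
  [(nat_lit 21), (nat_lit 29)],
  [(nat_lit 21), (nat_lit 27)],
  [(nat_lit 21), (nat_lit 25)],
  [(nat_lit 21), (nat_lit 23)],
  [(nat_lit 19)],
  [(nat_lit 19), (nat_lit 31)],
  [(nat_lit 19), (nat_lit 31), (nat_lit 33)],
  [(nat_lit 19), (nat_lit 29)],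
  [(nat_lit 19), (nat_lit 29), (nat_lit 31)],
  [(nat_lit 19), (nat_lit 27)],
  [(nat_lit 19), (nat_lit 27), (nat_lit 33)],
  [(nat_lit 19), (nat_lit 25)],
  [(nat_lit 19), (nat_lit 23)],
  [(nat_lit 19), (nat_lit 23), (nat_lit 33)],
  [(nat_lit 19), (nat_lit 23), (nat_lit 31)],
  [(nat_lit 19), (nat_lit 21)],
  [(nat_lit 19), (nat_lit 21), (nat_lit 29)],
  [(nat_lit 19), (nat_lit 21), (nat_lit 27)],
  [(nat_lit 19), (nat_lit 21), (nat_lit 25)],
  [(nat_lit 19), (nat_lit 21), (nat_lit 23)],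
  [(nat_lit 17), (nat_lit 25)],
  [(nat_lit 17), (nat_lit 25), (nat_lit 27)],
  [(nat_lit 17), (nat_lit 25), (nat_lit 27), (nat_lit 31)],
  [(nat_lit 17), (nat_lit 21), (nat_lit 25)],
  [(nat_lit 17), (nat_lit 21), (nat_lit 25), (nat_lit 27)]]
noncomputable def a_E16 : List Ent := [Ent.split [⟨[], (nat_lit 0), []⟩, ⟨[], (nat_lit 1), []⟩],
  Ent.merge [(nat_lit 7)] (nat_lit 1) [(nat_lit 5), (nat_lit 9)] ⟨[], (nat_lit 2), []⟩,
  Ent.merge [(nat_lit 7)] (nat_lit 1) [(nat_lit 3), (nat_lit 5)] ⟨[], (nat_lit 3), []⟩,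
  Ent.merge [(nat_lit 5)] (nat_lit 1) [(nat_lit 3)] ⟨[], (nat_lit 4), []⟩,
  Ent.split [⟨[], (nat_lit 5), []⟩, ⟨[], (nat_lit 6), []⟩],
  Ent.merge [(nat_lit 17)] (nat_lit 1) [(nat_lit 1), (nat_lit 3), (nat_lit 9)] ⟨[], (nat_lit 7), []⟩,
  Ent.merge [(nat_lit 7), (nat_lit 9), (nat_lit 17), (nat_lit 19), (nat_lit 35), (nat_lit 37), (nat_lit 43)] (nat_lit 1) [] ⟨[], (nat_lit 8), []⟩,
  Ent.split [⟨[], (nat_lit 9), []⟩, ⟨[], (nat_lit 10), []⟩],
  Ent.merge [(nat_lit 13)] (nat_lit 1) [(nat_lit 3), (nat_lit 7), (nat_lit 9)] ⟨[], (nat_lit 11), []⟩,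
  Ent.merge [(nat_lit 13)] (nat_lit 1) [(nat_lit 7), (nat_lit 9)] ⟨[], (nat_lit 12), []⟩,
  Ent.merge [(nat_lit 13)] (nat_lit 1) [(nat_lit 3), (nat_lit 7), (nat_lit 9)] ⟨[], (nat_lit 13), []⟩,
  Ent.merge [(nat_lit 17)] (nat_lit 1) [(nat_lit 1), (nat_lit 3), (nat_lit 5), (nat_lit 7)] ⟨[], (nat_lit 14), []⟩,
  Ent.merge [(nat_lit 13)] (nat_lit 1) [(nat_lit 7), (nat_lit 9)] ⟨[], (nat_lit 15), []⟩,
  Ent.merge [(nat_lit 7)] (nat_lit 1) [(nat_lit 1), (nat_lit 3), (nat_lit 5), (nat_lit 9)] ⟨[], (nat_lit 16), []⟩,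
  Ent.split [⟨[], (nat_lit 17), []⟩, ⟨[], (nat_lit 18), []⟩],
  Ent.merge [(nat_lit 5)] (nat_lit 1) [(nat_lit 3), (nat_lit 9)] ⟨[], (nat_lit 19), []⟩,
  Ent.merge [(nat_lit 7)] (nat_lit 1) [(nat_lit 1), (nat_lit 5)] ⟨[], (nat_lit 20), []⟩,
  Ent.split [⟨[], (nat_lit 21), []⟩, ⟨[], (nat_lit 22), []⟩],
  Ent.merge [(nat_lit 17)] (nat_lit 1) [(nat_lit 1), (nat_lit 5), (nat_lit 7)] ⟨[], (nat_lit 23), []⟩,
  Ent.split [⟨[], (nat_lit 24), []⟩, ⟨[], (nat_lit 25), []⟩],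
  Ent.merge [(nat_lit 7), (nat_lit 9), (nat_lit 17), (nat_lit 19), (nat_lit 35), (nat_lit 37), (nat_lit 43)] (nat_lit 1) [(nat_lit 1), (nat_lit 3)] ⟨[], (nat_lit 26), []⟩,
  Ent.merge [(nat_lit 13)] (nat_lit 1) [(nat_lit 1), (nat_lit 5), (nat_lit 7), (nat_lit 9)] ⟨[], (nat_lit 27), []⟩,
  Ent.merge [(nat_lit 13)] (nat_lit 1) [(nat_lit 1), (nat_lit 3), (nat_lit 5), (nat_lit 7), (nat_lit 9)] ⟨[], (nat_lit 28), []⟩,
  Ent.merge [(nat_lit 13)] (nat_lit 1) [(nat_lit 1), (nat_lit 5), (nat_lit 7), (nat_lit 9)] ⟨[], (nat_lit 29), []⟩,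
  Ent.merge [(nat_lit 17)] (nat_lit 1) [(nat_lit 1), (nat_lit 9)] ⟨[], (nat_lit 30), []⟩,
  Ent.merge [(nat_lit 13)] (nat_lit 1) [(nat_lit 1), (nat_lit 3), (nat_lit 5), (nat_lit 7), (nat_lit 9)] ⟨[], (nat_lit 31), []⟩,
  Ent.dead (nat_lit 1) [(nat_lit 1), (nat_lit 7)],
  Ent.merge [(nat_lit 25)] (nat_lit 1) [(nat_lit 1), (nat_lit 3), (nat_lit 9)] ⟨[], (nat_lit 32), []⟩,
  Ent.merge [(nat_lit 25)] (nat_lit 1) [(nat_lit 1), (nat_lit 3), (nat_lit 9)] ⟨[], (nat_lit 33), []⟩,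
  Ent.merge [(nat_lit 25)] (nat_lit 1) [(nat_lit 1), (nat_lit 3), (nat_lit 9)] ⟨[], (nat_lit 34), []⟩,
  Ent.dead (nat_lit 1) [(nat_lit 1), (nat_lit 5), (nat_lit 9)],
  Ent.merge [(nat_lit 25)] (nat_lit 1) [(nat_lit 1), (nat_lit 3), (nat_lit 9)] ⟨[], (nat_lit 35), []⟩,
  Ent.merge [(nat_lit 25)] (nat_lit 1) [(nat_lit 1), (nat_lit 3), (nat_lit 9)] ⟨[], (nat_lit 36), []⟩]
noncomputable def a_X18 : List (List Nat) := [[],
  [(nat_lit 35)],
  [(nat_lit 33)],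
  [(nat_lit 33), (nat_lit 35)],
  [(nat_lit 31)],
  [(nat_lit 31), (nat_lit 35)],
  [(nat_lit 29)],
  [(nat_lit 29), (nat_lit 31)],
  [(nat_lit 27)],
  [(nat_lit 27), (nat_lit 33)],
  [(nat_lit 25)],
  [(nat_lit 23)],
  [(nat_lit 23), (nat_lit 31)],
  [(nat_lit 23), (nat_lit 31), (nat_lit 33)],
  [(nat_lit 21)],
  [(nat_lit 21), (nat_lit 35)],
  [(nat_lit 21), (nat_lit 29)],
  [(nat_lit 21), (nat_lit 27)],
  [(nat_lit 21), (nat_lit 25)],
  [(nat_lit 21), (nat_lit 23)],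
  [(nat_lit 19)],
  [(nat_lit 19), (nat_lit 31)],
  [(nat_lit 19), (nat_lit 31), (nat_lit 33)],
  [(nat_lit 19), (nat_lit 29)],
  [(nat_lit 19), (nat_lit 29), (nat_lit 31)],
  [(nat_lit 19), (nat_lit 27)],
  [(nat_lit 19), (nat_lit 27), (nat_lit 33)],
  [(nat_lit 19), (nat_lit 25)],
  [(nat_lit 19), (nat_lit 21)],
  [(nat_lit 19), (nat_lit 21), (nat_lit 29)],
  [(nat_lit 19), (nat_lit 21), (nat_lit 27)],
  [(nat_lit 19), (nat_lit 21), (nat_lit 25)],
  [(nat_lit 17), (nat_lit 25)],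
  [(nat_lit 17), (nat_lit 25), (nat_lit 27)],
  [(nat_lit 17), (nat_lit 25), (nat_lit 27), (nat_lit 35)],
  [(nat_lit 17), (nat_lit 25), (nat_lit 27), (nat_lit 31)],
  [(nat_lit 17), (nat_lit 21), (nat_lit 25)],
  [(nat_lit 17), (nat_lit 21), (nat_lit 25), (nat_lit 27)]]
noncomputable def a_E17 : List Ent := [Ent.split [⟨[], (nat_lit 0), []⟩, ⟨[], (nat_lit 1), []⟩],
  Ent.split [⟨[], (nat_lit 2), []⟩, ⟨[], (nat_lit 3), []⟩],
  Ent.split [⟨[], (nat_lit 4), []⟩, ⟨[], (nat_lit 5), []⟩],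
  Ent.merge [(nat_lit 1), (nat_lit 7), (nat_lit 13), (nat_lit 17), (nat_lit 21), (nat_lit 23), (nat_lit 27), (nat_lit 29), (nat_lit 33)] (nat_lit 1) [(nat_lit 1), (nat_lit 3)] ⟨[], (nat_lit 6), []⟩,
  Ent.merge [(nat_lit 1)] (nat_lit 1) [(nat_lit 1), (nat_lit 7)] ⟨[], (nat_lit 7), []⟩,
  Ent.merge [(nat_lit 11)] (nat_lit 1) [(nat_lit 1)] ⟨[], (nat_lit 8), []⟩,
  Ent.merge [(nat_lit 11)] (nat_lit 1) [(nat_lit 1), (nat_lit 7)] ⟨[], (nat_lit 9), []⟩,
  Ent.merge [(nat_lit 15), (nat_lit 17), (nat_lit 33), (nat_lit 35), (nat_lit 41)] (nat_lit 1) [(nat_lit 3), (nat_lit 5), (nat_lit 7)] ⟨[], (nat_lit 10), []⟩,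
  Ent.merge [(nat_lit 19)] (nat_lit 1) [(nat_lit 1), (nat_lit 7)] ⟨[], (nat_lit 11), []⟩,
  Ent.merge [(nat_lit 19)] (nat_lit 1) [(nat_lit 1), (nat_lit 7)] ⟨[], (nat_lit 12), []⟩,
  Ent.merge [(nat_lit 19)] (nat_lit 1) [(nat_lit 1), (nat_lit 7)] ⟨[], (nat_lit 13), []⟩,
  Ent.split [⟨[], (nat_lit 14), []⟩, ⟨[], (nat_lit 15), []⟩],
  Ent.merge [(nat_lit 1), (nat_lit 13), (nat_lit 29), (nat_lit 31), (nat_lit 37), (nat_lit 41), (nat_lit 43)] (nat_lit 1) [(nat_lit 1)] ⟨[], (nat_lit 16), []⟩,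
  Ent.merge [(nat_lit 11), (nat_lit 13), (nat_lit 29), (nat_lit 31), (nat_lit 37), (nat_lit 41), (nat_lit 43)] (nat_lit 1) [(nat_lit 1)] ⟨[], (nat_lit 17), []⟩,
  Ent.merge [(nat_lit 15), (nat_lit 17), (nat_lit 33), (nat_lit 35), (nat_lit 41)] (nat_lit 1) [(nat_lit 7)] ⟨[], (nat_lit 18), []⟩,
  Ent.merge [(nat_lit 19)] (nat_lit 1) [(nat_lit 1), (nat_lit 7)] ⟨[], (nat_lit 19), []⟩,
  Ent.merge [(nat_lit 23)] (nat_lit 1) [(nat_lit 1), (nat_lit 7)] ⟨[], (nat_lit 20), []⟩,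
  Ent.merge [(nat_lit 23)] (nat_lit 1) [(nat_lit 1), (nat_lit 7)] ⟨[], (nat_lit 21), []⟩,
  Ent.merge [(nat_lit 23)] (nat_lit 1) [(nat_lit 1), (nat_lit 7)] ⟨[], (nat_lit 22), []⟩,
  Ent.merge [(nat_lit 23)] (nat_lit 1) [(nat_lit 1), (nat_lit 7)] ⟨[], (nat_lit 23), []⟩,
  Ent.merge [(nat_lit 23)] (nat_lit 1) [(nat_lit 1), (nat_lit 7)] ⟨[], (nat_lit 24), []⟩,
  Ent.merge [(nat_lit 23)] (nat_lit 1) [(nat_lit 1), (nat_lit 7)] ⟨[], (nat_lit 25), []⟩,
  Ent.merge [(nat_lit 23)] (nat_lit 1) [(nat_lit 1), (nat_lit 7)] ⟨[], (nat_lit 26), []⟩,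
  Ent.merge [(nat_lit 23)] (nat_lit 1) [(nat_lit 1), (nat_lit 7)] ⟨[], (nat_lit 27), []⟩,
  Ent.dead (nat_lit 1) [(nat_lit 1), (nat_lit 7)],
  Ent.dead (nat_lit 1) [(nat_lit 1), (nat_lit 7)],
  Ent.dead (nat_lit 1) [(nat_lit 1), (nat_lit 7)],
  Ent.merge [(nat_lit 23)] (nat_lit 1) [(nat_lit 1), (nat_lit 7)] ⟨[], (nat_lit 28), []⟩,
  Ent.merge [(nat_lit 23)] (nat_lit 1) [(nat_lit 1), (nat_lit 7)] ⟨[], (nat_lit 29), []⟩,
  Ent.merge [(nat_lit 23)] (nat_lit 1) [(nat_lit 1), (nat_lit 7)] ⟨[], (nat_lit 30), []⟩,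
  Ent.merge [(nat_lit 23)] (nat_lit 1) [(nat_lit 1), (nat_lit 7)] ⟨[], (nat_lit 31), []⟩,
  Ent.dead (nat_lit 1) [(nat_lit 1), (nat_lit 7)],
  Ent.merge [(nat_lit 11), (nat_lit 25)] (nat_lit 1) [(nat_lit 5)] ⟨[], (nat_lit 32), []⟩,
  Ent.split [⟨[], (nat_lit 33), []⟩, ⟨[], (nat_lit 34), []⟩],
  Ent.merge [(nat_lit 7), (nat_lit 23), (nat_lit 25)] (nat_lit 1) [(nat_lit 3)] ⟨[], (nat_lit 35), []⟩,
  Ent.merge [(nat_lit 13), (nat_lit 23)] (nat_lit 1) [(nat_lit 1), (nat_lit 3)] ⟨[], (nat_lit 36), []⟩,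
  Ent.merge [(nat_lit 13), (nat_lit 23)] (nat_lit 1) [(nat_lit 1), (nat_lit 3)] ⟨[], (nat_lit 37), []⟩]
noncomputable def a_X19 : List (List Nat) := [[],
  [(nat_lit 37)],
  [(nat_lit 35)],
  [(nat_lit 33)],
  [(nat_lit 33), (nat_lit 35)],
  [(nat_lit 31)],
  [(nat_lit 31), (nat_lit 35)],
  [(nat_lit 29)],
  [(nat_lit 29), (nat_lit 31)],
  [(nat_lit 27)],
  [(nat_lit 27), (nat_lit 33)],
  [(nat_lit 25)],
  [(nat_lit 23)],
  [(nat_lit 23), (nat_lit 31)],
  [(nat_lit 23), (nat_lit 31), (nat_lit 33)],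
  [(nat_lit 23), (nat_lit 31), (nat_lit 33), (nat_lit 37)],
  [(nat_lit 21)],
  [(nat_lit 21), (nat_lit 35)],
  [(nat_lit 21), (nat_lit 35), (nat_lit 37)],
  [(nat_lit 21), (nat_lit 29)],
  [(nat_lit 21), (nat_lit 27)],
  [(nat_lit 21), (nat_lit 25)],
  [(nat_lit 21), (nat_lit 23)],
  [(nat_lit 21), (nat_lit 23), (nat_lit 37)],
  [(nat_lit 19)],
  [(nat_lit 19), (nat_lit 31)],
  [(nat_lit 19), (nat_lit 31), (nat_lit 33)],
  [(nat_lit 19), (nat_lit 29)],
  [(nat_lit 19), (nat_lit 29), (nat_lit 31)],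
  [(nat_lit 19), (nat_lit 27)],
  [(nat_lit 19), (nat_lit 27), (nat_lit 33)],
  [(nat_lit 19), (nat_lit 21)],
  [(nat_lit 19), (nat_lit 21), (nat_lit 29)],
  [(nat_lit 19), (nat_lit 21), (nat_lit 27)],
  [(nat_lit 17), (nat_lit 25), (nat_lit 27)],
  [(nat_lit 17), (nat_lit 25), (nat_lit 27), (nat_lit 35)],
  [(nat_lit 17), (nat_lit 25), (nat_lit 27), (nat_lit 31)],
  [(nat_lit 17), (nat_lit 21), (nat_lit 25), (nat_lit 27)]]
noncomputable def a_E18 : List Ent := [Ent.split [⟨[], (nat_lit 0), []⟩, ⟨[], (nat_lit 1), []⟩],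
  Ent.merge [(nat_lit 5)] (nat_lit 1) [(nat_lit 1), (nat_lit 5)] ⟨[], (nat_lit 2), []⟩,
  Ent.merge [(nat_lit 7)] (nat_lit 1) [] ⟨[], (nat_lit 3), []⟩,
  Ent.merge [(nat_lit 7)] (nat_lit 1) [(nat_lit 3)] ⟨[], (nat_lit 4), []⟩,
  Ent.merge [(nat_lit 13)] (nat_lit 1) [] ⟨[], (nat_lit 5), []⟩,
  Ent.merge [(nat_lit 13)] (nat_lit 1) [] ⟨[], (nat_lit 6), []⟩,
  Ent.merge [(nat_lit 13)] (nat_lit 1) [] ⟨[], (nat_lit 7), []⟩,
  Ent.merge [(nat_lit 9)] (nat_lit 1) [] ⟨[], (nat_lit 8), []⟩,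
  Ent.merge [(nat_lit 17)] (nat_lit 1) [(nat_lit 3)] ⟨[], (nat_lit 9), []⟩,
  Ent.merge [(nat_lit 17)] (nat_lit 1) [(nat_lit 3), (nat_lit 5)] ⟨[], (nat_lit 10), []⟩,
  Ent.merge [(nat_lit 19)] (nat_lit 1) [(nat_lit 1), (nat_lit 3), (nat_lit 5)] ⟨[], (nat_lit 11), []⟩,
  Ent.merge [(nat_lit 13)] (nat_lit 1) [] ⟨[], (nat_lit 12), []⟩,
  Ent.merge [(nat_lit 7), (nat_lit 9), (nat_lit 17), (nat_lit 19), (nat_lit 35), (nat_lit 37), (nat_lit 43)] (nat_lit 1) [] ⟨[], (nat_lit 13), []⟩,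
  Ent.split [⟨[], (nat_lit 14), []⟩, ⟨[], (nat_lit 15), []⟩],
  Ent.merge [(nat_lit 5), (nat_lit 7), (nat_lit 17), (nat_lit 21), (nat_lit 23), (nat_lit 27), (nat_lit 29), (nat_lit 39), (nat_lit 41), (nat_lit 43)] (nat_lit 1) [(nat_lit 1), (nat_lit 3), (nat_lit 5)] ⟨[], (nat_lit 16), []⟩,
  Ent.split [⟨[], (nat_lit 17), []⟩, ⟨[], (nat_lit 18), []⟩],
  Ent.merge [(nat_lit 9), (nat_lit 13), (nat_lit 29), (nat_lit 31), (nat_lit 37), (nat_lit 41), (nat_lit 43)] (nat_lit 1) [(nat_lit 1), (nat_lit 3), (nat_lit 5)] ⟨[], (nat_lit 19), []⟩,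
  Ent.merge [(nat_lit 17)] (nat_lit 1) [(nat_lit 1), (nat_lit 5)] ⟨[], (nat_lit 20), []⟩,
  Ent.merge [(nat_lit 19)] (nat_lit 1) [(nat_lit 1), (nat_lit 3), (nat_lit 5)] ⟨[], (nat_lit 21), []⟩,
  Ent.split [⟨[], (nat_lit 22), []⟩, ⟨[], (nat_lit 23), []⟩],
  Ent.merge [(nat_lit 25)] (nat_lit 1) [(nat_lit 1), (nat_lit 3), (nat_lit 5)] ⟨[], (nat_lit 24), []⟩,
  Ent.merge [(nat_lit 25)] (nat_lit 1) [(nat_lit 1), (nat_lit 3), (nat_lit 5)] ⟨[], (nat_lit 25), []⟩,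
  Ent.merge [(nat_lit 25)] (nat_lit 1) [(nat_lit 1), (nat_lit 3), (nat_lit 5)] ⟨[], (nat_lit 26), []⟩,
  Ent.merge [(nat_lit 25)] (nat_lit 1) [(nat_lit 1), (nat_lit 3), (nat_lit 5)] ⟨[], (nat_lit 27), []⟩,
  Ent.merge [(nat_lit 25)] (nat_lit 1) [(nat_lit 1), (nat_lit 3), (nat_lit 5)] ⟨[], (nat_lit 28), []⟩,
  Ent.merge [(nat_lit 25)] (nat_lit 1) [(nat_lit 1), (nat_lit 3), (nat_lit 5)] ⟨[], (nat_lit 29), []⟩,
  Ent.merge [(nat_lit 25)] (nat_lit 1) [(nat_lit 1), (nat_lit 3), (nat_lit 5)] ⟨[], (nat_lit 30), []⟩,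
  Ent.dead (nat_lit 1) [(nat_lit 1), (nat_lit 3), (nat_lit 5)],
  Ent.merge [(nat_lit 25)] (nat_lit 1) [(nat_lit 1), (nat_lit 3), (nat_lit 5)] ⟨[], (nat_lit 31), []⟩,
  Ent.merge [(nat_lit 25)] (nat_lit 1) [(nat_lit 1), (nat_lit 3), (nat_lit 5)] ⟨[], (nat_lit 32), []⟩,
  Ent.merge [(nat_lit 25)] (nat_lit 1) [(nat_lit 1), (nat_lit 3), (nat_lit 5)] ⟨[], (nat_lit 33), []⟩,
  Ent.dead (nat_lit 1) [(nat_lit 1), (nat_lit 3), (nat_lit 5)],
  Ent.dead (nat_lit 1) [(nat_lit 3), (nat_lit 5)],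
  Ent.merge [(nat_lit 27)] (nat_lit 1) [(nat_lit 3)] ⟨[], (nat_lit 34), []⟩,
  Ent.merge [(nat_lit 27)] (nat_lit 1) [(nat_lit 3)] ⟨[], (nat_lit 35), []⟩,
  Ent.merge [(nat_lit 27)] (nat_lit 1) [(nat_lit 3)] ⟨[], (nat_lit 36), []⟩,
  Ent.dead (nat_lit 1) [(nat_lit 1)],
  Ent.merge [(nat_lit 27)] (nat_lit 1) [(nat_lit 3)] ⟨[], (nat_lit 37), []⟩]
noncomputable def a_X20 : List (List Nat) := [[],
  [(nat_lit 39)],
  [(nat_lit 37)],
  [(nat_lit 37), (nat_lit 39)],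
  [(nat_lit 35)],
  [(nat_lit 35), (nat_lit 39)],
  [(nat_lit 33)],
  [(nat_lit 33), (nat_lit 35)],
  [(nat_lit 31)],
  [(nat_lit 31), (nat_lit 35)],
  [(nat_lit 29)],
  [(nat_lit 29), (nat_lit 31)],
  [(nat_lit 29), (nat_lit 31), (nat_lit 39)],
  [(nat_lit 27)],
  [(nat_lit 27), (nat_lit 39)],
  [(nat_lit 27), (nat_lit 33)],
  [(nat_lit 25)],
  [(nat_lit 25), (nat_lit 39)],
  [(nat_lit 23)],
  [(nat_lit 23), (nat_lit 31)],
  [(nat_lit 23), (nat_lit 31), (nat_lit 33)],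
  [(nat_lit 23), (nat_lit 31), (nat_lit 33), (nat_lit 39)],
  [(nat_lit 23), (nat_lit 31), (nat_lit 33), (nat_lit 37)],
  [(nat_lit 23), (nat_lit 31), (nat_lit 33), (nat_lit 37), (nat_lit 39)],
  [(nat_lit 21)],
  [(nat_lit 21), (nat_lit 35)],
  [(nat_lit 21), (nat_lit 35), (nat_lit 37)],
  [(nat_lit 21), (nat_lit 29)],
  [(nat_lit 21), (nat_lit 27)],
  [(nat_lit 21), (nat_lit 25)],
  [(nat_lit 21), (nat_lit 23)],
  [(nat_lit 21), (nat_lit 23), (nat_lit 37)],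
  [(nat_lit 19)],
  [(nat_lit 19), (nat_lit 31)],
  [(nat_lit 19), (nat_lit 31), (nat_lit 39)],
  [(nat_lit 19), (nat_lit 31), (nat_lit 33)],
  [(nat_lit 19), (nat_lit 29)],
  [(nat_lit 19), (nat_lit 29), (nat_lit 31)],
  [(nat_lit 19), (nat_lit 27)],
  [(nat_lit 19), (nat_lit 27), (nat_lit 33)],
  [(nat_lit 19), (nat_lit 21)],
  [(nat_lit 19), (nat_lit 21), (nat_lit 29)],
  [(nat_lit 19), (nat_lit 21), (nat_lit 27)],
  [(nat_lit 17), (nat_lit 25), (nat_lit 27)],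
  [(nat_lit 17), (nat_lit 25), (nat_lit 27), (nat_lit 35)],
  [(nat_lit 17), (nat_lit 25), (nat_lit 27), (nat_lit 31)]]
noncomputable def a_E19 : List Ent := [Ent.split [⟨[], (nat_lit 0), []⟩, ⟨[], (nat_lit 1), []⟩],
  Ent.split [⟨[], (nat_lit 2), []⟩, ⟨[], (nat_lit 3), []⟩],
  Ent.split [⟨[], (nat_lit 4), []⟩, ⟨[], (nat_lit 5), []⟩],
  Ent.merge [(nat_lit 1)] (nat_lit 1) [] ⟨[], (nat_lit 6), []⟩,
  Ent.merge [(nat_lit 5)] (nat_lit 1) [(nat_lit 3)] ⟨[], (nat_lit 7), []⟩,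
  Ent.merge [(nat_lit 11), (nat_lit 13), (nat_lit 29), (nat_lit 31), (nat_lit 37), (nat_lit 41), (nat_lit 43)] (nat_lit 1) [] ⟨[], (nat_lit 8), []⟩,
  Ent.merge [(nat_lit 11), (nat_lit 13), (nat_lit 29), (nat_lit 31), (nat_lit 37), (nat_lit 41), (nat_lit 43)] (nat_lit 1) [(nat_lit 3)] ⟨[], (nat_lit 9), []⟩,
  Ent.merge [(nat_lit 11), (nat_lit 13), (nat_lit 29), (nat_lit 31), (nat_lit 37), (nat_lit 41), (nat_lit 43)] (nat_lit 1) [(nat_lit 3)] ⟨[], (nat_lit 10), []⟩,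
  Ent.split [⟨[], (nat_lit 11), []⟩, ⟨[], (nat_lit 12), []⟩],
  Ent.split [⟨[], (nat_lit 13), []⟩, ⟨[], (nat_lit 14), []⟩],
  Ent.merge [(nat_lit 1), (nat_lit 7), (nat_lit 11), (nat_lit 13), (nat_lit 21), (nat_lit 23), (nat_lit 27), (nat_lit 29), (nat_lit 33), (nat_lit 35), (nat_lit 37), (nat_lit 39), (nat_lit 41), (nat_lit 43)] (nat_lit 1) [(nat_lit 3)] ⟨[], (nat_lit 15), []⟩,
  Ent.split [⟨[], (nat_lit 16), []⟩, ⟨[], (nat_lit 17), []⟩],
  Ent.merge [(nat_lit 11), (nat_lit 13), (nat_lit 19), (nat_lit 29), (nat_lit 31), (nat_lit 35), (nat_lit 39), (nat_lit 41)] (nat_lit 1) [(nat_lit 3)] ⟨[], (nat_lit 18), []⟩,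
  Ent.merge [(nat_lit 1), (nat_lit 17), (nat_lit 33), (nat_lit 35), (nat_lit 41)] (nat_lit 1) [(nat_lit 3)] ⟨[], (nat_lit 19), []⟩,
  Ent.split [⟨[], (nat_lit 20), []⟩, ⟨[], (nat_lit 21), []⟩],
  Ent.split [⟨[], (nat_lit 22), []⟩, ⟨[], (nat_lit 23), []⟩],
  Ent.merge [(nat_lit 17)] (nat_lit 1) [(nat_lit 1), (nat_lit 3)] ⟨[], (nat_lit 24), []⟩,
  Ent.merge [(nat_lit 17)] (nat_lit 1) [(nat_lit 1)] ⟨[], (nat_lit 25), []⟩,
  Ent.merge [(nat_lit 17)] (nat_lit 1) [(nat_lit 1)] ⟨[], (nat_lit 26), []⟩,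
  Ent.merge [(nat_lit 17)] (nat_lit 1) [] ⟨[], (nat_lit 27), []⟩,
  Ent.merge [(nat_lit 15), (nat_lit 17), (nat_lit 33), (nat_lit 35), (nat_lit 41)] (nat_lit 1) [(nat_lit 1)] ⟨[], (nat_lit 28), []⟩,
  Ent.merge [(nat_lit 3), (nat_lit 9), (nat_lit 13), (nat_lit 15), (nat_lit 19), (nat_lit 27), (nat_lit 31), (nat_lit 33), (nat_lit 35), (nat_lit 37), (nat_lit 39), (nat_lit 41), (nat_lit 43)] (nat_lit 1) [(nat_lit 3)] ⟨[], (nat_lit 29), []⟩,
  Ent.merge [(nat_lit 15), (nat_lit 17), (nat_lit 33), (nat_lit 35), (nat_lit 41)] (nat_lit 1) [(nat_lit 3)] ⟨[], (nat_lit 30), []⟩,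
  Ent.merge [(nat_lit 15), (nat_lit 17), (nat_lit 33), (nat_lit 35), (nat_lit 41)] (nat_lit 1) [(nat_lit 3)] ⟨[], (nat_lit 31), []⟩,
  Ent.merge [(nat_lit 13), (nat_lit 23)] (nat_lit 1) [(nat_lit 3)] ⟨[], (nat_lit 32), []⟩,
  Ent.split [⟨[], (nat_lit 33), []⟩, ⟨[], (nat_lit 34), []⟩],
  Ent.merge [(nat_lit 7), (nat_lit 23), (nat_lit 25)] (nat_lit 1) [(nat_lit 1), (nat_lit 3)] ⟨[], (nat_lit 35), []⟩,
  Ent.merge [(nat_lit 9)] (nat_lit 1) [(nat_lit 3)] ⟨[], (nat_lit 36), []⟩,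
  Ent.merge [(nat_lit 13), (nat_lit 23)] (nat_lit 1) [(nat_lit 3)] ⟨[], (nat_lit 37), []⟩,
  Ent.merge [(nat_lit 17)] (nat_lit 1) [(nat_lit 3)] ⟨[], (nat_lit 38), []⟩,
  Ent.merge [(nat_lit 17)] (nat_lit 1) [] ⟨[], (nat_lit 39), []⟩,
  Ent.merge [(nat_lit 17), (nat_lit 25)] (nat_lit 1) [(nat_lit 1), (nat_lit 3)] ⟨[], (nat_lit 40), []⟩,
  Ent.merge [(nat_lit 17), (nat_lit 25)] (nat_lit 1) [] ⟨[], (nat_lit 41), []⟩,
  Ent.merge [(nat_lit 15), (nat_lit 23)] (nat_lit 1) [(nat_lit 1)] ⟨[], (nat_lit 42), []⟩,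
  Ent.merge [(nat_lit 21)] (nat_lit 1) [(nat_lit 1), (nat_lit 3)] ⟨[], (nat_lit 43), []⟩,
  Ent.merge [(nat_lit 21)] (nat_lit 1) [(nat_lit 1), (nat_lit 3)] ⟨[], (nat_lit 44), []⟩,
  Ent.merge [(nat_lit 21)] (nat_lit 1) [(nat_lit 1), (nat_lit 3)] ⟨[], (nat_lit 45), []⟩,
  Ent.dead (nat_lit 1) [(nat_lit 1)]]
noncomputable def a_X21 : List (List Nat) := [[],
  [(nat_lit 41)],
  [(nat_lit 39)],
  [(nat_lit 37)],
  [(nat_lit 37), (nat_lit 39)],
  [(nat_lit 35)],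
  [(nat_lit 35), (nat_lit 39)],
  [(nat_lit 33)],
  [(nat_lit 33), (nat_lit 41)],
  [(nat_lit 33), (nat_lit 35)],
  [(nat_lit 31)],
  [(nat_lit 31), (nat_lit 35)],
  [(nat_lit 29)],
  [(nat_lit 29), (nat_lit 31)],
  [(nat_lit 29), (nat_lit 31), (nat_lit 41)],
  [(nat_lit 29), (nat_lit 31), (nat_lit 39)],
  [(nat_lit 27)],
  [(nat_lit 27), (nat_lit 39)],
  [(nat_lit 27), (nat_lit 33)],
  [(nat_lit 25)],
  [(nat_lit 25), (nat_lit 41)],
  [(nat_lit 25), (nat_lit 39)],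
  [(nat_lit 23)],
  [(nat_lit 23), (nat_lit 31)],
  [(nat_lit 23), (nat_lit 31), (nat_lit 41)],
  [(nat_lit 23), (nat_lit 31), (nat_lit 33)],
  [(nat_lit 23), (nat_lit 31), (nat_lit 33), (nat_lit 41)],
  [(nat_lit 23), (nat_lit 31), (nat_lit 33), (nat_lit 39)],
  [(nat_lit 23), (nat_lit 31), (nat_lit 33), (nat_lit 37)],
  [(nat_lit 23), (nat_lit 31), (nat_lit 33), (nat_lit 37), (nat_lit 39)],
  [(nat_lit 21)],
  [(nat_lit 21), (nat_lit 35)],
  [(nat_lit 21), (nat_lit 35), (nat_lit 37)],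
  [(nat_lit 21), (nat_lit 35), (nat_lit 37), (nat_lit 41)],
  [(nat_lit 21), (nat_lit 29)],
  [(nat_lit 21), (nat_lit 27)],
  [(nat_lit 21), (nat_lit 25)],
  [(nat_lit 21), (nat_lit 23)],
  [(nat_lit 21), (nat_lit 23), (nat_lit 41)],
  [(nat_lit 21), (nat_lit 23), (nat_lit 37)],
  [(nat_lit 19)],
  [(nat_lit 19), (nat_lit 31)],
  [(nat_lit 19), (nat_lit 31), (nat_lit 39)],
  [(nat_lit 19), (nat_lit 31), (nat_lit 33)],
  [(nat_lit 19), (nat_lit 29)],
  [(nat_lit 19), (nat_lit 29), (nat_lit 31)],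
  [(nat_lit 19), (nat_lit 21)],
  [(nat_lit 19), (nat_lit 21), (nat_lit 29)],
  [(nat_lit 17), (nat_lit 25), (nat_lit 27)],
  [(nat_lit 17), (nat_lit 25), (nat_lit 27), (nat_lit 35)]]
noncomputable def a_E20 : List Ent := [Ent.split [⟨[], (nat_lit 0), []⟩, ⟨[], (nat_lit 1), []⟩],
  Ent.merge [(nat_lit 7)] (nat_lit 1) [] ⟨[], (nat_lit 2), []⟩,
  Ent.merge [(nat_lit 1)] (nat_lit 1) [] ⟨[], (nat_lit 3), []⟩,
  Ent.merge [(nat_lit 7)] (nat_lit 1) [(nat_lit 1)] ⟨[], (nat_lit 4), []⟩,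
  Ent.merge [(nat_lit 9)] (nat_lit 1) [] ⟨[], (nat_lit 5), []⟩,
  Ent.merge [(nat_lit 9)] (nat_lit 1) [(nat_lit 1)] ⟨[], (nat_lit 6), []⟩,
  Ent.split [⟨[], (nat_lit 7), []⟩, ⟨[], (nat_lit 8), []⟩],
  Ent.merge [(nat_lit 9)] (nat_lit 1) [(nat_lit 1)] ⟨[], (nat_lit 9), []⟩,
  Ent.merge [(nat_lit 17)] (nat_lit 1) [] ⟨[], (nat_lit 10), []⟩,
  Ent.merge [(nat_lit 17)] (nat_lit 1) [(nat_lit 1)] ⟨[], (nat_lit 11), []⟩,
  Ent.merge [(nat_lit 17)] (nat_lit 1) [(nat_lit 1)] ⟨[], (nat_lit 12), []⟩,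
  Ent.split [⟨[], (nat_lit 13), []⟩, ⟨[], (nat_lit 14), []⟩],
  Ent.merge [(nat_lit 7), (nat_lit 9), (nat_lit 19), (nat_lit 33), (nat_lit 39), (nat_lit 43)] (nat_lit 1) [] ⟨[], (nat_lit 15), []⟩,
  Ent.merge [(nat_lit 19)] (nat_lit 1) [] ⟨[], (nat_lit 16), []⟩,
  Ent.merge [(nat_lit 19)] (nat_lit 1) [] ⟨[], (nat_lit 17), []⟩,
  Ent.merge [(nat_lit 19)] (nat_lit 1) [] ⟨[], (nat_lit 18), []⟩,
  Ent.split [⟨[], (nat_lit 19), []⟩, ⟨[], (nat_lit 20), []⟩],
  Ent.merge [(nat_lit 1), (nat_lit 7), (nat_lit 9), (nat_lit 13), (nat_lit 21), (nat_lit 23), (nat_lit 27), (nat_lit 29), (nat_lit 35), (nat_lit 37), (nat_lit 39), (nat_lit 41)] (nat_lit 1) [] ⟨[], (nat_lit 21), []⟩,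
  Ent.merge [(nat_lit 15), (nat_lit 17), (nat_lit 33), (nat_lit 35), (nat_lit 41)] (nat_lit 1) [(nat_lit 1)] ⟨[], (nat_lit 22), []⟩,
  Ent.split [⟨[], (nat_lit 23), []⟩, ⟨[], (nat_lit 24), []⟩],
  Ent.split [⟨[], (nat_lit 25), []⟩, ⟨[], (nat_lit 26), []⟩],
  Ent.merge [(nat_lit 7), (nat_lit 9), (nat_lit 17), (nat_lit 19), (nat_lit 35), (nat_lit 37), (nat_lit 43)] (nat_lit 1) [(nat_lit 1)] ⟨[], (nat_lit 27), []⟩,
  Ent.merge [(nat_lit 1), (nat_lit 17), (nat_lit 33), (nat_lit 35), (nat_lit 41)] (nat_lit 1) [] ⟨[], (nat_lit 28), []⟩,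
  Ent.merge [(nat_lit 7), (nat_lit 9), (nat_lit 17), (nat_lit 19), (nat_lit 35), (nat_lit 37), (nat_lit 43)] (nat_lit 1) [(nat_lit 1)] ⟨[], (nat_lit 29), []⟩,
  Ent.merge [(nat_lit 9), (nat_lit 13), (nat_lit 29), (nat_lit 31), (nat_lit 37), (nat_lit 41), (nat_lit 43)] (nat_lit 1) [(nat_lit 1)] ⟨[], (nat_lit 30), []⟩,
  Ent.merge [(nat_lit 1)] (nat_lit 1) [] ⟨[], (nat_lit 31), []⟩,
  Ent.split [⟨[], (nat_lit 32), []⟩, ⟨[], (nat_lit 33), []⟩],
  Ent.merge [(nat_lit 5), (nat_lit 7), (nat_lit 9), (nat_lit 17), (nat_lit 19), (nat_lit 21), (nat_lit 23), (nat_lit 29), (nat_lit 31), (nat_lit 37), (nat_lit 43)] (nat_lit 1) [] ⟨[], (nat_lit 34), []⟩,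
  Ent.merge [(nat_lit 19)] (nat_lit 1) [] ⟨[], (nat_lit 35), []⟩,
  Ent.merge [(nat_lit 11), (nat_lit 17), (nat_lit 19), (nat_lit 33), (nat_lit 35), (nat_lit 41)] (nat_lit 1) [] ⟨[], (nat_lit 36), []⟩,
  Ent.split [⟨[], (nat_lit 37), []⟩, ⟨[], (nat_lit 38), []⟩],
  Ent.merge [(nat_lit 1), (nat_lit 13), (nat_lit 17), (nat_lit 29), (nat_lit 31), (nat_lit 33), (nat_lit 35), (nat_lit 39)] (nat_lit 1) [(nat_lit 1)] ⟨[], (nat_lit 39), []⟩,
  Ent.merge [(nat_lit 27)] (nat_lit 1) [] ⟨[], (nat_lit 40), []⟩,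
  Ent.merge [(nat_lit 27)] (nat_lit 1) [] ⟨[], (nat_lit 41), []⟩,
  Ent.merge [(nat_lit 27)] (nat_lit 1) [] ⟨[], (nat_lit 42), []⟩,
  Ent.merge [(nat_lit 27)] (nat_lit 1) [] ⟨[], (nat_lit 43), []⟩,
  Ent.merge [(nat_lit 27)] (nat_lit 1) [] ⟨[], (nat_lit 44), []⟩,
  Ent.merge [(nat_lit 27)] (nat_lit 1) [] ⟨[], (nat_lit 45), []⟩,
  Ent.dead (nat_lit 1) [],
  Ent.dead (nat_lit 1) [],
  Ent.merge [(nat_lit 27)] (nat_lit 1) [] ⟨[], (nat_lit 46), []⟩,
  Ent.merge [(nat_lit 27)] (nat_lit 1) [] ⟨[], (nat_lit 47), []⟩,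
  Ent.dead (nat_lit 1) [],
  Ent.merge [(nat_lit 31)] (nat_lit 1) [] ⟨[], (nat_lit 48), []⟩,
  Ent.merge [(nat_lit 31)] (nat_lit 1) [] ⟨[], (nat_lit 49), []⟩,
  Ent.dead (nat_lit 1) [(nat_lit 1)]]
noncomputable def a_X22 : List (List Nat) := [[],
  [(nat_lit 43)],
  [(nat_lit 41)],
  [(nat_lit 39)],
  [(nat_lit 37)],
  [(nat_lit 37), (nat_lit 39)],
  [(nat_lit 35)],
  [(nat_lit 35), (nat_lit 39)],
  [(nat_lit 33)],
  [(nat_lit 33), (nat_lit 41)],
  [(nat_lit 33), (nat_lit 35)],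
  [(nat_lit 31)],
  [(nat_lit 31), (nat_lit 43)],
  [(nat_lit 31), (nat_lit 35)],
  [(nat_lit 29)],
  [(nat_lit 29), (nat_lit 31)],
  [(nat_lit 29), (nat_lit 31), (nat_lit 41)],
  [(nat_lit 29), (nat_lit 31), (nat_lit 39)],
  [(nat_lit 27)],
  [(nat_lit 27), (nat_lit 43)],
  [(nat_lit 27), (nat_lit 39)],
  [(nat_lit 27), (nat_lit 33)],
  [(nat_lit 25)],
  [(nat_lit 25), (nat_lit 43)],
  [(nat_lit 25), (nat_lit 41)],
  [(nat_lit 25), (nat_lit 39)],
  [(nat_lit 23)],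
  [(nat_lit 23), (nat_lit 43)],
  [(nat_lit 23), (nat_lit 31)],
  [(nat_lit 23), (nat_lit 31), (nat_lit 41)],
  [(nat_lit 23), (nat_lit 31), (nat_lit 33)],
  [(nat_lit 23), (nat_lit 31), (nat_lit 33), (nat_lit 43)],
  [(nat_lit 23), (nat_lit 31), (nat_lit 33), (nat_lit 41)],
  [(nat_lit 23), (nat_lit 31), (nat_lit 33), (nat_lit 39)],
  [(nat_lit 23), (nat_lit 31), (nat_lit 33), (nat_lit 37)],
  [(nat_lit 23), (nat_lit 31), (nat_lit 33), (nat_lit 37), (nat_lit 39)],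
  [(nat_lit 21)],
  [(nat_lit 21), (nat_lit 35)],
  [(nat_lit 21), (nat_lit 35), (nat_lit 37)],
  [(nat_lit 21), (nat_lit 35), (nat_lit 37), (nat_lit 43)],
  [(nat_lit 21), (nat_lit 35), (nat_lit 37), (nat_lit 41)],
  [(nat_lit 21), (nat_lit 29)],
  [(nat_lit 21), (nat_lit 27)],
  [(nat_lit 21), (nat_lit 25)],
  [(nat_lit 21), (nat_lit 23)],
  [(nat_lit 21), (nat_lit 23), (nat_lit 41)],
  [(nat_lit 21), (nat_lit 23), (nat_lit 41), (nat_lit 43)],
  [(nat_lit 21), (nat_lit 23), (nat_lit 37)],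
  [(nat_lit 19)],
  [(nat_lit 19), (nat_lit 31)],
  [(nat_lit 19), (nat_lit 31), (nat_lit 39)],
  [(nat_lit 19), (nat_lit 31), (nat_lit 33)],
  [(nat_lit 19), (nat_lit 21)],
  [(nat_lit 17), (nat_lit 25), (nat_lit 27), (nat_lit 35)]]
noncomputable def a_E21 : List Ent := [Ent.split [⟨[], (nat_lit 0), []⟩, ⟨[], (nat_lit 1), []⟩],
  Ent.merge [(nat_lit 7)] (nat_lit 1) [] ⟨[], (nat_lit 2), []⟩,
  Ent.merge [(nat_lit 13)] (nat_lit 1) [] ⟨[], (nat_lit 3), []⟩,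
  Ent.merge [(nat_lit 11)] (nat_lit 1) [] ⟨[], (nat_lit 4), []⟩,
  Ent.merge [(nat_lit 13)] (nat_lit 1) [] ⟨[], (nat_lit 5), []⟩,
  Ent.merge [(nat_lit 17)] (nat_lit 1) [] ⟨[], (nat_lit 6), []⟩,
  Ent.merge [(nat_lit 17)] (nat_lit 1) [] ⟨[], (nat_lit 7), []⟩,
  Ent.merge [(nat_lit 17)] (nat_lit 1) [] ⟨[], (nat_lit 8), []⟩,
  Ent.merge [(nat_lit 17)] (nat_lit 1) [] ⟨[], (nat_lit 9), []⟩,
  Ent.merge [(nat_lit 15)] (nat_lit 1) [] ⟨[], (nat_lit 10), []⟩,
  Ent.split [⟨[], (nat_lit 11), []⟩, ⟨[], (nat_lit 12), []⟩],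
  Ent.merge [(nat_lit 15)] (nat_lit 1) [] ⟨[], (nat_lit 13), []⟩,
  Ent.merge [(nat_lit 19)] (nat_lit 1) [] ⟨[], (nat_lit 14), []⟩,
  Ent.merge [(nat_lit 19)] (nat_lit 1) [] ⟨[], (nat_lit 15), []⟩,
  Ent.merge [(nat_lit 19)] (nat_lit 1) [] ⟨[], (nat_lit 16), []⟩,
  Ent.merge [(nat_lit 19)] (nat_lit 1) [] ⟨[], (nat_lit 17), []⟩,
  Ent.split [⟨[], (nat_lit 18), []⟩, ⟨[], (nat_lit 19), []⟩],
  Ent.merge [(nat_lit 13)] (nat_lit 1) [] ⟨[], (nat_lit 20), []⟩,
  Ent.merge [(nat_lit 15), (nat_lit 17), (nat_lit 33), (nat_lit 35), (nat_lit 41)] (nat_lit 1) [] ⟨[], (nat_lit 21), []⟩,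
  Ent.split [⟨[], (nat_lit 22), []⟩, ⟨[], (nat_lit 23), []⟩],
  Ent.merge [(nat_lit 3), (nat_lit 9), (nat_lit 13), (nat_lit 27), (nat_lit 29), (nat_lit 35), (nat_lit 37), (nat_lit 39), (nat_lit 41)] (nat_lit 1) [] ⟨[], (nat_lit 24), []⟩,
  Ent.merge [(nat_lit 11), (nat_lit 15), (nat_lit 17), (nat_lit 19), (nat_lit 33), (nat_lit 35), (nat_lit 39), (nat_lit 43)] (nat_lit 1) [] ⟨[], (nat_lit 25), []⟩,
  Ent.split [⟨[], (nat_lit 26), []⟩, ⟨[], (nat_lit 27), []⟩],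
  Ent.merge [(nat_lit 15), (nat_lit 17), (nat_lit 33), (nat_lit 35), (nat_lit 41)] (nat_lit 1) [] ⟨[], (nat_lit 28), []⟩,
  Ent.merge [(nat_lit 15), (nat_lit 17), (nat_lit 33), (nat_lit 35), (nat_lit 41)] (nat_lit 1) [] ⟨[], (nat_lit 29), []⟩,
  Ent.split [⟨[], (nat_lit 30), []⟩, ⟨[], (nat_lit 31), []⟩],
  Ent.merge [(nat_lit 7), (nat_lit 9), (nat_lit 17), (nat_lit 19), (nat_lit 35), (nat_lit 37), (nat_lit 43)] (nat_lit 1) [] ⟨[], (nat_lit 32), []⟩,
  Ent.merge [(nat_lit 13)] (nat_lit 1) [] ⟨[], (nat_lit 33), []⟩,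
  Ent.merge [(nat_lit 11), (nat_lit 19)] (nat_lit 1) [] ⟨[], (nat_lit 34), []⟩,
  Ent.merge [(nat_lit 13)] (nat_lit 1) [] ⟨[], (nat_lit 35), []⟩,
  Ent.merge [(nat_lit 15)] (nat_lit 1) [] ⟨[], (nat_lit 36), []⟩,
  Ent.merge [(nat_lit 11), (nat_lit 13), (nat_lit 29), (nat_lit 31), (nat_lit 37), (nat_lit 41), (nat_lit 43)] (nat_lit 1) [] ⟨[], (nat_lit 37), []⟩,
  Ent.split [⟨[], (nat_lit 38), []⟩, ⟨[], (nat_lit 39), []⟩],
  Ent.merge [(nat_lit 3), (nat_lit 13), (nat_lit 29), (nat_lit 31), (nat_lit 37), (nat_lit 41), (nat_lit 43)] (nat_lit 1) [] ⟨[], (nat_lit 40), []⟩,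
  Ent.merge [(nat_lit 19)] (nat_lit 1) [] ⟨[], (nat_lit 41), []⟩,
  Ent.merge [(nat_lit 3), (nat_lit 7), (nat_lit 11), (nat_lit 17), (nat_lit 21), (nat_lit 23), (nat_lit 27), (nat_lit 31), (nat_lit 35), (nat_lit 39)] (nat_lit 1) [] ⟨[], (nat_lit 42), []⟩,
  Ent.merge [(nat_lit 1), (nat_lit 7), (nat_lit 13), (nat_lit 15), (nat_lit 17), (nat_lit 21), (nat_lit 23), (nat_lit 27), (nat_lit 31), (nat_lit 39), (nat_lit 41), (nat_lit 43)] (nat_lit 1) [] ⟨[], (nat_lit 43), []⟩,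
  Ent.merge [(nat_lit 3), (nat_lit 5), (nat_lit 7), (nat_lit 9), (nat_lit 11), (nat_lit 15), (nat_lit 17), (nat_lit 21), (nat_lit 23), (nat_lit 25), (nat_lit 31), (nat_lit 35), (nat_lit 41), (nat_lit 43)] (nat_lit 1) [] ⟨[], (nat_lit 44), []⟩,
  Ent.split [⟨[], (nat_lit 45), []⟩, ⟨[], (nat_lit 46), []⟩],
  Ent.merge [(nat_lit 11), (nat_lit 13), (nat_lit 15), (nat_lit 17), (nat_lit 19), (nat_lit 29), (nat_lit 31), (nat_lit 33), (nat_lit 39), (nat_lit 43)] (nat_lit 1) [] ⟨[], (nat_lit 47), []⟩,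
  Ent.merge [(nat_lit 29)] (nat_lit 1) [] ⟨[], (nat_lit 48), []⟩,
  Ent.merge [(nat_lit 29)] (nat_lit 1) [] ⟨[], (nat_lit 49), []⟩,
  Ent.merge [(nat_lit 29)] (nat_lit 1) [] ⟨[], (nat_lit 50), []⟩,
  Ent.merge [(nat_lit 29)] (nat_lit 1) [] ⟨[], (nat_lit 51), []⟩,
  Ent.dead (nat_lit 1) [],
  Ent.dead (nat_lit 1) [],
  Ent.merge [(nat_lit 29)] (nat_lit 1) [] ⟨[], (nat_lit 52), []⟩,
  Ent.dead (nat_lit 1) [],
  Ent.dead (nat_lit 1) [],
  Ent.merge [(nat_lit 35)] (nat_lit 1) [] ⟨[], (nat_lit 53), []⟩]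
noncomputable def a_F : List To := [⟨[], (nat_lit 0), []⟩,
  ⟨[(nat_lit 5), (nat_lit 46), (nat_lit 44), (nat_lit 46), (nat_lit 28), (nat_lit 46), (nat_lit 25), (nat_lit 1), (nat_lit 36), (nat_lit 19), (nat_lit 42), (nat_lit 36), (nat_lit 38), (nat_lit 11), (nat_lit 39), (nat_lit 37), (nat_lit 17), (nat_lit 36)], (nat_lit 4), []⟩,
  ⟨[(nat_lit 29), (nat_lit 11), (nat_lit 39), (nat_lit 32), (nat_lit 35), (nat_lit 25), (nat_lit 17), (nat_lit 31), (nat_lit 15), (nat_lit 39), (nat_lit 39), (nat_lit 39), (nat_lit 13), (nat_lit 37), (nat_lit 40), (nat_lit 19), (nat_lit 40), (nat_lit 23), (nat_lit 36), (nat_lit 7)], (nat_lit 4), []⟩,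
  ⟨[(nat_lit 36), (nat_lit 37), (nat_lit 19), (nat_lit 30), (nat_lit 7), (nat_lit 44), (nat_lit 37), (nat_lit 28), (nat_lit 7), (nat_lit 9), (nat_lit 21), (nat_lit 39), (nat_lit 11), (nat_lit 17), (nat_lit 36), (nat_lit 42), (nat_lit 15), (nat_lit 36), (nat_lit 37), (nat_lit 42)], (nat_lit 2), []⟩,
  ⟨[(nat_lit 42), (nat_lit 35), (nat_lit 5), (nat_lit 15), (nat_lit 36), (nat_lit 30), (nat_lit 33), (nat_lit 25), (nat_lit 7), (nat_lit 41), (nat_lit 7), (nat_lit 40), (nat_lit 38), (nat_lit 21), (nat_lit 41), (nat_lit 40), (nat_lit 37), (nat_lit 33), (nat_lit 19), (nat_lit 41)], (nat_lit 4), []⟩,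
  ⟨[(nat_lit 1), (nat_lit 25), (nat_lit 39), (nat_lit 27), (nat_lit 33), (nat_lit 32), (nat_lit 28), (nat_lit 35), (nat_lit 25), (nat_lit 39), (nat_lit 19), (nat_lit 17), (nat_lit 37), (nat_lit 19), (nat_lit 40), (nat_lit 42), (nat_lit 38), (nat_lit 40), (nat_lit 33)], (nat_lit 4), []⟩,
  ⟨[(nat_lit 31), (nat_lit 43), (nat_lit 29), (nat_lit 43), (nat_lit 38), (nat_lit 31), (nat_lit 46), (nat_lit 13), (nat_lit 23), (nat_lit 42), (nat_lit 37), (nat_lit 42), (nat_lit 23), (nat_lit 36), (nat_lit 7), (nat_lit 9), (nat_lit 39), (nat_lit 37)], (nat_lit 4), []⟩,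
  ⟨[(nat_lit 35), (nat_lit 40), (nat_lit 17), (nat_lit 41), (nat_lit 25), (nat_lit 27), (nat_lit 7), (nat_lit 13), (nat_lit 15), (nat_lit 41), (nat_lit 21), (nat_lit 39), (nat_lit 35), (nat_lit 11), (nat_lit 33), (nat_lit 19), (nat_lit 38), (nat_lit 13)], (nat_lit 2), []⟩,
  ⟨[(nat_lit 39), (nat_lit 32), (nat_lit 39), (nat_lit 31), (nat_lit 44), (nat_lit 46), (nat_lit 35), (nat_lit 26), (nat_lit 11), (nat_lit 33), (nat_lit 38), (nat_lit 17), (nat_lit 21), (nat_lit 41), (nat_lit 35), (nat_lit 17), (nat_lit 9), (nat_lit 41), (nat_lit 36), (nat_lit 7)], (nat_lit 4), []⟩,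
  ⟨[(nat_lit 33), (nat_lit 19), (nat_lit 37), (nat_lit 25), (nat_lit 27), (nat_lit 17), (nat_lit 41), (nat_lit 36), (nat_lit 13), (nat_lit 23), (nat_lit 38), (nat_lit 19), (nat_lit 37), (nat_lit 41), (nat_lit 33), (nat_lit 13), (nat_lit 42)], (nat_lit 2), []⟩,
  ⟨[(nat_lit 36), (nat_lit 39), (nat_lit 7), (nat_lit 25), (nat_lit 41), (nat_lit 32), (nat_lit 26), (nat_lit 27), (nat_lit 9), (nat_lit 39), (nat_lit 19), (nat_lit 35), (nat_lit 7), (nat_lit 38), (nat_lit 19), (nat_lit 35), (nat_lit 11), (nat_lit 41), (nat_lit 35), (nat_lit 19)], (nat_lit 4), []⟩,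
  ⟨[(nat_lit 9), (nat_lit 11), (nat_lit 25), (nat_lit 25), (nat_lit 1), (nat_lit 11), (nat_lit 40), (nat_lit 11), (nat_lit 40), (nat_lit 7), (nat_lit 38), (nat_lit 13), (nat_lit 42), (nat_lit 17), (nat_lit 19), (nat_lit 9), (nat_lit 37)], (nat_lit 2), []⟩,
  ⟨[(nat_lit 1), (nat_lit 31), (nat_lit 27), (nat_lit 7), (nat_lit 41), (nat_lit 29), (nat_lit 43), (nat_lit 29), (nat_lit 38), (nat_lit 41), (nat_lit 40), (nat_lit 21), (nat_lit 39), (nat_lit 39), (nat_lit 15), (nat_lit 41), (nat_lit 13), (nat_lit 38), (nat_lit 41)], (nat_lit 4), []⟩,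
  ⟨[(nat_lit 32), (nat_lit 40), (nat_lit 5), (nat_lit 31), (nat_lit 45), (nat_lit 38), (nat_lit 32), (nat_lit 26), (nat_lit 7), (nat_lit 41), (nat_lit 36), (nat_lit 7), (nat_lit 19), (nat_lit 38), (nat_lit 39), (nat_lit 21), (nat_lit 38), (nat_lit 11), (nat_lit 9), (nat_lit 41)], (nat_lit 4), []⟩,
  ⟨[(nat_lit 33), (nat_lit 5), (nat_lit 35), (nat_lit 43), (nat_lit 29), (nat_lit 11), (nat_lit 38), (nat_lit 28), (nat_lit 7), (nat_lit 13), (nat_lit 42), (nat_lit 9), (nat_lit 13), (nat_lit 37), (nat_lit 23), (nat_lit 21), (nat_lit 39), (nat_lit 38), (nat_lit 19), (nat_lit 41)], (nat_lit 4), []⟩,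
  ⟨[(nat_lit 21), (nat_lit 27), (nat_lit 30), (nat_lit 39), (nat_lit 7), (nat_lit 32), (nat_lit 30), (nat_lit 7), (nat_lit 21), (nat_lit 11), (nat_lit 33), (nat_lit 39), (nat_lit 19), (nat_lit 17), (nat_lit 38), (nat_lit 42), (nat_lit 23), (nat_lit 11), (nat_lit 33)], (nat_lit 2), []⟩,
  ⟨[(nat_lit 17), (nat_lit 36), (nat_lit 19), (nat_lit 43), (nat_lit 32), (nat_lit 41), (nat_lit 36), (nat_lit 43), (nat_lit 36), (nat_lit 40), (nat_lit 11), (nat_lit 41), (nat_lit 39), (nat_lit 17), (nat_lit 36), (nat_lit 40), (nat_lit 13), (nat_lit 33), (nat_lit 36)], (nat_lit 4), []⟩,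
  ⟨[(nat_lit 42), (nat_lit 43), (nat_lit 17), (nat_lit 30), (nat_lit 42), (nat_lit 30), (nat_lit 27), (nat_lit 1), (nat_lit 17), (nat_lit 40), (nat_lit 41), (nat_lit 40), (nat_lit 9), (nat_lit 37), (nat_lit 39), (nat_lit 19), (nat_lit 39), (nat_lit 11), (nat_lit 41), (nat_lit 7)], (nat_lit 4), []⟩,
  ⟨[(nat_lit 43), (nat_lit 45), (nat_lit 41), (nat_lit 39), (nat_lit 43), (nat_lit 9), (nat_lit 13), (nat_lit 35), (nat_lit 39), (nat_lit 15), (nat_lit 42), (nat_lit 42), (nat_lit 21), (nat_lit 23), (nat_lit 36), (nat_lit 39)], (nat_lit 2), []⟩,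
  ⟨[(nat_lit 5), (nat_lit 7), (nat_lit 30), (nat_lit 42), (nat_lit 9), (nat_lit 39), (nat_lit 46), (nat_lit 44), (nat_lit 26), (nat_lit 23), (nat_lit 33), (nat_lit 7), (nat_lit 15), (nat_lit 37), (nat_lit 23), (nat_lit 7), (nat_lit 36), (nat_lit 39), (nat_lit 41), (nat_lit 13)], (nat_lit 4), []⟩,
  ⟨[(nat_lit 35), (nat_lit 31), (nat_lit 5), (nat_lit 38), (nat_lit 41), (nat_lit 30), (nat_lit 41), (nat_lit 27), (nat_lit 7), (nat_lit 23), (nat_lit 33), (nat_lit 37), (nat_lit 39), (nat_lit 21), (nat_lit 38), (nat_lit 35), (nat_lit 15), (nat_lit 38), (nat_lit 13), (nat_lit 33)], (nat_lit 4), []⟩,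
  ⟨[(nat_lit 21), (nat_lit 27), (nat_lit 25), (nat_lit 46), (nat_lit 27), (nat_lit 41), (nat_lit 40), (nat_lit 31), (nat_lit 7), (nat_lit 41), (nat_lit 9), (nat_lit 17), (nat_lit 19), (nat_lit 36), (nat_lit 39), (nat_lit 41), (nat_lit 37), (nat_lit 21), (nat_lit 23)], (nat_lit 4), []⟩,
  ⟨[(nat_lit 13), (nat_lit 29), (nat_lit 42), (nat_lit 45), (nat_lit 26), (nat_lit 42), (nat_lit 46), (nat_lit 29), (nat_lit 7), (nat_lit 42), (nat_lit 39), (nat_lit 13), (nat_lit 15), (nat_lit 42), (nat_lit 11), (nat_lit 39), (nat_lit 17), (nat_lit 11), (nat_lit 39)], (nat_lit 2), []⟩,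
  ⟨[(nat_lit 11), (nat_lit 44), (nat_lit 39), (nat_lit 9), (nat_lit 46), (nat_lit 19), (nat_lit 29), (nat_lit 28), (nat_lit 9), (nat_lit 37), (nat_lit 39), (nat_lit 33), (nat_lit 39), (nat_lit 36), (nat_lit 7), (nat_lit 38), (nat_lit 41), (nat_lit 21), (nat_lit 39)], (nat_lit 4), []⟩,
  ⟨[(nat_lit 31), (nat_lit 15), (nat_lit 21), (nat_lit 32), (nat_lit 45), (nat_lit 45), (nat_lit 5), (nat_lit 46), (nat_lit 9), (nat_lit 39), (nat_lit 36), (nat_lit 21), (nat_lit 38), (nat_lit 40), (nat_lit 17), (nat_lit 19), (nat_lit 7), (nat_lit 38), (nat_lit 15), (nat_lit 40)], (nat_lit 4), []⟩,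
  ⟨[(nat_lit 46), (nat_lit 21), (nat_lit 41), (nat_lit 26), (nat_lit 13), (nat_lit 35), (nat_lit 40), (nat_lit 28), (nat_lit 11), (nat_lit 21), (nat_lit 40), (nat_lit 40), (nat_lit 15), (nat_lit 40), (nat_lit 19), (nat_lit 7), (nat_lit 33), (nat_lit 15), (nat_lit 13), (nat_lit 35)], (nat_lit 4), []⟩,
  ⟨[(nat_lit 29), (nat_lit 15), (nat_lit 26), (nat_lit 33), (nat_lit 25), (nat_lit 37), (nat_lit 33), (nat_lit 31), (nat_lit 11), (nat_lit 33), (nat_lit 13), (nat_lit 40), (nat_lit 13), (nat_lit 35), (nat_lit 23), (nat_lit 41), (nat_lit 41), (nat_lit 15), (nat_lit 36), (nat_lit 7)], (nat_lit 3), []⟩,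
  ⟨[(nat_lit 26), (nat_lit 26), (nat_lit 45), (nat_lit 42), (nat_lit 46), (nat_lit 7), (nat_lit 41), (nat_lit 13), (nat_lit 42), (nat_lit 13), (nat_lit 19), (nat_lit 41), (nat_lit 40), (nat_lit 23), (nat_lit 37), (nat_lit 37), (nat_lit 7)], (nat_lit 3), []⟩,
  ⟨[(nat_lit 3), (nat_lit 44), (nat_lit 33), (nat_lit 46), (nat_lit 33), (nat_lit 28), (nat_lit 46), (nat_lit 28), (nat_lit 26), (nat_lit 7), (nat_lit 23), (nat_lit 40), (nat_lit 37), (nat_lit 11), (nat_lit 17), (nat_lit 40), (nat_lit 9), (nat_lit 40), (nat_lit 11), (nat_lit 33), (nat_lit 17)], (nat_lit 3), []⟩,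
  ⟨[(nat_lit 36), (nat_lit 30), (nat_lit 42), (nat_lit 45), (nat_lit 15), (nat_lit 32), (nat_lit 28), (nat_lit 25), (nat_lit 17), (nat_lit 41), (nat_lit 23), (nat_lit 37), (nat_lit 13), (nat_lit 36), (nat_lit 41), (nat_lit 38), (nat_lit 13), (nat_lit 36), (nat_lit 19), (nat_lit 7)], (nat_lit 3), []⟩,
  ⟨[(nat_lit 33), (nat_lit 39), (nat_lit 36), (nat_lit 42), (nat_lit 25), (nat_lit 27), (nat_lit 33), (nat_lit 39), (nat_lit 37), (nat_lit 39), (nat_lit 17), (nat_lit 42), (nat_lit 13), (nat_lit 41), (nat_lit 9), (nat_lit 35), (nat_lit 21)], (nat_lit 1), []⟩,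
  ⟨[(nat_lit 7), (nat_lit 25), (nat_lit 36), (nat_lit 45), (nat_lit 29), (nat_lit 17), (nat_lit 40), (nat_lit 26), (nat_lit 7), (nat_lit 37), (nat_lit 13), (nat_lit 37), (nat_lit 15), (nat_lit 41), (nat_lit 9), (nat_lit 38), (nat_lit 42), (nat_lit 40), (nat_lit 37), (nat_lit 17)], (nat_lit 3), []⟩,
  ⟨[(nat_lit 25), (nat_lit 45), (nat_lit 36), (nat_lit 13), (nat_lit 29), (nat_lit 32), (nat_lit 36), (nat_lit 25), (nat_lit 9), (nat_lit 21), (nat_lit 41), (nat_lit 7), (nat_lit 33), (nat_lit 19), (nat_lit 39), (nat_lit 21), (nat_lit 42), (nat_lit 15), (nat_lit 33), (nat_lit 23)], (nat_lit 3), []⟩,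
  ⟨[(nat_lit 35), (nat_lit 7), (nat_lit 41), (nat_lit 7), (nat_lit 44), (nat_lit 27), (nat_lit 44), (nat_lit 26), (nat_lit 7), (nat_lit 35), (nat_lit 7), (nat_lit 36), (nat_lit 39), (nat_lit 9), (nat_lit 35), (nat_lit 42), (nat_lit 21), (nat_lit 19), (nat_lit 37), (nat_lit 42)], (nat_lit 3), []⟩,
  ⟨[(nat_lit 21), (nat_lit 26), (nat_lit 30), (nat_lit 43), (nat_lit 43), (nat_lit 36), (nat_lit 46), (nat_lit 7), (nat_lit 17), (nat_lit 23), (nat_lit 41), (nat_lit 36), (nat_lit 42), (nat_lit 38), (nat_lit 9), (nat_lit 36), (nat_lit 33), (nat_lit 19), (nat_lit 41)], (nat_lit 3), []⟩,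
  ⟨[(nat_lit 3), (nat_lit 38), (nat_lit 40), (nat_lit 32), (nat_lit 45), (nat_lit 19), (nat_lit 45), (nat_lit 3), (nat_lit 23), (nat_lit 37), (nat_lit 40), (nat_lit 13), (nat_lit 37), (nat_lit 35), (nat_lit 9), (nat_lit 11), (nat_lit 21), (nat_lit 33), (nat_lit 39)], (nat_lit 3), []⟩,
  ⟨[(nat_lit 17), (nat_lit 29), (nat_lit 28), (nat_lit 28), (nat_lit 17), (nat_lit 40), (nat_lit 28), (nat_lit 1), (nat_lit 35), (nat_lit 15), (nat_lit 36), (nat_lit 42), (nat_lit 37), (nat_lit 9), (nat_lit 42), (nat_lit 38), (nat_lit 17), (nat_lit 41), (nat_lit 40), (nat_lit 7)], (nat_lit 3), []⟩,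
  ⟨[(nat_lit 19), (nat_lit 35), (nat_lit 37), (nat_lit 27), (nat_lit 9), (nat_lit 38), (nat_lit 30), (nat_lit 5), (nat_lit 15), (nat_lit 19), (nat_lit 37), (nat_lit 40), (nat_lit 19), (nat_lit 35), (nat_lit 40), (nat_lit 23), (nat_lit 7), (nat_lit 35), (nat_lit 19)], (nat_lit 3), []⟩,
  ⟨[(nat_lit 7), (nat_lit 21), (nat_lit 45), (nat_lit 40), (nat_lit 43), (nat_lit 30), (nat_lit 42), (nat_lit 5), (nat_lit 11), (nat_lit 23), (nat_lit 38), (nat_lit 36), (nat_lit 39), (nat_lit 36), (nat_lit 11), (nat_lit 39), (nat_lit 19), (nat_lit 41), (nat_lit 11), (nat_lit 36)], (nat_lit 3), []⟩,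
  ⟨[(nat_lit 3), (nat_lit 44), (nat_lit 3), (nat_lit 41), (nat_lit 41), (nat_lit 35), (nat_lit 38)], (nat_lit 1), []⟩,
  ⟨[(nat_lit 15), (nat_lit 39), (nat_lit 46), (nat_lit 15), (nat_lit 17), (nat_lit 35), (nat_lit 29), (nat_lit 1), (nat_lit 11), (nat_lit 37), (nat_lit 36), (nat_lit 9), (nat_lit 13), (nat_lit 35), (nat_lit 40), (nat_lit 33), (nat_lit 42), (nat_lit 36), (nat_lit 41), (nat_lit 40)], (nat_lit 3), []⟩,
  ⟨[(nat_lit 13), (nat_lit 39), (nat_lit 39), (nat_lit 7), (nat_lit 29), (nat_lit 29), (nat_lit 43), (nat_lit 27), (nat_lit 13), (nat_lit 39), (nat_lit 7), (nat_lit 9), (nat_lit 7), (nat_lit 19), (nat_lit 35), (nat_lit 33), (nat_lit 42), (nat_lit 37), (nat_lit 11)], (nat_lit 3), []⟩,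
  ⟨[(nat_lit 39), (nat_lit 46), (nat_lit 5), (nat_lit 36), (nat_lit 32), (nat_lit 19), (nat_lit 29), (nat_lit 1), (nat_lit 35), (nat_lit 9), (nat_lit 40), (nat_lit 13), (nat_lit 11), (nat_lit 21), (nat_lit 42), (nat_lit 42), (nat_lit 15), (nat_lit 39), (nat_lit 36), (nat_lit 7)], (nat_lit 3), []⟩,
  ⟨[(nat_lit 45), (nat_lit 13), (nat_lit 11), (nat_lit 35), (nat_lit 25), (nat_lit 42), (nat_lit 26), (nat_lit 30), (nat_lit 35), (nat_lit 35), (nat_lit 37), (nat_lit 11), (nat_lit 38), (nat_lit 41), (nat_lit 23), (nat_lit 33), (nat_lit 7), (nat_lit 40), (nat_lit 23), (nat_lit 7)], (nat_lit 3), []⟩,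
  ⟨[(nat_lit 26), (nat_lit 39), (nat_lit 33), (nat_lit 32), (nat_lit 25), (nat_lit 29), (nat_lit 25), (nat_lit 5), (nat_lit 33), (nat_lit 19), (nat_lit 35), (nat_lit 40), (nat_lit 21), (nat_lit 38), (nat_lit 17), (nat_lit 42), (nat_lit 15), (nat_lit 41), (nat_lit 7), (nat_lit 35)], (nat_lit 4), []⟩,
  ⟨[(nat_lit 28), (nat_lit 46), (nat_lit 11), (nat_lit 42), (nat_lit 26), (nat_lit 21), (nat_lit 30), (nat_lit 1), (nat_lit 7), (nat_lit 23), (nat_lit 41), (nat_lit 40), (nat_lit 17), (nat_lit 41), (nat_lit 15), (nat_lit 33), (nat_lit 19), (nat_lit 15), (nat_lit 38)], (nat_lit 4), []⟩,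
  ⟨[(nat_lit 33), (nat_lit 40), (nat_lit 7), (nat_lit 35), (nat_lit 25), (nat_lit 29), (nat_lit 29), (nat_lit 25), (nat_lit 21), (nat_lit 33), (nat_lit 36), (nat_lit 37), (nat_lit 17), (nat_lit 35), (nat_lit 37), (nat_lit 35), (nat_lit 21), (nat_lit 17), (nat_lit 39)], (nat_lit 2), []⟩,
  ⟨[(nat_lit 41), (nat_lit 13), (nat_lit 36), (nat_lit 25), (nat_lit 28), (nat_lit 26), (nat_lit 26), (nat_lit 23), (nat_lit 37), (nat_lit 23), (nat_lit 21), (nat_lit 37), (nat_lit 13), (nat_lit 42), (nat_lit 19), (nat_lit 36), (nat_lit 36), (nat_lit 21)], (nat_lit 4), []⟩,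
  ⟨[(nat_lit 25), (nat_lit 41), (nat_lit 37), (nat_lit 45), (nat_lit 9), (nat_lit 43), (nat_lit 17), (nat_lit 32), (nat_lit 35), (nat_lit 7), (nat_lit 17), (nat_lit 15), (nat_lit 37), (nat_lit 40), (nat_lit 36), (nat_lit 40), (nat_lit 41), (nat_lit 7), (nat_lit 38)], (nat_lit 4), []⟩,
  ⟨[(nat_lit 21), (nat_lit 30), (nat_lit 41), (nat_lit 38), (nat_lit 42), (nat_lit 7), (nat_lit 42), (nat_lit 31), (nat_lit 40), (nat_lit 19), (nat_lit 40), (nat_lit 42), (nat_lit 13), (nat_lit 35), (nat_lit 15), (nat_lit 40), (nat_lit 37), (nat_lit 17), (nat_lit 37)], (nat_lit 2), []⟩,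
  ⟨[(nat_lit 32), (nat_lit 23), (nat_lit 45), (nat_lit 36), (nat_lit 3), (nat_lit 30), (nat_lit 43), (nat_lit 26), (nat_lit 7), (nat_lit 21), (nat_lit 33), (nat_lit 9), (nat_lit 39), (nat_lit 41), (nat_lit 39), (nat_lit 33), (nat_lit 13), (nat_lit 36), (nat_lit 33), (nat_lit 35)], (nat_lit 4), []⟩,
  ⟨[(nat_lit 23), (nat_lit 43), (nat_lit 31), (nat_lit 40), (nat_lit 32), (nat_lit 26), (nat_lit 7), (nat_lit 31), (nat_lit 41), (nat_lit 21), (nat_lit 37), (nat_lit 41), (nat_lit 37), (nat_lit 15), (nat_lit 37), (nat_lit 11), (nat_lit 21), (nat_lit 41), (nat_lit 13), (nat_lit 7)], (nat_lit 4), []⟩,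
  ⟨[(nat_lit 39), (nat_lit 23), (nat_lit 36), (nat_lit 30), (nat_lit 15), (nat_lit 31), (nat_lit 40), (nat_lit 29), (nat_lit 7), (nat_lit 19), (nat_lit 39), (nat_lit 23), (nat_lit 33), (nat_lit 9), (nat_lit 38), (nat_lit 40), (nat_lit 36), (nat_lit 37), (nat_lit 11), (nat_lit 38)], (nat_lit 3), []⟩,
  ⟨[(nat_lit 15), (nat_lit 28), (nat_lit 35), (nat_lit 31), (nat_lit 29), (nat_lit 19), (nat_lit 37), (nat_lit 40), (nat_lit 28), (nat_lit 15), (nat_lit 38), (nat_lit 11), (nat_lit 33), (nat_lit 13), (nat_lit 37), (nat_lit 40), (nat_lit 37), (nat_lit 36), (nat_lit 21)], (nat_lit 4), []⟩]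

theorem a_cen_0 : allFrom (cenAt (eqLq eq0) 2 a_gs a_pc) 0 14 = true := by decide +kernel
theorem a_cen_14 : allFrom (cenAt (eqLq eq0) 2 a_gs a_pc) 14 8 = true := by decide +kernel
theorem a_tor : lall2 (torOK (eqLq eq0) a_gs) a_zs a_zu = true := by decide +kernel
theorem a_u_inc : incOK a_u_pi 306936 488 = true := by decide +kernel
theorem a_u_wf : wfAll a_u_N 488 = true := by decide +kernel
theorem a_u_tab_0 : allFrom (tabOK a_u_N 488 9 9 10 a_u_TT) 0 16 = true := by decide +kernel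
theorem a_u_tab_16 : allFrom (tabOK a_u_N 488 9 9 10 a_u_TT) 16 7 = true := by decide +kernel
theorem a_u_tabs : Tabs a_u_N 488 10 9 a_u_TT 22 :=
  tabs_of (k := 9) (wf_of_wfAll a_u_wf) (by decide) (by decide) (by decide) (lt_add_all (lt_add_all lt_zero_all 16 a_u_tab_0) 7 a_u_tab_16)
theorem a_u_s_0 : allFrom (subT (evT TT (nat_lit 46) (nat_lit 10) (nat_lit 1023) (nat_lit 19) (nat_lit 524287)) (recT a_u_TT (nat_lit 10) (nat_lit 1023) (nat_lit 9) (nat_lit 511)) a_u_pi a_hs (nat_lit 488)) 0 6 = true := by decide +kernel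
theorem a_u_s_6 : allFrom (subT (evT TT (nat_lit 46) (nat_lit 10) (nat_lit 1023) (nat_lit 19) (nat_lit 524287)) (recT a_u_TT (nat_lit 10) (nat_lit 1023) (nat_lit 9) (nat_lit 511)) a_u_pi a_hs (nat_lit 488)) 6 5 = true := by decide +kernel
theorem a_ge : geOK a_u_N 488 (gensW 11) a_c 4194304 = true := by decide +kernel
theorem a_mem : memOK (eqLq eq0) a_gs a_hs [[(nat_lit 1)],  [(nat_lit 3)],  [(nat_lit 5)],  [(nat_lit 7)],  [(nat_lit 9)],  [(nat_lit 11)],  [(nat_lit 13)],  [(nat_lit 15)],  [(nat_lit 17)],  [(nat_lit 19)],  [(nat_lit 21)]] = true := by decide +kernel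
theorem a_e0_0 : allFrom (entAt (eqLq eq0) 2 a_gs (lapp a_gs (lapp a_zs [])) 0 a_X0 a_X1 a_E0) 0 1 = true := by decide +kernel
theorem a_e1_0 : allFrom (entAt (eqLq eq0) 2 a_gs (lapp a_gs (lapp a_zs [])) 1 a_X1 a_X2 a_E1) 0 2 = true := by decide +kernel
theorem a_e2_0 : allFrom (entAt (eqLq eq0) 2 a_gs (lapp a_gs (lapp a_zs [])) 2 a_X2 a_X3 a_E2) 0 4 = true := by decide +kernel
theorem a_e3_0 : allFrom (entAt (eqLq eq0) 2 a_gs (lapp a_gs (lapp a_zs [])) 3 a_X3 a_X4 a_E3) 0 8 = true := by decide +kernel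
theorem a_e4_0 : allFrom (entAt (eqLq eq0) 2 a_gs (lapp a_gs (lapp a_zs [])) 4 a_X4 a_X5 a_E4) 0 16 = true := by decide +kernel
theorem a_e5_0 : allFrom (entAt (eqLq eq0) 2 a_gs (lapp a_gs (lapp a_zs [])) 5 a_X5 a_X6 a_E5) 0 16 = true := by decide +kernel
theorem a_e6_0 : allFrom (entAt (eqLq eq0) 2 a_gs (lapp a_gs (lapp a_zs [])) 6 a_X6 a_X7 a_E6) 0 16 = true := by decide +kernel
theorem a_e7_0 : allFrom (entAt (eqLq eq0) 2 a_gs (lapp a_gs (lapp a_zs [])) 7 a_X7 a_X8 a_E7) 0 26 = true := by decide +kernel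
theorem a_e8_0 : allFrom (entAt (eqLq eq0) 2 a_gs (lapp a_gs (lapp a_zs [])) 8 a_X8 a_X9 a_E8) 0 20 = true := by decide +kernel
theorem a_nrm : nrmOK (eqLq eq0) a_ns (ldrop (9 + 1) a_gs) a_nu = true := by decide +kernel
theorem a_e9_0 : allFrom (entAt (eqLq eq0) 2 a_gs (lapp a_gs (lapp a_zs a_ns)) 9 a_X9 a_X10 a_E9) 0 19 = true := by decide +kernel
theorem a_e9_19 : allFrom (entAt (eqLq eq0) 2 a_gs (lapp a_gs (lapp a_zs a_ns)) 9 a_X9 a_X10 a_E9) 19 12 = true := by decide +kernel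
theorem a_e10_0 : allFrom (entAt (eqLq eq0) 2 a_gs (lapp a_gs (lapp a_zs [])) 10 a_X10 a_X11 a_E10) 0 3 = true := by decide +kernel
theorem a_e11_0 : allFrom (entAt (eqLq eq0) 2 a_gs (lapp a_gs (lapp a_zs [])) 11 a_X11 a_X12 a_E11) 0 6 = true := by decide +kernel
theorem a_e12_0 : allFrom (entAt (eqLq eq0) 2 a_gs (lapp a_gs (lapp a_zs [])) 12 a_X12 a_X13 a_E12) 0 12 = true := by decide +kernel
theorem a_e13_0 : allFrom (entAt (eqLq eq0) 2 a_gs (lapp a_gs (lapp a_zs [])) 13 a_X13 a_X14 a_E13) 0 18 = true := by decide +kernel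
theorem a_e14_0 : allFrom (entAt (eqLq eq0) 2 a_gs (lapp a_gs (lapp a_zs [])) 14 a_X14 a_X15 a_E14) 0 24 = true := by decide +kernel
theorem a_e15_0 : allFrom (entAt (eqLq eq0) 2 a_gs (lapp a_gs (lapp a_zs [])) 15 a_X15 a_X16 a_E15) 0 26 = true := by decide +kernel
theorem a_e16_0 : allFrom (entAt (eqLq eq0) 2 a_gs (lapp a_gs (lapp a_zs [])) 16 a_X16 a_X17 a_E16) 0 33 = true := by decide +kernel
theorem a_e17_0 : allFrom (entAt (eqLq eq0) 2 a_gs (lapp a_gs (lapp a_zs [])) 17 a_X17 a_X18 a_E17) 0 37 = true := by decide +kernel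
theorem a_e18_0 : allFrom (entAt (eqLq eq0) 2 a_gs (lapp a_gs (lapp a_zs [])) 18 a_X18 a_X19 a_E18) 0 38 = true := by decide +kernel
theorem a_e19_0 : allFrom (entAt (eqLq eq0) 2 a_gs (lapp a_gs (lapp a_zs [])) 19 a_X19 a_X20 a_E19) 0 38 = true := by decide +kernel
theorem a_e20_0 : allFrom (entAt (eqLq eq0) 2 a_gs (lapp a_gs (lapp a_zs [])) 20 a_X20 a_X21 a_E20) 0 46 = true := by decide +kernel
theorem a_e21_0 : allFrom (entAt (eqLq eq0) 2 a_gs (lapp a_gs (lapp a_zs [])) 21 a_X21 a_X22 a_E21) 0 50 = true := by decide +kernel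
theorem a_f_0 : allFrom (finAt (eqLq eq0) a_gs a_X22 [[], j1, j2, j3, j4] a_F) 0 54 = true := by decide +kernel

variable {G : Type*} [Group G] {D : Set G} {E : Dom (Cj G) 306936} {f : ℕ → G} {NN : List Net}

theorem a_u_reps (M : M24 D E f) : Reps (Dom.lst E a_u_pi a_u_inc) a_u_N (evs f a_hs) :=
  Reps.subT M.reps tabs (by decide) (wf_of_wfAll a_u_wf) a_u_tabs (l := 11) (by decide) rfl rfl a_u_inc
    (by decide) (by decide) (by decide) (by decide) (lt_add_all (lt_add_all lt_zero_all 6 a_u_s_0) 5 a_u_s_6)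
theorem a_cens (M : M24 D E f) : CenS f 2 a_gs :=
  have := M.finite
  ⟨M.sm0.eqLq.cenR (l := 22) rfl (lt_add_all (lt_add_all lt_zero_all 14 a_cen_0) 8 a_cen_14), by norm_num,
    (Reps.card_geT (a_u_reps M) (by decide) rfl a_ge).trans (card_le_of_le (M.sm0.eqLq.le a_mem))⟩
theorem a_cl0 (M : M24 D E f) : Cl f 2 a_gs ⊤ 0 a_X0 := Cl.zero _
theorem a_cl1 (M : M24 D E f) : Cl f 2 a_gs ⊤ 1 a_X1 :=
  have := M.finite
  (a_cl0 M).step' M.sm0.eqLq (a_cens M) a_tor (l := 1) (by decide +kernel) (lt_add_all lt_zero_all 1 a_e0_0)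
theorem a_cl2 (M : M24 D E f) : Cl f 2 a_gs ⊤ 2 a_X2 :=
  have := M.finite
  (a_cl1 M).step' M.sm0.eqLq (a_cens M) a_tor (l := 2) (by decide +kernel) (lt_add_all lt_zero_all 2 a_e1_0)
theorem a_cl3 (M : M24 D E f) : Cl f 2 a_gs ⊤ 3 a_X3 :=
  have := M.finite
  (a_cl2 M).step' M.sm0.eqLq (a_cens M) a_tor (l := 4) (by decide +kernel) (lt_add_all lt_zero_all 4 a_e2_0)
theorem a_cl4 (M : M24 D E f) : Cl f 2 a_gs ⊤ 4 a_X4 :=
  have := M.finite
  (a_cl3 M).step' M.sm0.eqLq (a_cens M) a_tor (l := 8) (by decide +kernel) (lt_add_all lt_zero_all 8 a_e3_0)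
theorem a_cl5 (M : M24 D E f) : Cl f 2 a_gs ⊤ 5 a_X5 :=
  have := M.finite
  (a_cl4 M).step' M.sm0.eqLq (a_cens M) a_tor (l := 16) (by decide +kernel) (lt_add_all lt_zero_all 16 a_e4_0)
theorem a_cl6 (M : M24 D E f) : Cl f 2 a_gs ⊤ 6 a_X6 :=
  have := M.finite
  (a_cl5 M).step' M.sm0.eqLq (a_cens M) a_tor (l := 16) (by decide +kernel) (lt_add_all lt_zero_all 16 a_e5_0)
theorem a_cl7 (M : M24 D E f) : Cl f 2 a_gs ⊤ 7 a_X7 :=
  have := M.finite
  (a_cl6 M).step' M.sm0.eqLq (a_cens M) a_tor (l := 16) (by decide +kernel) (lt_add_all lt_zero_all 16 a_e6_0)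
theorem a_cl8 (M : M24 D E f) : Cl f 2 a_gs ⊤ 8 a_X8 :=
  have := M.finite
  (a_cl7 M).step' M.sm0.eqLq (a_cens M) a_tor (l := 26) (by decide +kernel) (lt_add_all lt_zero_all 26 a_e7_0)
theorem a_cl9 (M : M24 D E f) : Cl f 2 a_gs ⊤ 9 a_X9 :=
  have := M.finite
  (a_cl8 M).step' M.sm0.eqLq (a_cens M) a_tor (l := 20) (by decide +kernel) (lt_add_all lt_zero_all 20 a_e8_0)
theorem a_cl10 (M : M24 D E f) : Cl f 2 a_gs ⊤ 10 a_X10 :=
  have := M.finite
  (a_cl9 M).stepN M.sm0.eqLq (a_cens M) a_tor a_nrm (l := 31) (by decide +kernel) (lt_add_all (lt_add_all lt_zero_all 19 a_e9_0) 12 a_e9_19)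
theorem a_cl11 (M : M24 D E f) : Cl f 2 a_gs ⊤ 11 a_X11 :=
  have := M.finite
  (a_cl10 M).step' M.sm0.eqLq (a_cens M) a_tor (l := 3) (by decide +kernel) (lt_add_all lt_zero_all 3 a_e10_0)
theorem a_cl12 (M : M24 D E f) : Cl f 2 a_gs ⊤ 12 a_X12 :=
  have := M.finite
  (a_cl11 M).step' M.sm0.eqLq (a_cens M) a_tor (l := 6) (by decide +kernel) (lt_add_all lt_zero_all 6 a_e11_0)
theorem a_cl13 (M : M24 D E f) : Cl f 2 a_gs ⊤ 13 a_X13 :=
  have := M.finite
  (a_cl12 M).step' M.sm0.eqLq (a_cens M) a_tor (l := 12) (by decide +kernel) (lt_add_all lt_zero_all 12 a_e12_0)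
theorem a_cl14 (M : M24 D E f) : Cl f 2 a_gs ⊤ 14 a_X14 :=
  have := M.finite
  (a_cl13 M).step' M.sm0.eqLq (a_cens M) a_tor (l := 18) (by decide +kernel) (lt_add_all lt_zero_all 18 a_e13_0)
theorem a_cl15 (M : M24 D E f) : Cl f 2 a_gs ⊤ 15 a_X15 :=
  have := M.finite
  (a_cl14 M).step' M.sm0.eqLq (a_cens M) a_tor (l := 24) (by decide +kernel) (lt_add_all lt_zero_all 24 a_e14_0)
theorem a_cl16 (M : M24 D E f) : Cl f 2 a_gs ⊤ 16 a_X16 :=
  have := M.finite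
  (a_cl15 M).step' M.sm0.eqLq (a_cens M) a_tor (l := 26) (by decide +kernel) (lt_add_all lt_zero_all 26 a_e15_0)
theorem a_cl17 (M : M24 D E f) : Cl f 2 a_gs ⊤ 17 a_X17 :=
  have := M.finite
  (a_cl16 M).step' M.sm0.eqLq (a_cens M) a_tor (l := 33) (by decide +kernel) (lt_add_all lt_zero_all 33 a_e16_0)
theorem a_cl18 (M : M24 D E f) : Cl f 2 a_gs ⊤ 18 a_X18 :=
  have := M.finite
  (a_cl17 M).step' M.sm0.eqLq (a_cens M) a_tor (l := 37) (by decide +kernel) (lt_add_all lt_zero_all 37 a_e17_0)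
theorem a_cl19 (M : M24 D E f) : Cl f 2 a_gs ⊤ 19 a_X19 :=
  have := M.finite
  (a_cl18 M).step' M.sm0.eqLq (a_cens M) a_tor (l := 38) (by decide +kernel) (lt_add_all lt_zero_all 38 a_e18_0)
theorem a_cl20 (M : M24 D E f) : Cl f 2 a_gs ⊤ 20 a_X20 :=
  have := M.finite
  (a_cl19 M).step' M.sm0.eqLq (a_cens M) a_tor (l := 38) (by decide +kernel) (lt_add_all lt_zero_all 38 a_e19_0)
theorem a_cl21 (M : M24 D E f) : Cl f 2 a_gs ⊤ 21 a_X21 :=
  have := M.finite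
  (a_cl20 M).step' M.sm0.eqLq (a_cens M) a_tor (l := 46) (by decide +kernel) (lt_add_all lt_zero_all 46 a_e20_0)
theorem a_cl22 (M : M24 D E f) : Cl f 2 a_gs ⊤ 22 a_X22 :=
  have := M.finite
  (a_cl21 M).step' M.sm0.eqLq (a_cens M) a_tor (l := 50) (by decide +kernel) (lt_add_all lt_zero_all 50 a_e21_0)
theorem a_all (M : M24 D E f) : ∀ y : G, y ^ 2 = 1 → ∃ r ∈ [[], j1, j2, j3, j4], IsConj y (ev f r) :=
  have := M.finite
  (a_cl22 M).all M.sm0.eqLq (a_cens M) (l := 54) (m := 598528723330813275) (by decide +kernel) (lt_add_all lt_zero_all 54 a_f_0)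
    (by rw [M.card]; norm_num) (by decide)

theorem invs (M : M24 D E f) (y : G) (hy : orderOf y = 2) : ∃ m, 1 ≤ m ∧ m ≤ 4 ∧ IsConj y (xs f m) := by
  obtain ⟨r, hr, h⟩ := a_all M y (hy ▸ pow_orderOf_eq_one y)
  simp only [List.mem_cons, List.not_mem_nil, or_false] at hr
  rcases hr with rfl | rfl | rfl | rfl | rfl
  · rw [ev_nil, isConj_one_left] at h
    rw [h, orderOf_one] at hy
    cases hy
  · exact ⟨1, by decide, by decide, h⟩
  · exact ⟨2, by decide, by decide, h⟩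
  · exact ⟨3, by decide, by decide, h⟩
  · exact ⟨4, by decide, by decide, h⟩

end CF.Fisch.F24.L2
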