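import Cfsg.Agent.Fisch.F24.Nets
import Cfsg.Agent.Fisch.St.Tab
import Cfsg.Agent.Fisch.F23.Model
import Cfsg.Agent.Comp.Fi24.Main

set_option autoImplicit false
set_option maxRecDepth 1000000
set_option maxHeartbeats 0
set_option Elab.async false

namespace CF.Fisch.F24

open CF.Comp CF.Fisch

noncomputable def w0 : List Nat := [(nat_lit 1)]
noncomputable def Q : Nat := ivl (nat_lit 1) (nat_lit 31672)
noncomputable def bs0 : List Nat := [(nat_lit 0), (nat_lit 31672), (nat_lit 31671), (nat_lit 2), (nat_lit 5), (nat_lit 10), (nat_lit 18), (nat_lit 32), (nat_lit 1), (nat_lit 3), (nat_lit 3511)]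
noncomputable def bs : List Nat := [(nat_lit 0), (nat_lit 45173), (nat_lit 89451), (nat_lit 41090), (nat_lit 311)]
noncomputable def ts : List (List Nat) := [[],
  [(nat_lit 26)],
  [(nat_lit 26), (nat_lit 26)],
  [(nat_lit 27), (nat_lit 11), (nat_lit 25)],
  [(nat_lit 11), (nat_lit 7), (nat_lit 27), (nat_lit 27)],
  [(nat_lit 25), (nat_lit 23), (nat_lit 21), (nat_lit 25)],
  [(nat_lit 25), (nat_lit 11), (nat_lit 25)],
  [(nat_lit 27), (nat_lit 13), (nat_lit 25), (nat_lit 25)],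
  [(nat_lit 27), (nat_lit 26), (nat_lit 27), (nat_lit 21), (nat_lit 25)],
  [(nat_lit 26), (nat_lit 27), (nat_lit 25), (nat_lit 13), (nat_lit 25)],
  [(nat_lit 25), (nat_lit 27), (nat_lit 15), (nat_lit 28), (nat_lit 3)],
  [(nat_lit 27), (nat_lit 25), (nat_lit 21), (nat_lit 25)]]
noncomputable def reb_ps : List (List Nat) := [[],
  [(nat_lit 26)],
  [(nat_lit 32)],
  [(nat_lit 44), (nat_lit 25)],
  [(nat_lit 27), (nat_lit 25)]]
noncomputable def reb_l : List Nat := [(nat_lit 0), (nat_lit 311), (nat_lit 3295), (nat_lit 3472), (nat_lit 20595), (nat_lit 27959), (nat_lit 31672), (nat_lit 32041), (nat_lit 41090), (nat_lit 45173), (nat_lit 46991), (nat_lit 55981), (nat_lit 62906), (nat_lit 69171), (nat_lit 70412), (nat_lit 89451), (nat_lit 111621), (nat_lit 119428), (nat_lit 120707), (nat_lit 153191), (nat_lit 175742), (nat_lit 179520), (nat_lit 183064), (nat_lit 271768)]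
noncomputable def reb_us : List (List Nat) := [[],
  [(nat_lit 3)],
  [(nat_lit 27), (nat_lit 25)],
  [(nat_lit 39), (nat_lit 1), (nat_lit 31), (nat_lit 29)],
  [(nat_lit 39), (nat_lit 35), (nat_lit 27), (nat_lit 29)],
  [(nat_lit 17), (nat_lit 27), (nat_lit 25), (nat_lit 32)],
  [(nat_lit 23), (nat_lit 44), (nat_lit 30), (nat_lit 31)],
  [(nat_lit 38), (nat_lit 13), (nat_lit 42), (nat_lit 31)],
  [(nat_lit 21), (nat_lit 42), (nat_lit 45), (nat_lit 29)],
  [(nat_lit 46), (nat_lit 31), (nat_lit 40), (nat_lit 27)],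
  [(nat_lit 45), (nat_lit 11), (nat_lit 38), (nat_lit 28), (nat_lit 3)],
  [(nat_lit 44), (nat_lit 41), (nat_lit 31), (nat_lit 26), (nat_lit 3)],
  [(nat_lit 41), (nat_lit 45), (nat_lit 27), (nat_lit 30)],
  [(nat_lit 33), (nat_lit 17), (nat_lit 41), (nat_lit 26), (nat_lit 3)],
  [(nat_lit 5), (nat_lit 43), (nat_lit 19), (nat_lit 45), (nat_lit 3)],
  [(nat_lit 31), (nat_lit 11), (nat_lit 46), (nat_lit 30), (nat_lit 3)],
  [(nat_lit 45), (nat_lit 11), (nat_lit 38), (nat_lit 27)],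
  [(nat_lit 28), (nat_lit 35), (nat_lit 38), (nat_lit 27)],
  [(nat_lit 3), (nat_lit 27), (nat_lit 25)],
  [(nat_lit 40), (nat_lit 11), (nat_lit 25), (nat_lit 30)],
  [(nat_lit 25), (nat_lit 19), (nat_lit 39), (nat_lit 29)]]
noncomputable def L23 : List (List Nat) := [[(nat_lit 1), (nat_lit 5)],
  [(nat_lit 1), (nat_lit 7)],
  [(nat_lit 1), (nat_lit 9)],
  [(nat_lit 1), (nat_lit 11)],
  [(nat_lit 1), (nat_lit 13)],
  [(nat_lit 1), (nat_lit 15)],
  [(nat_lit 1), (nat_lit 17)],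
  [(nat_lit 1), (nat_lit 19)],
  [(nat_lit 1), (nat_lit 21)],
  [(nat_lit 1), (nat_lit 23)],
  [(nat_lit 1), (nat_lit 7), (nat_lit 9), (nat_lit 11), (nat_lit 21), (nat_lit 13), (nat_lit 15), (nat_lit 17)],
  [(nat_lit 30), (nat_lit 37), (nat_lit 33), (nat_lit 30), (nat_lit 1), (nat_lit 29), (nat_lit 33), (nat_lit 38), (nat_lit 29), (nat_lit 1)],
  [(nat_lit 44), (nat_lit 11), (nat_lit 19), (nat_lit 39), (nat_lit 37), (nat_lit 21), (nat_lit 40), (nat_lit 40), (nat_lit 17), (nat_lit 9), (nat_lit 36), (nat_lit 41)],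
  [(nat_lit 28), (nat_lit 3), (nat_lit 27), (nat_lit 27), (nat_lit 26), (nat_lit 7), (nat_lit 21), (nat_lit 39), (nat_lit 37), (nat_lit 42), (nat_lit 19), (nat_lit 36), (nat_lit 13), (nat_lit 7), (nat_lit 38), (nat_lit 13), (nat_lit 41)],
  [(nat_lit 11), (nat_lit 21), (nat_lit 11), (nat_lit 7), (nat_lit 9), (nat_lit 7)],
  [(nat_lit 15), (nat_lit 28), (nat_lit 13), (nat_lit 29), (nat_lit 1), (nat_lit 30), (nat_lit 13), (nat_lit 27), (nat_lit 15), (nat_lit 1)],
  [(nat_lit 7), (nat_lit 46), (nat_lit 27), (nat_lit 42), (nat_lit 28), (nat_lit 9), (nat_lit 40), (nat_lit 21), (nat_lit 35), (nat_lit 40), (nat_lit 35), (nat_lit 7), (nat_lit 9), (nat_lit 35), (nat_lit 9), (nat_lit 11), (nat_lit 36)],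
  [(nat_lit 28), (nat_lit 17), (nat_lit 29), (nat_lit 25), (nat_lit 1), (nat_lit 26), (nat_lit 30), (nat_lit 17), (nat_lit 27), (nat_lit 1)],
  [(nat_lit 28), (nat_lit 13), (nat_lit 29), (nat_lit 1), (nat_lit 30), (nat_lit 13), (nat_lit 27), (nat_lit 1)],
  [(nat_lit 30), (nat_lit 17), (nat_lit 29), (nat_lit 36), (nat_lit 40), (nat_lit 7), (nat_lit 13), (nat_lit 23), (nat_lit 21), (nat_lit 39), (nat_lit 41), (nat_lit 9), (nat_lit 7), (nat_lit 37)],
  [(nat_lit 17), (nat_lit 39), (nat_lit 17), (nat_lit 38), (nat_lit 23), (nat_lit 11), (nat_lit 37), (nat_lit 17), (nat_lit 40), (nat_lit 17)],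
  [(nat_lit 21), (nat_lit 25), (nat_lit 21), (nat_lit 28), (nat_lit 1), (nat_lit 7), (nat_lit 36), (nat_lit 38), (nat_lit 42), (nat_lit 17), (nat_lit 42), (nat_lit 37), (nat_lit 36), (nat_lit 21), (nat_lit 15), (nat_lit 35), (nat_lit 7)],
  [(nat_lit 43), (nat_lit 11), (nat_lit 46), (nat_lit 46), (nat_lit 1), (nat_lit 21), (nat_lit 33), (nat_lit 42), (nat_lit 11), (nat_lit 33), (nat_lit 35), (nat_lit 37), (nat_lit 11), (nat_lit 40), (nat_lit 9), (nat_lit 33)],
  [(nat_lit 21), (nat_lit 25), (nat_lit 21), (nat_lit 28), (nat_lit 1), (nat_lit 21), (nat_lit 33), (nat_lit 21), (nat_lit 11), (nat_lit 42), (nat_lit 35), (nat_lit 15), (nat_lit 41), (nat_lit 35), (nat_lit 37), (nat_lit 37)],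
  [(nat_lit 40), (nat_lit 43), (nat_lit 26), (nat_lit 30), (nat_lit 1), (nat_lit 29), (nat_lit 25), (nat_lit 44), (nat_lit 39), (nat_lit 1)],
  [(nat_lit 21), (nat_lit 35), (nat_lit 33), (nat_lit 30), (nat_lit 1), (nat_lit 29), (nat_lit 33), (nat_lit 36), (nat_lit 21), (nat_lit 1)],
  [(nat_lit 7), (nat_lit 5), (nat_lit 7), (nat_lit 15), (nat_lit 11), (nat_lit 36), (nat_lit 37), (nat_lit 42), (nat_lit 42), (nat_lit 11), (nat_lit 41), (nat_lit 21), (nat_lit 37), (nat_lit 39)],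
  [(nat_lit 19), (nat_lit 29), (nat_lit 32), (nat_lit 1), (nat_lit 31), (nat_lit 30), (nat_lit 19), (nat_lit 1)]]
noncomputable def tr : List (List Nat) := [[(nat_lit 25)],
  [(nat_lit 27)],
  [(nat_lit 29)],
  [(nat_lit 31)]]
noncomputable def P12 : List (List Nat) := [[],
  [(nat_lit 26)],
  [(nat_lit 26), (nat_lit 26)],
  [(nat_lit 27), (nat_lit 11), (nat_lit 25)],
  [(nat_lit 26), (nat_lit 30)],
  [(nat_lit 25), (nat_lit 23), (nat_lit 21), (nat_lit 25)],
  [(nat_lit 25), (nat_lit 11), (nat_lit 25)],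
  [(nat_lit 13), (nat_lit 27), (nat_lit 30)],
  [(nat_lit 15), (nat_lit 28), (nat_lit 13), (nat_lit 29)],
  [(nat_lit 33), (nat_lit 36), (nat_lit 25), (nat_lit 25)],
  [(nat_lit 29), (nat_lit 11), (nat_lit 25), (nat_lit 25)],
  [(nat_lit 27), (nat_lit 25), (nat_lit 21), (nat_lit 25)]]

/-- the test for words in the letters of the model -/
noncomputable def eq0 : Sm := eqT TT (nat_lit 46) (nat_lit 10) (nat_lit 1023) (nat_lit 19) (nat_lit 524287) bs

theorem hnu : wfAll [nu] 306938 = true := by decide +kernel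
theorem hnu' : wfAll [nu] 306936 = true := by decide +kernel
theorem c1 : lall (fun w => eqB N0 bs0 (lapp w w0) (lapp w0 w)) Fi24.H1 = true := by decide +kernel
theorem c2 : trivB N0 bs0 (lapp w0 w0) = true := by decide +kernel
theorem c3 : Nat.beq (fixB N0 306936 19 w0) (Nat.lor Q (nat_lit 1)) = true := by decide +kernel
theorem c5 : sub (full 306936) (Nat.lor (Nat.lor Q (nat_lit 1)) (cover N0 Fi24.H1 12 [[nat_lit 3]])) = true := by decide +kernel
theorem c6 : trivB N0 bs0 (wpow (lapp w0 (rw w0 [nat_lit 3])) (nat_lit 3)) = true := by decide +kernel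
theorem c8_0 : allFrom (genOK N0 bs0 w0 ts) 0 3 = true := by decide +kernel
theorem c8_3 : allFrom (genOK N0 bs0 w0 ts) 3 3 = true := by decide +kernel
theorem c8_6 : allFrom (genOK N0 bs0 w0 ts) 6 3 = true := by decide +kernel
theorem c8_9 : allFrom (genOK N0 bs0 w0 ts) 9 3 = true := by decide +kernel
theorem c8 : allFrom (genOK N0 bs0 w0 ts) (nat_lit 0) 12 = true := allFrom_zero.2 (lt_add_all (lt_add_all (lt_add_all (lt_add_all lt_zero_all 3 c8_0) 3 c8_3) 3 c8_6) 3 c8_9)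
theorem c9 : lall (fun b => fixW N0 b [nat_lit 1]) (lmap (fun b => nu.app b) (31671 :: lmap Lvl.b Fi23.C)) = true := by decide +kernel
theorem c10 : fixW N0 31672 [nat_lit 1] = false := by decide +kernel
theorem reb : rebOK N 306936 Q w0 bs0 bs reb_ps 2 reb_l reb_us = true := by decide +kernel
theorem trO : sub (full 306936) (cover N tr 6 [[]]) = true := by decide +kernel
theorem popQ : Nat.beq (pop 306936 Q) 31671 = true := by decide +kernel
theorem l23a : allFrom (fun j => eq0 (nth [] L23 (10 + j)) (subst L23 (nth [] Fi23.W j))) 0 16 = true := by decide +kernel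
theorem l23b : allFrom (fun j => eq0 (nth [] L23 (26 + j)) (subst L23 (nth [] F23.W2 j))) 0 2 = true := by decide +kernel
theorem p12 : allFrom (fun i => eq0 [2 * i + 1] (rw w0 (nth [] P12 i))) 0 12 = true := by decide +kernel

end CF.Fisch.F24
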