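import Cfsg.Agent.Fisch.F24.NA
import Cfsg.Agent.Fisch.F24.NB
import Cfsg.Agent.Fisch.F24.NC
import Cfsg.Agent.Fisch.F24.ND
import Cfsg.Agent.Fisch.F24.NE
import Cfsg.Agent.Fisch.F24.TA
import Cfsg.Agent.Fisch.F24.TB
import Cfsg.Agent.Fisch.F24.TC
import Cfsg.Agent.Fisch.F24.TD

set_option autoImplicit false
set_option maxRecDepth 1000000
set_option maxHeartbeats 0

namespace CF.Fisch.F24

open CF.Comp

noncomputable def N0 : List Net := [n0, n1, n2, n3, n4, n5, n6, n7, n8, n9, n10, n11, n12, n13]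
noncomputable def N2 : List Net := [n14, n15, n16, n17, n18, n19, n20, n21, n22]
noncomputable def N : List Net := lapp N0 N2
noncomputable def TT : BT (BT Nat) := (BT.node (nat_lit 23) (BT.node (nat_lit 11) (BT.node (nat_lit 5) (BT.node (nat_lit 2) (BT.node (nat_lit 1) (BT.leaf tb_0) (BT.leaf tb_1)) (BT.node (nat_lit 3) (BT.leaf tb_2) (BT.node (nat_lit 4) (BT.leaf tb_3) (BT.leaf tb_4)))) (BT.node (nat_lit 8) (BT.node (nat_lit 6) (BT.leaf tb_5) (BT.node (nat_lit 7) (BT.leaf tb_6) (BT.leaf tb_7))) (BT.node (nat_lit 9) (BT.leaf tb_8) (BT.node (nat_lit 10) (BT.leaf tb_9) (BT.leaf tb_10))))) (BT.node (nat_lit 17) (BT.node (nat_lit 14) (BT.node (nat_lit 12) (BT.leaf tb_11) (BT.node (nat_lit 13) (BT.leaf tb_12) (BT.leaf tb_13))) (BT.node (nat_lit 15) (BT.leaf tb_14) (BT.node (nat_lit 16) (BT.leaf tb_15) (BT.leaf tb_16)))) (BT.node (nat_lit 20) (BT.node (nat_lit 18) (BT.leaf tb_17) (BT.node (nat_lit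 19) (BT.leaf tb_18) (BT.leaf tb_19))) (BT.node (nat_lit 21) (BT.leaf tb_20) (BT.node (nat_lit 22) (BT.leaf tb_21) (BT.leaf tb_22)))))) (BT.node (nat_lit 35) (BT.node (nat_lit 29) (BT.node (nat_lit 26) (BT.node (nat_lit 24) (BT.leaf tb_23) (BT.node (nat_lit 25) (BT.leaf tb_24) (BT.leaf tb_25))) (BT.node (nat_lit 27) (BT.leaf tb_26) (BT.node (nat_lit 28) (BT.leaf tb_27) (BT.leaf tb_28)))) (BT.node (nat_lit 32) (BT.node (nat_lit 30) (BT.leaf tb_29) (BT.node (nat_lit 31) (BT.leaf tb_30) (BT.leaf tb_31))) (BT.node (nat_lit 33) (BT.leaf tb_32) (BT.node (nat_lit 34) (BT.leaf tb_33) (BT.leaf tb_34))))) (BT.node (nat_lit 41) (BT.node (nat_lit 38) (BT.node (nat_lit 36) (BT.leaf tb_35) (BT.node (nat_lit 37) (BT.leaf tb_36) (BT.leaf tb_37))) (BT.node (nat_lit 39) (BT.leaf tb_38) (BT.node (nat_lit 40) (BT.leaf tb_39) (BT.leaf tb_40)))) (BT.node (nat_lit 44) (BT.node (nat_lit 42) (BT.leaf tb_41) (BT.node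 (nat_lit 43) (BT.leaf tb_42) (BT.leaf tb_43))) (BT.node (nat_lit 45) (BT.leaf tb_44) (BT.node (nat_lit 46) (BT.leaf tb_45) (BT.leaf tb_46)))))))
noncomputable def W0 : List (List Nat) := [[(nat_lit 1)],
  [(nat_lit 3)],
  [(nat_lit 5)],
  [(nat_lit 7)],
  [(nat_lit 9)],
  [(nat_lit 11)],
  [(nat_lit 13)],
  [(nat_lit 15)],
  [(nat_lit 17)],
  [(nat_lit 19)],
  [(nat_lit 21)],
  [(nat_lit 23)],
  [(nat_lit 25)],
  [(nat_lit 27)]]
noncomputable def W2 : List (List Nat) := [[(nat_lit 23), (nat_lit 28), (nat_lit 28), (nat_lit 17), (nat_lit 23), (nat_lit 13)],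
  [(nat_lit 29), (nat_lit 28), (nat_lit 30), (nat_lit 26), (nat_lit 19), (nat_lit 29)],
  [(nat_lit 21), (nat_lit 32), (nat_lit 28), (nat_lit 29), (nat_lit 32), (nat_lit 1), (nat_lit 31), (nat_lit 30), (nat_lit 27), (nat_lit 31), (nat_lit 21)],
  [(nat_lit 21), (nat_lit 13), (nat_lit 11), (nat_lit 33), (nat_lit 9), (nat_lit 17), (nat_lit 33), (nat_lit 7), (nat_lit 19), (nat_lit 9), (nat_lit 17), (nat_lit 33)],
  [(nat_lit 33), (nat_lit 13), (nat_lit 7), (nat_lit 23), (nat_lit 9), (nat_lit 33), (nat_lit 19), (nat_lit 35), (nat_lit 9), (nat_lit 15)],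
  [(nat_lit 9), (nat_lit 33), (nat_lit 35), (nat_lit 7), (nat_lit 9), (nat_lit 38), (nat_lit 9), (nat_lit 23)],
  [(nat_lit 37), (nat_lit 37), (nat_lit 15), (nat_lit 36), (nat_lit 33), (nat_lit 38), (nat_lit 36), (nat_lit 9)],
  [(nat_lit 41), (nat_lit 41), (nat_lit 35), (nat_lit 1), (nat_lit 38), (nat_lit 5)],
  [(nat_lit 5), (nat_lit 39), (nat_lit 39), (nat_lit 42), (nat_lit 44), (nat_lit 37)]]
noncomputable def L0 : List (List Nat) := [[(nat_lit 1)],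
  [(nat_lit 3)],
  [(nat_lit 5)],
  [(nat_lit 7)],
  [(nat_lit 9)],
  [(nat_lit 11)],
  [(nat_lit 13)],
  [(nat_lit 15)],
  [(nat_lit 17)],
  [(nat_lit 19)],
  [(nat_lit 21)],
  [(nat_lit 23)],
  [(nat_lit 25)],
  [(nat_lit 27)],
  [(nat_lit 29)],
  [(nat_lit 31)],
  [(nat_lit 33)],
  [(nat_lit 35)],
  [(nat_lit 37)],
  [(nat_lit 39)],
  [(nat_lit 41)],
  [(nat_lit 43)],
  [(nat_lit 45)]]
noncomputable def nu : Net := Net.cons (nat_lit 31671) (nat_lit 1) Net.nil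

end CF.Fisch.F24
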